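import Mathlib
import Cfsg.Prelude.Def_Classical
import Cfsg.Prelude.Def_CaseTheorems
import Cfsg.Agent.KS.Defs
import Cfsg.Agent.Cl.PSL2Points

/-!
# Split doubly transitive groups (Hering, Kantor, Seitz): definitions
-/

set_option autoImplicit false

namespace Cfsg.Agent.HKS

open Subgroup MulAction Cfsg.Agent.TT Cfsg.Agent.Perm.TT Cfsg.Agent.Cl.L2
open Cfsg.Agent.KS (St)
open scoped MatrixGroups

/-- Root groups: `U x` is nilpotent, fixes `x` and is regular on the other points. -/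
structure Sp (G Ω : Type*) [Group G] [MulAction G Ω] where
  U : Ω → Subgroup G
  fix : ∀ x, ∀ u ∈ U x, u • x = x
  conj : ∀ (g : G) x, ∀ u ∈ U x, g * u * g⁻¹ ∈ U (g • x)
  tr : ∀ x y z, y ≠ x → z ≠ x → ∃ u ∈ U x, u • y = z
  free : ∀ x y, y ≠ x → ∀ u ∈ U x, u • y = y → u = 1
  nil : ∀ x, Group.IsNilpotent (U x)

/-- The pointwise stabilizer. -/
abbrev W (G : Type*) {Ω : Type*} [Group G] [MulAction G Ω] (Δ : Set Ω) : Subgroup G :=
  fixingSubgroup G Δ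

/-- `s` inverts every element of `A`. -/
def Inv {G : Type*} [Group G] (s : G) (A : Subgroup G) : Prop := ∀ u ∈ A, s * u * s⁻¹ = u⁻¹

/-- `g` is a 2-element. -/
def El2 {G : Type*} [Group G] (g : G) : Prop := ∃ k : ℕ, g ^ 2 ^ k = 1

/-- The upper unitriangular matrix. -/
def up {F : Type*} [Field F] (a : F) : SL(2, F) := ⟨!![1, a; 0, 1], by simp [Matrix.det_fin_two]⟩

/-- The unique minimal normal subgroup: simple, with trivial centralizer, of odd index. -/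
structure MM {G : Type*} [Group G] (M : Subgroup G) : Prop where
  normal : M.Normal
  simple : IsSimpleGroup M
  nonab : ¬ IsMulCommutative M
  min : ∀ N : Subgroup G, N.Normal → N ≠ ⊥ → M ≤ N
  cen : centralizer (M : Set G) = ⊥
  odd : Odd M.index

/-- The socle is a projective special linear group of dimension two. -/
def G1 (G : Type*) [Group G] : Prop :=
  ∃ M : Subgroup G, MM M ∧ ∃ (F : Type) (_ : Field F) (_ : Fintype F), 4 ≤ Fintype.card F ∧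
    Nonempty (M ≃* PSL(2, F))

/-- The Sylow 2-subgroups are elementary abelian. -/
def ES (G : Type*) [Group G] : Prop := ∃ P : Sylow 2 G, ∀ g ∈ (P : Subgroup G), g * g = 1

/-- The Sylow 2-subgroups are elementary abelian of order eight. -/
def ES8 (G : Type*) [Group G] : Prop :=
  ∃ P : Sylow 2 G, Nat.card (P : Subgroup G) = 8 ∧ ∀ g ∈ (P : Subgroup G), g * g = 1

/-- Data in a group of 2-rank two: `L₀` is `SL₂(q)'`, normal in the centralizer of `t`. -/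
structure QD {K : Type*} [Group K] (t r : K) (L₀ : Subgroup K) (q : ℕ) : Prop where
  two : orderOf t = 2
  sq : r * r = t
  le : ∀ l ∈ L₀, Commute l t
  norm : ∀ g, Commute g t → ∀ l ∈ L₀, g * l * g⁻¹ ∈ L₀
  comm : ∀ l ∈ L₀, Commute l r
  quat : ∃ i ∈ L₀, ∃ j ∈ L₀, i * i = t ∧ j * j = t ∧ j * i * j⁻¹ = i⁻¹
  q4 : q % 4 = 3
  size : (q = 3 ∧ Nat.card L₀ = 8) ∨
    (3 < q ∧ ⁅L₀, L₀⁆ = L₀ ∧ Nat.card L₀ = q * (q ^ 2 - 1))

section Perm

variable (G Ω : Type*) [Group G] [MulAction G Ω]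

/-- Some involution fixes a point. -/
def HE : Prop := ∃ t : G, orderOf t = 2 ∧ (fixedBy Ω t).Nonempty

/-- Four-groups fix at most two points. -/
def K1 : Prop := ∀ s t : G, orderOf s = 2 → orderOf t = 2 → Commute s t → s ≠ t →
  (fixedBy Ω s ∩ fixedBy Ω t).ncard ≤ 2

/-- Four-groups fix no point. -/
def N4 : Prop := ∀ s t : G, orderOf s = 2 → orderOf t = 2 → Commute s t → s ≠ t →
  ∀ c : Ω, s • c = c → t • c = c → False

/-- The hypothesis on the two-point stabilizer in `S3402`. -/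
def H34 : Prop := ∃ a b : Ω, a ≠ b ∧ ∃ T : Sylow 2 ↥(stabilizer G a ⊓ stabilizer G b),
  IsMulCommutative ↥(T : Subgroup ↥(stabilizer G a ⊓ stabilizer G b)) ∨
    ∃ u ∈ (T : Subgroup ↥(stabilizer G a ⊓ stabilizer G b)), orderOf u = 2 ∧
      ∀ x ∈ (T : Subgroup ↥(stabilizer G a ⊓ stabilizer G b)), x ≠ 1 →
        ∀ ω : Ω, (x : G) • ω = ω → (u : G) • ω = ω

variable {G Ω}

/-- The four-group generated by `t`, `s` fixes the distinct points `x`, `y`. -/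
structure V4 (x y : Ω) (t s : G) : Prop where
  ne : y ≠ x
  t2 : orderOf t = 2
  s2 : orderOf s = 2
  comm : Commute t s
  ts : t ≠ s
  tx : t • x = x
  ty : t • y = y
  sx : s • x = x
  sy : s • y = y

end Perm

namespace Sp

variable {G Ω : Type*} [Group G] [MulAction G Ω] (S : Sp G Ω)

/-- The root group of the subset `Δ` at `x`. -/
def UD (Δ : Set Ω) (x : Ω) : Subgroup G := S.U x ⊓ St G Δ

/-- The group generated by the root groups of `Δ`. -/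
def L (Δ : Set Ω) : Subgroup G := ⨆ x ∈ Δ, S.UD Δ x

/-- Closed subsets. -/
def Cl (Δ : Set Ω) : Prop :=
  ∀ x ∈ Δ, ∀ y ∈ Δ, y ≠ x → ∀ u ∈ S.U x, u • y ∈ Δ → u ∈ St G Δ

open Classical in
/-- The element of `U x` sending `y` to `c`. -/
noncomputable def al (x y c : Ω) : G :=
  if h : y ≠ x ∧ c ≠ x then (S.tr x y c h.1 h.2).choose else 1

/-- The element of `U y` sending `x` to `a • y`. -/
noncomputable def de (x y : Ω) (a : G) : G := S.al y x (a • y)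

/-- The element of `U y * a * U y` interchanging `x` and `y`. -/
noncomputable def mu (x y : Ω) (a : G) : G := (S.de x y a)⁻¹ * a * S.de x y a⁻¹

/-- The action of `g` on the coordinates `a ↦ a • y`, `a ∈ U x`. -/
noncomputable def ap (x y : Ω) (g a : G) : G := S.al x y (g • a • y)

/-- Special elements. -/
def Spec (x y : Ω) (a : G) : Prop := S.de x y a⁻¹ = (S.de x y a)⁻¹

/-- Linear type: `Δ` is a projective line with its translations. -/
def TyL (Δ : Set Ω) : Prop :=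
  ∃ (F : Type) (_ : Field F) (_ : Fintype F) (E : P1 F → Ω), Function.Injective E ∧
    Set.range E = Δ ∧ (∀ a : F, ∃ u ∈ S.U (E inf), ∀ p, u • E p = E (pm !![1, a; 0, 1] • p)) ∧
    ∀ a : F, ∃ v ∈ S.U (E (pt 0)), ∀ p, v • E p = E (pm !![1, 0; a, 1] • p)

/-- Coordinates for the linear type. -/
structure LC (Δ : Set Ω) {F : Type} [Field F] (E : P1 F → Ω) (π : SL(2, F) →* G) : Prop where
  cl : S.Cl Δ
  two : (2 : F) ≠ 0
  inj : Function.Injective E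
  range : Set.range E = Δ
  act : ∀ (M : SL(2, F)) p, π M • E p = E (pm M.1 • p)
  rng : π.range = S.L Δ
  up_mem : ∀ a : F, π (up a) ∈ S.U (E inf)
  ud : ∀ u ∈ S.UD Δ (E inf), ∃ a : F, u = π (up a)
  semi : ∀ g ∈ St G Δ, ∃ A : M2 F, A.det ≠ 0 ∧ ∃ σ : F ≃+* F,
    ∀ p, g • E p = E (pm A • ptMap σ.toRingHom p)
  cj : ∀ g ∈ St G Δ, ∀ A : M2 F, A.det ≠ 0 → ∀ σ : F ≃+* F,
    (∀ p, g • E p = E (pm A • ptMap σ.toRingHom p)) → ∀ M M' : SL(2, F),
      M'.1 * A = A * M.1.map σ → g * π M * g⁻¹ = π M'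

/-- A closed subset of linear type in even degree. -/
structure LT (Δ : Set Ω) : Prop where
  ev : Even (Nat.card Ω)
  cl : S.Cl Δ
  ty : S.TyL Δ

/-- `g` fixes `x`, `y` and acts on the line `Δ` as a scalar. -/
structure Scal (Δ : Set Ω) (x y : Ω) (g : G) : Prop where
  st : g ∈ St G Δ
  fx : g • x = x
  fy : g • y = y
  comm : ∀ h ∈ S.L Δ, h • x = x → h • y = y → g * h * g⁻¹ * h⁻¹ ∈ W G Δ

/-- `μ` interchanges `x`, `y`, acts as an involution on `Δ`, and is not of the form excluded by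
the lemma `an0`. -/
structure AN (Δ : Set Ω) (x y : Ω) (μ : G) : Prop where
  hx : x ∈ Δ
  hy : y ∈ Δ
  ne : y ≠ x
  st : μ ∈ St G Δ
  sx : μ • x = y
  sy : μ • y = x
  sq : μ * μ ∈ W G Δ
  no : ∀ b ∈ S.UD Δ x, b ≠ 1 → μ • b • y = b⁻¹ • y →
    S.mu x y b * μ * (S.mu x y b * μ) ∉ W G Δ

/-- Solvable type: `N` is elementary abelian and regular on `Δ`. -/
structure DS (Δ : Set Ω) (N : Subgroup G) : Prop where
  cl : S.Cl Δ
  four : 4 ≤ Δ.ncard
  le : N ≤ S.L Δ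
  norm : ∀ g ∈ St G Δ, ∀ n ∈ N, g * n * g⁻¹ ∈ N
  sq : ∀ n ∈ N, n * n = 1
  trans : ∀ a ∈ Δ, ∀ b ∈ Δ, ∃ n ∈ N, n • a = b
  free : ∀ n ∈ N, ∀ a ∈ Δ, n • a = a → n = 1

/-- Unitary type. -/
structure DU (Δ : Set Ω) (q : ℕ) : Prop where
  cl : S.Cl Δ
  three : 3 ≤ q
  card : Δ.ncard = q ^ 3 + 1
  odd : Odd (Nat.card ↥(S.L Δ ⊓ W G Δ))
  nc : ∀ x ∈ Δ, ∃ u ∈ S.UD Δ x, ∃ v ∈ S.UD Δ x, ¬ Commute u v
  fix : ∀ z ∈ S.L Δ, orderOf z = 2 → (Δ ∩ fixedBy Ω z).ncard = q + 1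
  mem : ∀ z ∈ S.L Δ, orderOf z = 2 → z ∈ S.L (Δ ∩ fixedBy Ω z)
  cen : ∀ z ∈ S.L Δ, orderOf z = 2 → ∀ x ∈ Δ, z • x = x → ∀ u ∈ S.UD Δ x,
    (Commute u z ↔ ∀ v ∈ S.UD Δ x, Commute u v)
  pair : ∃ z ∈ S.L Δ, ∃ ρ ∈ S.L Δ, orderOf z = 2 ∧ Commute z (ρ * z * ρ⁻¹) ∧
    ∀ x ∈ Δ, z • x = x → (ρ * z * ρ⁻¹) • x ≠ x
  ua : ∀ g ∈ St G Δ, g * g ∈ W G Δ → ∃ x ∈ Δ, g • x = x

/-- Ree type. -/
structure DR (Δ : Set Ω) (q : ℕ) (A : Subgroup G) : Prop where
  cl : S.Cl Δ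
  q8 : q % 8 = 3
  le : A ≤ S.L Δ
  card : Nat.card A = 8
  sq : ∀ a ∈ A, a * a = 1
  tr : ∀ a ∈ A, ∀ b ∈ A, a ≠ 1 → b ≠ 1 →
    ∃ σ ∈ S.L Δ, (∀ c ∈ A, σ * c * σ⁻¹ ∈ A) ∧ σ * a * σ⁻¹ = b
  odd : Odd (Nat.card ↥(S.L Δ ⊓ W G Δ))
  syl : ∀ P ≤ St G Δ, IsPGroup 2 P → Nat.card P ≤ 8 * Nat.card ↥(P ⊓ W G Δ) ∧
    ∀ a ∈ P, ∀ b ∈ P, a * b * a⁻¹ * b⁻¹ ∈ W G Δ
  fix : ∀ s ∈ St G Δ, s * s ∈ W G Δ → s ∉ W G Δ → (Δ ∩ fixedBy Ω s).ncard = q + 1
  nmem : ∀ s ∈ St G Δ, s * s ∈ W G Δ → s ∉ W G Δ → s ∉ S.L (Δ ∩ fixedBy Ω s)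
  four : ∀ a ∈ A, ∀ b ∈ A, a ≠ 1 → b ≠ 1 → a ≠ b → ∀ x ∈ Δ, a • x = x → b • x ≠ x
  card8 : Δ.ncard % 8 = 4
  three : q = 3 → Δ.ncard = 28

/-- The types of closed subsets with at least four points. -/
def Ty (Δ : Set Ω) : Prop :=
  (8 ≤ Δ.ncard ∧ ∃ N, S.DS Δ N) ∨ S.TyL Δ ∨ (∃ q, S.DU Δ q) ∨ ∃ q A, S.DR Δ q A

/-- The root groups generate a unitary group in its natural action. -/
def U0 : Prop :=
  ∃ (F : Type) (_ : Field F) (_ : Fintype F) (q : ℕ), Fintype.card F = q ^ 2 ∧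
    Nat.card Ω = q ^ 3 + 1 ∧ Nonempty (S.L Set.univ ≃* Cfsg.PSU 3 F q)

/-- The conclusion of the theorem for a faithful action of even degree. -/
def Ty0 : Prop :=
  HasReg G Ω ∨ S.TyL Set.univ ∨ S.U0 ∨ ∃ q A, S.DR Set.univ q A

/-- The inductive situation. -/
structure Ctx : Prop where
  two : Two G Ω
  even : Even (Nat.card Ω)
  four : 4 ≤ Nat.card Ω
  gen : S.L Set.univ = ⊤
  nreg : ¬ HasReg G Ω
  ty : ∀ Δ, S.Cl Δ → Δ ≠ Set.univ → 4 ≤ Δ.ncard → S.Ty Δ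

/-- `S'` is the structure induced on the closed subset `Δ`. -/
structure Im (Δ : Set Ω) {B Δ' : Type*} [Group B] [MulAction B Δ'] (S' : Sp B Δ')
    (π : St G Δ →* B) (ι : Δ' → Ω) : Prop where
  cl : S.Cl Δ
  con : Con (St G Δ) Δ π ι
  U : ∀ x, S'.U x = ((S.U (ι x)).subgroupOf (St G Δ)).map π

/-- `S'` is the restriction to a subgroup containing the root groups. -/
structure Res (K : Subgroup G) (S' : Sp K Ω) : Prop where
  le : ∀ x, S.U x ≤ K
  U : ∀ x, S'.U x = (S.U x).subgroupOf K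

/-- No involution has unitary type. -/
def NoU : Prop := ∀ t : G, orderOf t = 2 → ∀ q, ¬ S.DU (fixedBy Ω t) q

/-- No involution has Ree type. -/
def NoR : Prop := ∀ t : G, orderOf t = 2 → ∀ q A, ¬ S.DR (fixedBy Ω t) q A

/-- Involutions with more than two fixed points have linear type. -/
def LL : Prop := ∀ t : G, orderOf t = 2 → 2 < (fixedBy Ω t).ncard → S.TyL (fixedBy Ω t)

/-- Involutions with a fixed point have linear type. -/
def AL : Prop := ∀ t : G, orderOf t = 2 → (fixedBy Ω t).Nonempty → S.TyL (fixedBy Ω t)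

/-- Involutions with a fixed point have solvable type of degree at most `Q`, or linear type;
the degree is divisible by four. -/
structure CS (Q : ℕ) : Prop where
  n4 : Nat.card Ω % 4 = 0
  ty : ∀ w : G, orderOf w = 2 → (fixedBy Ω w).Nonempty →
    (8 ≤ (fixedBy Ω w).ncard ∧ (fixedBy Ω w).ncard ≤ Q ∧ ∃ N, S.DS (fixedBy Ω w) N) ∨
      S.TyL (fixedBy Ω w)

/-- The situation of part C2: `t` has solvable type and commuting conjugates of `t` have no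
common fixed point. -/
structure C2 (t : G) (N : Subgroup G) : Prop where
  two : orderOf t = 2
  ds : S.DS (fixedBy Ω t) N
  r1 : ∀ w ∈ W G (fixedBy Ω t), w * w = 1 → Commute w t → w = 1 ∨ w = t
  nc : ∀ t', IsConj t t' → t' ≠ t → Commute t' t → ∀ c : Ω, t • c = c → t' • c ≠ c
  big : 8 ≤ (fixedBy Ω t).ncard ∨ N4 G Ω

/-- The centralizer of `t` in `U x` is normal in the stabilizer of `x`. -/
structure Cen (x y : Ω) (t s : G) : Prop extends V4 x y t s where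
  al : S.AL
  k1 : K1 G Ω
  inv : ∀ h : G, h • x = x → h • y = y → ∀ u ∈ S.U x, Commute u t → Commute (h * u * h⁻¹) t

/-- The involution `t` is of type `SL₂(q)` with `q ≡ 3 (mod 4)`, and its other commuting conjugates
have no fixed point on its axis. -/
structure SL3 (t : G) : Prop where
  two : orderOf t = 2
  ty : S.TyL (fixedBy Ω t)
  q4 : (fixedBy Ω t).ncard % 4 = 0
  mem : t ∈ S.L (fixedBy Ω t)
  r1 : ∀ w ∈ W G (fixedBy Ω t), w * w = 1 → w = 1 ∨ w = t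
  nc : ∀ t', IsConj t t' → t' ≠ t → Commute t' t → ∀ c : Ω, t • c = c → t' • c ≠ c

/-- Case I: the involution `t` fixes only `x` and `y`. -/
structure I0 (x y : Ω) (t : G) : Prop where
  ne : y ≠ x
  two : orderOf t = 2
  fix : fixedBy Ω t = {x, y}
  ll : S.LL

end Sp

end Cfsg.Agent.HKS
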