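import Mathlib
import Cfsg.Agent.HKS.Defs
import Cfsg.Agent.Inv.FzBasic
import Cfsg.Agent.Perm.BWFour
import Cfsg.Agent.GT.FourGroup
import Cfsg.Agent.GT.Frattini
import Cfsg.Agent.GT.PGroupBasic

/-! Closed subsets and their root groups -/

set_option autoImplicit false
set_option linter.unusedSectionVars false
set_option linter.unusedVariables false

namespace Cfsg.Agent.HKS

open Subgroup MulAction Cfsg.Agent.TT Cfsg.Agent.Perm.TT Cfsg.Agent.Cl.L2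
open Cfsg.Agent.KS (St)
open Cfsg.Agent.Inv.Fz hiding cj cj_def conj_mem_cj card_cj mem_cj
open scoped MatrixGroups Pointwise commutatorElement

variable {G Ω : Type*} [Group G] [MulAction G Ω] [Finite G] [Finite Ω] {S : Sp G Ω}
  {Δ Δ' : Set Ω} {x y : Ω}

namespace Basic

/-- The action of a subgroup of the stabilizer on the subset. -/
def sub {P : Subgroup G} (hle : P ≤ St G Δ) : SubMulAction P Ω := ⟨Δ, fun g _ hc => KS.St.smul_mem (hle g.2) hc⟩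

theorem cs (g u : G) : ∃ k, u = g * k * g⁻¹ := ⟨g⁻¹ * u * g, by group⟩

theorem sm (g k : G) (c : Ω) : (g * k * g⁻¹) • g • c = g • k • c := by rw [mul_smul, inv_smul_smul, mul_smul]

theorem all (g : G) {p : G → Prop} : (∀ u, p u) ↔ ∀ k : PLift G, p (g * k.1 * g⁻¹) :=
  ⟨fun h _ => h _, fun h u => by obtain ⟨k, rfl⟩ := cs g u; exact h ⟨k⟩⟩

theorem ex (g : G) {p : G → Prop} : (∃ u, p u) ↔ ∃ k : PLift G, p (g * k.1 * g⁻¹) :=
  ⟨fun ⟨u, h⟩ => by obtain ⟨k, rfl⟩ := cs g u; exact ⟨⟨k⟩, h⟩, fun ⟨_, h⟩ => ⟨_, h⟩⟩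

theorem alls {g : G} {p : Ω → Prop} : (∀ c ∈ g • Δ, p c) ↔ ∀ c ∈ Δ, p (g • c) := Set.forall_mem_image

theorem exs {g : G} {p : Ω → Prop} : (∃ c ∈ g • Δ, p c) ↔ ∃ c ∈ Δ, p (g • c) := Set.exists_mem_image

theorem ord (g k : G) : orderOf (g * k * g⁻¹) = orderOf k := (MulAut.conj g).orderOf_eq k

theorem cm {g a b : G} : Commute (g * a * g⁻¹) (g * b * g⁻¹) ↔ Commute a b := by
  rw [commute_iff_eq, commute_iff_eq, conj_mul, conj_mul, mul_left_inj, mul_right_inj]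

theorem comm {t u : G} (hu : u ∈ S.U x) (h : y ≠ x) (hx : t • x = x) (hy : t • y = y) (e : t • u • y = u • y) :
    Commute u t := by
  have h1 : t * u * t⁻¹ ∈ S.U x := by simpa only [hx] using S.conj t x u hu
  have h2 := S.free x y h _ (mul_mem (inv_mem hu) h1) (by
    rw [mul_smul, ← hy, sm, hy, e, inv_smul_smul])
  exact mul_inv_eq_iff_eq_mul.1 (inv_mul_eq_one.1 h2).symm |>.symm

theorem hall [Group.IsNilpotent G] {A : Subgroup G} (hc : (Nat.card A).Coprime A.index) {u : G}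
    (h : u ^ Nat.card A = 1) : u ∈ A := by
  have k : ∀ u ∈ normalizer (A : Set G), u ^ Nat.card A = 1 → u ∈ A := fun u hu h => by
    have h1 : u ^ A.relIndex (normalizer A) ∈ A := (A.subgroupOf (normalizer A)).pow_index_mem ⟨u, hu⟩
    obtain ⟨m, hm⟩ := exists_pow_eq_self_of_coprime (x := u) (n := A.relIndex (normalizer A))
      ((hc.symm.coprime_dvd_left (relIndex_dvd_index_of_le le_normalizer)).coprime_dvd_right (orderOf_dvd_of_pow_eq_one h))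
    exact hm ▸ pow_mem h1 m
  refine k u ?_ h
  rw [normalizerCondition_iff_only_full_group_self_normalizing.1 Group.normalizerCondition_of_isNilpotent
    (normalizer (A : Set G)) (le_antisymm (fun g hg => mem_normalizer_of_conj_mem fun a ha => k _
      ((mem_normalizer_iff.1 hg a).1 (le_normalizer ha)) ?_) le_normalizer)]
  · trivial
  · rw [conj_pow, show a ^ Nat.card A = 1 from congrArg Subtype.val (pow_card_eq_one' (x := (⟨a, ha⟩ : A)))]; simp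

end Basic

theorem mem_W {g : G} : g ∈ W G Δ ↔ ∀ c ∈ Δ, g • c = c :=
  mem_fixingSubgroup_iff G

theorem W_le_St : W G Δ ≤ St G Δ :=
  fun _ hg => KS.mem_St_of fun c hc => by rwa [mem_W.1 hg c hc]

theorem conj_mem_W {g w : G} (hg : g ∈ St G Δ) (hw : w ∈ W G Δ) : g * w * g⁻¹ ∈ W G Δ :=
  mem_W.2 fun c hc => by
    rw [mul_smul, mul_smul, mem_W.1 hw _ (KS.St.smul_mem (inv_mem hg) hc), smul_inv_smul]

theorem self_mem_W (t : G) : t ∈ W G (fixedBy Ω t) :=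
  mem_W.2 fun _ hc => hc

theorem mem_St_fix {g t : G} (h : Commute g t) : g ∈ St G (fixedBy Ω t) :=
  KS.mem_St_of fun c hc => by
    rw [mem_fixedBy, ← mul_smul, ← h.eq, mul_smul, mem_fixedBy.1 hc]

theorem mem_St_inter {g : G} (h : g ∈ St G Δ) (h' : g ∈ St G Δ') : g ∈ St G (Δ ∩ Δ') :=
  KS.mem_St_of fun _ hc => ⟨KS.St.smul_mem h hc.1, KS.St.smul_mem h' hc.2⟩

theorem fix_conj (g t : G) : fixedBy Ω (g * t * g⁻¹) = g • fixedBy Ω t :=
  (smul_fixedBy Ω t g).symm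

theorem conj_mem_St_smul {g k : G} : g * k * g⁻¹ ∈ St G (g • Δ) ↔ k ∈ St G Δ := by
  refine ⟨fun h => ?_, KS.conj_mem_St fun _ => Set.smul_mem_smul_set_iff⟩
  have := KS.conj_mem_St (g := g⁻¹) (S' := Δ) (fun _ => Set.mem_smul_set_iff_inv_smul_mem.symm) h
  simpa [mul_assoc] using this

theorem conj_mem_W_smul {g k : G} : g * k * g⁻¹ ∈ W G (g • Δ) ↔ k ∈ W G Δ := by
  simp only [mem_W, Basic.alls, mul_smul, inv_smul_smul, smul_left_cancel_iff]

theorem smul_eq_of_St {g : G} (hg : g ∈ St G Δ) : g • Δ = Δ :=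
  Set.ext fun c => by rw [Set.mem_smul_set_iff_inv_smul_mem, inv_mem hg c]

/-- An element acting as an involution on a set of even size which fixes a point fixes another. -/
theorem exists_snd_fix (he : Even Δ.ncard) {g : G} (hg : g ∈ St G Δ) (h2 : g * g ∈ W G Δ)
    (hx : x ∈ Δ) (hgx : g • x = x) : ∃ c ∈ Δ, c ≠ x ∧ g • c = c := by
  classical
  have := Fintype.ofFinite (Basic.sub (le_refl (St G Δ)))
  obtain ⟨c, h1, h2⟩ := Equiv.Perm.exists_fixed_point_of_prime' (p := 2) (n := 1)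
    (by rw [← Nat.card_eq_fintype_card]; exact he.two_dvd)
    (σ := MulAction.toPerm (β := Basic.sub (le_refl (St G Δ))) (⟨g, hg⟩ : St G Δ))
    (Equiv.ext fun c => Subtype.ext (by
      change g • g • (c : Ω) = c
      rw [← mul_smul, mem_W.1 h2 _ c.2])) (a := ⟨x, hx⟩) (Subtype.ext hgx)
  exact ⟨c, c.2, fun e => h2 (Subtype.ext e), congrArg Subtype.val h1⟩

/-- A 2-group on a set of even size which fixes a point fixes another. -/
theorem exists_snd_fix_pg (he : Even Δ.ncard) {P : Subgroup G} (hP : IsPGroup 2 P)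
    (hle : P ≤ St G Δ) (hx : x ∈ Δ) (hPx : ∀ g ∈ P, g • x = x) :
    ∃ c ∈ Δ, c ≠ x ∧ ∀ g ∈ P, g • c = c := by
  obtain ⟨c, h1, h2⟩ := hP.exists_fixed_point_of_prime_dvd_card_of_fixed_point (Basic.sub hle) he.two_dvd
    (a := ⟨x, hx⟩) fun g => Subtype.ext (hPx g g.2)
  exact ⟨c, c.2, fun e => h2 (Subtype.ext e.symm), fun g hg => congrArg Subtype.val (h1 ⟨g, hg⟩)⟩

/-- A 2-group has a short orbit. -/
theorem big_stab {P : Subgroup G} (hP : IsPGroup 2 P) (hle : P ≤ St G Δ) {j : ℕ}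
    (hn : ¬ 2 ^ (j + 1) ∣ Δ.ncard) :
    ∃ c ∈ Δ, Nat.card P ≤ 2 ^ j * Nat.card ↥(P ⊓ stabilizer G c) := by
  classical
  by_contra! h
  apply hn
  have := Fintype.ofFinite (orbitRel.Quotient P (Basic.sub hle))
  change _ ∣ Nat.card (Basic.sub hle)
  rw [Nat.card_congr (selfEquivSigmaOrbits P (Basic.sub hle)), Nat.card_sigma]
  refine Finset.dvd_sum fun ω _ => ?_
  obtain ⟨i, hi⟩ := hP.index (stabilizer P ω.out)
  have e : stabilizer P ω.out = (P ⊓ stabilizer G (ω.out : Ω)).subgroupOf P := by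
    ext g
    rw [inf_subgroupOf_left, mem_subgroupOf, mem_stabilizer_iff, mem_stabilizer_iff, Subtype.ext_iff]; rfl
  have h1 := (stabilizer P ω.out).index_mul_card
  have h2 := h _ ω.out.2
  rw [Nat.card_coe_set_eq, ← index_stabilizer, hi]
  rw [hi, e, Nat.card_congr (subgroupOfEquivOfLe inf_le_left).toEquiv] at h1
  rw [← h1] at h2
  exact pow_dvd_pow 2 ((pow_lt_pow_iff_right₀ one_lt_two).1 (lt_of_mul_lt_mul_right h2 (Nat.zero_le _)))

/-- The fixed point formula for a four-group acting on a group of odd order. -/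
theorem wiel {O : Subgroup G} (ho : Odd (Nat.card O)) {s t : G} (hs : s * s = 1) (ht : t * t = 1)
    (hc : Commute s t) (ns : ∀ u ∈ O, s * u * s⁻¹ ∈ O) (nt : ∀ u ∈ O, t * u * t⁻¹ ∈ O) :
    Nat.card O * Nat.card ↥(O ⊓ centralizer {s} ⊓ centralizer {t}) ^ 2 =
      Nat.card ↥(O ⊓ centralizer {s}) * Nat.card ↥(O ⊓ centralizer {t}) *
        Nat.card ↥(O ⊓ centralizer {s * t}) :=
  Perm.BW.formula ho hs ht hc (by simpa only [inv_eq_of_mul_eq_one_right hs] using ns)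
    (by simpa only [inv_eq_of_mul_eq_one_right ht] using nt)

/-- Generation by the centralizers of the involutions of a four-group. -/
theorem gen_four {O Y : Subgroup G} (ho : Odd (Nat.card O)) {s t : G} (hs : s * s = 1)
    (ht : t * t = 1) (hc : Commute s t) (ns : ∀ u ∈ O, s * u * s⁻¹ ∈ O)
    (nt : ∀ u ∈ O, t * u * t⁻¹ ∈ O) (h1 : ∀ u ∈ O, Commute u s → u ∈ Y)
    (h2 : ∀ u ∈ O, Commute u t → u ∈ Y) (h3 : ∀ u ∈ O, Commute u (s * t) → u ∈ Y) : O ≤ Y := by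
  by_cases s1 : s = 1
  · exact fun u hu => h1 u hu (s1 ▸ Commute.one_right u)
  by_cases t1 : t = 1
  · exact fun u hu => h2 u hu (t1 ▸ Commute.one_right u)
  by_cases e : s = t
  · exact fun u hu => h3 u hu (by rw [← e, hs]; exact Commute.one_right u)
  exact GT.le_of_four_group (orderOf_eq_prime (by rwa [pow_two]) s1) (orderOf_eq_prime (by rwa [pow_two]) t1) e hc
    (mem_normalizer_of_conj_mem ns) (mem_normalizer_of_conj_mem nt) (Nat.two_dvd_ne_zero.2 (Nat.odd_iff.1 ho))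
    (fun u hu => h1 u hu.1 (mem_centralizer_singleton_iff.1 hu.2))
    (fun u hu => h2 u hu.1 (mem_centralizer_singleton_iff.1 hu.2))
    fun u hu => h3 u hu.1 (mem_centralizer_singleton_iff.1 hu.2)

/-- An element of a group of odd order normalized by `t` is a product `c * w`, with `c` centralized
and `w` inverted by `t`, and `w` a power of the commutator. -/
theorem odd_dec {O : Subgroup G} (ho : Odd (Nat.card O)) {t : G} (ht : t * t = 1)
    (nt : ∀ u ∈ O, t * u * t⁻¹ ∈ O) {u : G} (hu : u ∈ O) :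
    ∃ c ∈ O, ∃ w ∈ O, u = c * w ∧ Commute c t ∧ t * w * t⁻¹ = w⁻¹ ∧
      w ∈ zpowers (u⁻¹ * (t * u * t⁻¹)) := by
  have hm : u⁻¹ * (t * u * t⁻¹) ∈ O := mul_mem (inv_mem hu) (nt u hu)
  have tm : t * (u⁻¹ * (t * u * t⁻¹)) * t⁻¹ = (u⁻¹ * (t * u * t⁻¹))⁻¹ := by
    calc _ = t * u⁻¹ * t⁻¹ * ((t * t) * u * (t * t)⁻¹) := by group
      _ = _ := by rw [ht]; group
  have e : t * u * t⁻¹ = u * (u⁻¹ * (t * u * t⁻¹)) := by group
  generalize u⁻¹ * (t * u * t⁻¹) = m at hm tm e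
  obtain ⟨k, hk⟩ := ho
  have h1 : m ^ (2 * k + 1) = 1 := by
    rw [← hk]; exact congrArg Subtype.val (pow_card_eq_one' (x := (⟨m, hm⟩ : O)))
  have tw : t * m ^ k * t⁻¹ = (m ^ k)⁻¹ := by rw [← conj_pow, tm, inv_pow]
  refine ⟨u * (m ^ k)⁻¹, mul_mem hu (inv_mem (pow_mem hm k)), m ^ k, pow_mem hm k, by group,
    (mul_inv_eq_iff_eq_mul.1 ?_).symm, tw, pow_mem (mem_zpowers m) k⟩
  calc _ = t * u * t⁻¹ * (t * m ^ k * t⁻¹)⁻¹ := by group
    _ = u * m ^ (2 * k + 1) * (m ^ k)⁻¹ := by rw [e, tw]; group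
    _ = _ := by rw [h1, mul_one]

/-- A supplement to the commutator subgroup of a nilpotent group is everything. -/
theorem nil_sup {U A : Subgroup G} (hU : Group.IsNilpotent U) (hA : A ≤ U)
    (h : U ≤ A ⊔ ⁅U, U⁆) : A = U := by
  have e : A.subgroupOf U ⊔ commutator U = ⊤ := map_injective U.subtype_injective (by
    rw [Subgroup.map_sup, map_subtype_commutator, map_subgroupOf_eq_of_le hA, ← MonoidHom.range_eq_map, range_subtype]
    exact le_antisymm (sup_le hA (commutator_le_self U)) h)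
  exact le_antisymm hA (subgroupOf_eq_top.1 (frattini_nongenerating (top_le_iff.1
    (e.ge.trans (sup_le_sup_left GT.commutator_le_frattini_of_isNilpotent _)))))

/-- A Hall subgroup of a nilpotent group contains all elements of the right order. -/
theorem nil_hall {U A : Subgroup G} (hU : Group.IsNilpotent U) (hA : A ≤ U) {m : ℕ}
    (hm : Nat.card U = Nat.card A * m) (hc : (Nat.card A).Coprime m) {u : G} (hu : u ∈ U)
    (h : u ^ Nat.card A = 1) : u ∈ A := by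
  have c1 : Nat.card (A.subgroupOf U) = Nat.card A := Nat.card_congr (subgroupOfEquivOfLe hA).toEquiv
  have c2 : (A.subgroupOf U).index = m :=
    Nat.eq_of_mul_eq_mul_left (Nat.card_pos (α := A)) (by rw [← hm, ← c1, card_mul_index])
  exact Basic.hall (A := A.subgroupOf U) (by rwa [c1, c2]) (u := ⟨u, hu⟩) (Subtype.ext (by rw [c1]; exact h))

/-- A nontrivial normal subgroup of a nilpotent group meets the centre. -/
theorem nil_cen {U A : Subgroup G} (hU : Group.IsNilpotent U) (hA : A ≤ U) (h1 : A ≠ ⊥)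
    (hn : ∀ u ∈ U, ∀ a ∈ A, u * a * u⁻¹ ∈ A) : ∃ a ∈ A, a ≠ 1 ∧ ∀ u ∈ U, Commute a u := by
  have : (A.subgroupOf U).Normal := ⟨fun a ha u => hn u u.2 a ha⟩
  obtain ⟨⟨a, h2, h3⟩, h4⟩ := ne_bot_iff_exists_ne_one.1 (GT.PG.inf_center_ne_bot (A.subgroupOf U) fun e =>
    h1 ((disjoint_iff.1 (subgroupOf_eq_bot.1 e)).symm.trans (inf_eq_left.2 hA)).symm)
  exact ⟨a, h2, fun e => h4 (Subtype.ext (Subtype.ext e)),
    fun u hu => (congrArg Subtype.val (mem_center_iff.1 h3 ⟨u, hu⟩)).symm⟩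

/-- In a 2-group `T` with a normal subgroup `R` properly containing the central involution `t`, its
only involution, some `w ∈ R` of order four generates a normal subgroup. -/
theorem exists_w1 {T R : Subgroup G} (hT : IsPGroup 2 T) (hR : R ≤ T)
    (hn : ∀ g ∈ T, ∀ r ∈ R, g * r * g⁻¹ ∈ R) {t : G} (ht : orderOf t = 2) (htR : t ∈ R)
    (h1 : ∀ r ∈ R, r * r = 1 → r = 1 ∨ r = t) (h4 : ∃ r ∈ R, r ≠ 1 ∧ r ≠ t) :
    ∃ w ∈ R, w * w = t ∧ ∀ g ∈ T, g * w * g⁻¹ = w ∨ g * w * g⁻¹ = w⁻¹ := by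
  have t2 : t * t = 1 := by rw [← pow_two, ← ht, pow_orderOf_eq_one]
  have t1 : t ≠ 1 := fun e => by simp [e] at ht
  have ct : ∀ g ∈ T, g * t * g⁻¹ = t := fun g hg => (h1 _ (hn g hg t htR) (by rw [conj_mul, t2]; simp)).resolve_left
    fun e => t1 (conj_eq_one_iff.1 e)
  let Z : Subgroup T :=
    { carrier := {g | (g : G) = 1 ∨ (g : G) = t}
      one_mem' := Or.inl rfl
      mul_mem' := by
        rintro a b (ha | ha) (hb | hb) <;> simp only [Set.mem_ofPred_eq, coe_mul, ha, hb, t2, mul_one, one_mul, true_or, or_true]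
      inv_mem' := by
        rintro a (ha | ha) <;> simp only [Set.mem_ofPred_eq, coe_inv, ha, inv_eq_of_mul_eq_one_right t2, inv_one, true_or, or_true] }
  have mZ : ∀ g : T, g ∈ Z ↔ (g : G) = 1 ∨ (g : G) = t := fun _ => Iff.rfl
  have : Z.Normal := ⟨fun a ha g => by
    rcases (mZ a).1 ha with h | h <;> simp [mZ, h, ct g g.2]⟩
  have : (R.subgroupOf T).Normal := ⟨fun a ha u => hn u u.2 a ha⟩
  have : ((R.subgroupOf T).map (QuotientGroup.mk' Z)).Normal := Normal.map inferInstance _ (QuotientGroup.mk'_surjective Z)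
  have hQ := hT.to_quotient Z
  have := hQ.isNilpotent
  have h5 := GT.PG.inf_center_ne_bot ((R.subgroupOf T).map (QuotientGroup.mk' Z)) fun e => by
    obtain ⟨r, hr, r1, r2⟩ := h4
    have : QuotientGroup.mk' Z ⟨r, hR hr⟩ ∈ (⊥ : Subgroup _) := e ▸ mem_map_of_mem _ hr
    exact ((mZ _).1 ((QuotientGroup.eq_one_iff _).1 this)).elim r1 r2
  obtain ⟨k, hk⟩ := IsPGroup.iff_card.1 (hQ.to_subgroup ((R.subgroupOf T).map (QuotientGroup.mk' Z) ⊓ center _))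
  obtain ⟨⟨_, ⟨w, hw, rfl⟩, wc⟩, ho⟩ := exists_prime_orderOf_dvd_card' (G := ↥((R.subgroupOf T).map (QuotientGroup.mk' Z) ⊓
    center _)) 2 (hk ▸ dvd_pow_self 2 fun e => h5 (card_eq_one.1 (by rw [hk, e, pow_zero])))
  replace ho : orderOf (w : T ⧸ Z) = 2 := (orderOf_coe _).trans ho
  have wZ : w ∉ Z := fun e => by simp [(QuotientGroup.eq_one_iff w).2 e] at ho
  have w2 : (w : G) * w = t := by
    have : w * w ∈ Z := (QuotientGroup.eq_one_iff _).1 (by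
      rw [← pow_two, QuotientGroup.mk_pow, ← ho]; exact pow_orderOf_eq_one _)
    exact ((mZ _).1 this).resolve_left fun e => wZ (h1 w hw e)
  refine ⟨w, hw, w2, fun g hg => ?_⟩
  have : (w⁻¹ * (⟨g, hg⟩ * w * ⟨g, hg⟩⁻¹) : T) ∈ Z := QuotientGroup.eq.1 (by
    rw [QuotientGroup.mk_mul, QuotientGroup.mk_mul, QuotientGroup.mk_inv]
    exact (mul_inv_eq_iff_eq_mul.2 (mem_center_iff.1 wc _)).symm)
  refine ((mZ _).1 this).imp (fun e => (inv_mul_eq_one.1 e).symm) fun e => ?_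
  refine (inv_mul_eq_iff_eq_mul.1 e).trans (eq_inv_of_mul_eq_one_left ?_)
  rw [← w2, mul_assoc, mul_assoc, ← mul_assoc, w2, t2]

/-- Sylow subgroups and a product of two commuting normal subgroups. -/
theorem syl_dec {N T A B : Subgroup G} (hT : IsPGroup 2 T) (hTN : T ≤ N)
    (hodd : ¬ 2 ∣ T.relIndex N) (hA : A ≤ N) (hB : B ≤ N) (nA : ∀ g ∈ N, ∀ a ∈ A, g * a * g⁻¹ ∈ A)
    (nB : ∀ g ∈ N, ∀ b ∈ B, g * b * g⁻¹ ∈ B) (hc : ∀ a ∈ A, ∀ b ∈ B, Commute a b) {g : G}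
    (hg : g ∈ T) (h : g ∈ A ⊔ B) : ∃ a ∈ T ⊓ A, ∃ b ∈ T ⊓ B, g = a * b := by
  have sy := (isSylIn_of_not_dvd hTN hT hodd).inf_of_le_normalizer hA fun n hn => mem_normalizer_of_conj_mem (nA n hn)
  obtain ⟨a, ha, b, hb, e⟩ := (mem_sup_iff_of_le_normalizer fun a ha => mem_normalizer_of_conj_mem (nB a (hA ha))).1 h
  obtain ⟨k, hk⟩ := hT ⟨g, hg⟩
  obtain ⟨j, hj⟩ := exists_pow_coprime (p := 2) a
  obtain ⟨n, n1, n2⟩ := Nat.chineseRemainder (hj.symm.pow_left k) 1 0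
  have e' : g = a ^ n * b ^ n := by
    rw [← (hc a ha b hb).mul_pow, ← e, pow_eq_pow_mod n (congrArg Subtype.val hk :), n1,
      ← pow_eq_pow_mod 1 (congrArg Subtype.val hk :), pow_one]
  have a2 : (a ^ n) ^ 2 ^ j = 1 := by
    rw [← pow_mul, mul_comm, pow_mul]; exact orderOf_dvd_iff_pow_eq_one.1 (Nat.modEq_zero_iff_dvd.1 n2)
  have ha' := pow_mem ha n
  have hb' := pow_mem hb n
  generalize a ^ n = a' at *
  generalize b ^ n = b' at *
  have aT : a' ∈ T ⊓ A := by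
    refine (sy.eq_of_le (Q := zpowers a' ⊔ T ⊓ A) (IsPGroup.to_sup_of_normal_right' ?_ sy.isPGroup ?_)
      (sup_le (zpowers_le.2 ha') inf_le_right) le_sup_right).le (mem_sup_left (mem_zpowers _))
    · rintro ⟨_, i, rfl⟩
      exact ⟨j, Subtype.ext (by simp only [SubgroupClass.coe_pow]; rw [← zpow_natCast, ← zpow_mul, mul_comm, zpow_mul,
        zpow_natCast, a2, one_zpow]; rfl)⟩
    · refine zpowers_le.2 (mem_normalizer_of_conj_mem fun p hp => mem_inf.2 ⟨?_, nA _ (hA ha') _ hp.2⟩)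
      have : a' * p * a'⁻¹ = g * p * g⁻¹ := by rw [e', mul_assoc a' b', ← (hc p hp.2 b' hb').eq]; group
      rw [this]
      exact mul_mem (mul_mem hg (mem_inf.1 hp).1) (inv_mem hg)
  exact ⟨a', aT, b', mem_inf.2 ⟨by simpa [e'] using mul_mem (inv_mem (mem_inf.1 aT).1) hg, hb'⟩, e'⟩

namespace Sp

theorem conj_iff {g u : G} : g * u * g⁻¹ ∈ S.U (g • x) ↔ u ∈ S.U x :=
  ⟨fun h => by simpa [mul_assoc] using S.conj g⁻¹ _ _ h, S.conj g x u⟩

theorem conj_fix {g u : G} (hg : g • x = x) (hu : u ∈ S.U x) : g * u * g⁻¹ ∈ S.U x := by simpa only [hg] using S.conj g x u hu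

theorem ext_U {u v : G} (hu : u ∈ S.U x) (hv : v ∈ S.U x) (h : y ≠ x) (e : u • y = v • y) : u = v :=
  (inv_mul_eq_one.1 (S.free x y h _ (mul_mem (inv_mem hv) hu) (by rw [mul_smul, e, inv_smul_smul]))).symm

theorem smul_ne {u : G} (hu : u ∈ S.U x) (h : y ≠ x) : u • y ≠ x :=
  fun e => h (MulAction.injective u (e.trans (S.fix x u hu).symm))

theorem card_U (h : y ≠ x) : Nat.card (S.U x) + 1 = Nat.card Ω := by
  have e : S.U x ≃ ↥((Set.univ : Set Ω) \ {x}) := Equiv.ofBijective (fun u => ⟨u.1 • y, trivial, smul_ne u.2 h⟩)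
    ⟨fun u v e => Subtype.ext (ext_U u.2 v.2 h (congrArg Subtype.val e)), fun c => by
      obtain ⟨u, hu, e⟩ := S.tr x y c h c.2.2
      exact ⟨⟨u, hu⟩, Subtype.ext e⟩⟩
  rw [Nat.card_congr e, Nat.card_coe_set_eq, Set.ncard_sdiff_singleton_add_one (Set.mem_univ x), Set.ncard_univ]

theorem odd_U (he : Even (Nat.card Ω)) (h : y ≠ x) : Odd (Nat.card (S.U x)) := by rwa [← card_U (S := S) h, Nat.even_add_one, Nat.not_even_iff_odd] at he

/-- An element fixing `x`, `y` and centralizing `U x` fixes every point. -/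
theorem fix_all {g : G} (h : y ≠ x) (hx : g • x = x) (hy : g • y = y)
    (hc : ∀ u ∈ S.U x, Commute u g) (c : Ω) : g • c = c := by
  by_cases e : c = x
  · rwa [e]
  obtain ⟨u, hu, rfl⟩ := S.tr x y c h e
  rw [← mul_smul, ← (hc u hu).eq, mul_smul, hy]

theorem mem_UD {u : G} : u ∈ S.UD Δ x ↔ u ∈ S.U x ∧ u ∈ St G Δ :=
  Iff.rfl

theorem UD_le_L (hx : x ∈ Δ) : S.UD Δ x ≤ S.L Δ :=
  le_iSup₂ (f := fun x (_ : x ∈ Δ) => S.UD Δ x) x hx

theorem L_le_St : S.L Δ ≤ St G Δ :=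
  iSup₂_le fun _ _ => inf_le_right

theorem L_le {K : Subgroup G} (h : ∀ x ∈ Δ, S.UD Δ x ≤ K) : S.L Δ ≤ K :=
  iSup₂_le h

theorem conj_mem_UD_smul {g u : G} : g * u * g⁻¹ ∈ S.UD (g • Δ) (g • x) ↔ u ∈ S.UD Δ x :=
  and_congr conj_iff conj_mem_St_smul

theorem conj_mem_L_smul {g l : G} : g * l * g⁻¹ ∈ S.L (g • Δ) ↔ l ∈ S.L Δ := by
  have k : ∀ (g : G) (Δ : Set Ω), ∀ l ∈ S.L Δ, g * l * g⁻¹ ∈ S.L (g • Δ) := fun g Δ =>
    cj_le_iff.1 (map_le_iff_le_comap.2 (L_le fun x hx u hu =>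
      UD_le_L (Set.smul_mem_smul_set hx) (conj_mem_UD_smul.2 hu)))
  exact ⟨fun h => by simpa [mul_assoc] using k g⁻¹ _ _ h, k g Δ l⟩

theorem conj_mem_L {g l : G} (hg : g ∈ St G Δ) (hl : l ∈ S.L Δ) : g * l * g⁻¹ ∈ S.L Δ := by simpa only [smul_eq_of_St hg] using (conj_mem_L_smul (g := g)).2 hl

theorem conj_mem_UD {g u : G} (hg : g ∈ St G Δ) (hx : g • x = x) (hu : u ∈ S.UD Δ x) :
    g * u * g⁻¹ ∈ S.UD Δ x := by simpa only [smul_eq_of_St hg, hx] using (conj_mem_UD_smul (g := g)).2 hu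

theorem commute_L_W (hΔ : Δ.Nontrivial) {l w : G} (hl : l ∈ S.L Δ) (hw : w ∈ W G Δ) : Commute l w := by
  refine mem_centralizer_singleton_iff.1 (L_le (fun x hx u hu => mem_centralizer_singleton_iff.2 ?_) hl)
  obtain ⟨y, hy, h⟩ := hΔ.exists_ne x
  refine (mul_inv_eq_iff_eq_mul.1 (ext_U (conj_fix (mem_W.1 hw x hx) hu.1) hu.1 h ?_)).symm
  rw [mul_smul, mul_smul, mem_W.1 (inv_mem hw) y hy, mem_W.1 hw _ (KS.St.smul_mem hu.2 hy)]

theorem mem_sup_LW (hΔ : Δ.Nontrivial) {g : G} :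
    g ∈ S.L Δ ⊔ W G Δ ↔ ∃ l ∈ S.L Δ, ∃ w ∈ W G Δ, g = l * w :=
  mem_sup_iff_of_le_normalizer fun _ hl =>
    mem_normalizer_of_conj_mem fun _ hw => conj_mem_W (L_le_St hl) hw

theorem cl_univ : S.Cl Set.univ :=
  fun _ _ _ _ _ _ _ _ _ => Iff.rfl

theorem UD_univ : S.UD Set.univ x = S.U x :=
  inf_eq_left.2 fun _ _ _ => Iff.rfl

theorem cl_fix (t : G) : S.Cl (fixedBy Ω t) :=
  fun x hx y hy h u hu e => mem_St_fix (Basic.comm hu h hx hy e)

theorem Cl.inter (h : S.Cl Δ) (h' : S.Cl Δ') : S.Cl (Δ ∩ Δ') :=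
  fun x hx y hy e u hu m =>
    mem_St_inter (h x hx.1 y hy.1 e u hu m.1) (h' x hx.2 y hy.2 e u hu m.2)

theorem Cl.smul (h : S.Cl Δ) (g : G) : S.Cl (g • Δ) := by
  rintro _ ⟨x, hx, rfl⟩ _ ⟨y, hy, rfl⟩ e u hu m
  obtain ⟨u, rfl⟩ := Basic.cs g u
  rw [Basic.sm, Set.smul_mem_smul_set_iff] at m
  exact conj_mem_St_smul.2 (h x hx y hy (fun k => e (congrArg _ k)) u (conj_iff.1 hu) m)

theorem Cl.mem_iff (h : S.Cl Δ) (hx : x ∈ Δ) (hy : y ∈ Δ) (hxy : y ≠ x) {u : G}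
    (hu : u ∈ S.U x) : u ∈ S.UD Δ x ↔ u • y ∈ Δ :=
  ⟨fun k => KS.St.smul_mem k.2 hy, fun k => ⟨hu, h x hx y hy hxy u hu k⟩⟩

theorem Cl.exists_UD (h : S.Cl Δ) (hx : x ∈ Δ) {a b : Ω} (ha : a ∈ Δ) (hb : b ∈ Δ) (h1 : a ≠ x)
    (h2 : b ≠ x) : ∃ u ∈ S.UD Δ x, u • a = b := by
  obtain ⟨u, hu, e⟩ := S.tr x a b h1 h2
  exact ⟨u, (h.mem_iff hx ha h1 hu).2 (e ▸ hb), e⟩

theorem Cl.card_UD (h : S.Cl Δ) (hx : x ∈ Δ) (hΔ : Δ.Nontrivial) :
    Nat.card (S.UD Δ x) + 1 = Δ.ncard := by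
  obtain ⟨y, hy, k⟩ := hΔ.exists_ne x
  have e : S.UD Δ x ≃ ↥(Δ \ {x}) := Equiv.ofBijective (fun u => ⟨u.1 • y, KS.St.smul_mem u.2.2 hy, smul_ne u.2.1 k⟩)
    ⟨fun u v e => Subtype.ext (ext_U u.2.1 v.2.1 k (congrArg Subtype.val e)), fun c => by
      obtain ⟨u, hu, e⟩ := h.exists_UD hx hy c.2.1 k c.2.2
      exact ⟨⟨u, hu⟩, Subtype.ext e⟩⟩
  rw [Nat.card_congr e, Nat.card_coe_set_eq, Set.ncard_sdiff_singleton_add_one hx]

theorem Cl.even (h : S.Cl Δ) (he : Even (Nat.card Ω)) (hΔ : Δ.Nontrivial) : Even Δ.ncard := by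
  obtain ⟨x, hx, y, -, k⟩ := id hΔ
  rw [← h.card_UD hx hΔ]
  exact ((odd_U he k.symm).of_dvd_nat (card_dvd_of_le inf_le_left)).add_one

theorem Cl.UD_mono (h' : S.Cl Δ') (hΔ : Δ.Nontrivial) (hle : Δ ⊆ Δ') (hx : x ∈ Δ) :
    S.UD Δ x ≤ S.UD Δ' x :=
  fun u hu => by
  obtain ⟨y, hy, k⟩ := hΔ.exists_ne x
  exact (h'.mem_iff (hle hx) (hle hy) k hu.1).2 (hle (KS.St.smul_mem hu.2 hy))

theorem Cl.pred_dvd (h : S.Cl Δ) (h' : S.Cl Δ') (hΔ : Δ.Nontrivial) (hle : Δ ⊆ Δ') :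
    Δ.ncard - 1 ∣ Δ'.ncard - 1 := by
  obtain ⟨x, hx⟩ := hΔ.nonempty
  rw [← h.card_UD hx hΔ, ← h'.card_UD (hle hx) (hΔ.mono hle), Nat.add_sub_cancel, Nat.add_sub_cancel]
  exact card_dvd_of_le (h'.UD_mono hΔ hle hx)

theorem Cl.L_mono (h' : S.Cl Δ') (hΔ : Δ.Nontrivial) (hle : Δ ⊆ Δ') : S.L Δ ≤ S.L Δ' :=
  L_le fun _ hx => (h'.UD_mono hΔ hle hx).trans (UD_le_L (hle hx))

/-- An element of `St Δ` fixing two points and centralizing the root group acts trivially. -/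
theorem Cl.mem_W (h : S.Cl Δ) (hx : x ∈ Δ) (hy : y ∈ Δ) (hxy : y ≠ x) {g : G} (gx : g • x = x)
    (gy : g • y = y) (hc : ∀ u ∈ S.UD Δ x, Commute u g) : g ∈ W G Δ :=
  HKS.mem_W.2 fun c m => by
    by_cases e : c = x
    · rwa [e]
    obtain ⟨u, hu, rfl⟩ := h.exists_UD hx hy m hxy e
    rw [← mul_smul, ← (hc u hu).eq, mul_smul, gy]

theorem Cl.two_trans (h : S.Cl Δ) (h3 : 2 < Δ.ncard) {a b c d : Ω} (ha : a ∈ Δ) (hb : b ∈ Δ)
    (hc : c ∈ Δ) (hd : d ∈ Δ) (hab : a ≠ b) (hcd : c ≠ d) : ∃ l ∈ S.L Δ, l • a = c ∧ l • b = d := by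
  obtain ⟨e, he, h1⟩ : ∃ e ∈ Δ, e ∉ ({a, c} : Set Ω) := Set.exists_mem_notMem_of_ncard_lt_ncard
    (((Set.ncard_insert_le _ _).trans (by simp)).trans_lt h3)
  simp only [Set.mem_insert_iff, Set.mem_singleton_iff, not_or] at h1
  obtain ⟨u, hu, e1⟩ := h.exists_UD he ha hc (Ne.symm h1.1) (Ne.symm h1.2)
  obtain ⟨v, hv, e2⟩ := h.exists_UD hc (KS.St.smul_mem hu.2 hb) hd
    (fun k => hab (MulAction.injective u (e1.trans k.symm))) hcd.symm
  exact ⟨v * u, mul_mem (UD_le_L hc hv) (UD_le_L he hu), by rw [mul_smul, e1, S.fix c v hv.1], by rw [mul_smul, e2]⟩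

/-- If the root group of `Δ` at `x` is invariant under the two-point stabilizer, the translates of
`Δ` are the lines of a linear space. -/
theorem Cl.line (h : S.Cl Δ) (h3 : 2 < Δ.ncard) (hx : x ∈ Δ) (hy : y ∈ Δ) (hxy : y ≠ x)
    (hi : ∀ k : G, k • x = x → k • y = y → ∀ u ∈ S.UD Δ x, k * u * k⁻¹ ∈ S.UD Δ x) {g : G}
    {a b : Ω} (ha : a ∈ Δ) (hb : b ∈ Δ) (hab : a ≠ b) (ga : g • a ∈ Δ) (gb : g • b ∈ Δ) :
    g ∈ St G Δ := by
  obtain ⟨l, hl, l1, l2⟩ := h.two_trans h3 hx hy ha hb hxy.symm hab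
  obtain ⟨m, hm, m1, m2⟩ := h.two_trans h3 ga gb hx hy (fun e => hab (MulAction.injective g e)) hxy.symm
  have k1 : (m * g * l) • x = x := by rw [mul_smul, mul_smul, l1, m1]
  have k2 : (m * g * l) • y = y := by rw [mul_smul, mul_smul, l2, m2]
  have k : m * g * l ∈ St G Δ := KS.mem_St_of fun c hc => by
    by_cases e : c = x
    · rwa [e, k1]
    obtain ⟨u, hu, rfl⟩ := h.exists_UD hx hy hc hxy e
    have := KS.St.smul_mem (hi _ k1 k2 u hu).2 hy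
    rwa [← k2, Basic.sm] at this
  simpa [mul_assoc] using mul_mem (mul_mem (inv_mem (L_le_St hm)) k) (inv_mem (L_le_St hl))

theorem mem_UD_fix {t u : G} (h : y ≠ x) (hx : t • x = x) (hy : t • y = y) :
    u ∈ S.UD (fixedBy Ω t) x ↔ u ∈ S.U x ∧ Commute u t :=
  ⟨fun k => ⟨k.1, Basic.comm k.1 h hx hy (KS.St.smul_mem k.2 hy)⟩, fun k => ⟨k.1, mem_St_fix k.2⟩⟩

theorem mem_UD_inter (h : S.Cl Δ) (hx : x ∈ Δ) (hy : y ∈ Δ) (hxy : y ≠ x) {t u : G}
    (tx : t • x = x) (ty : t • y = y) :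
    u ∈ S.UD (Δ ∩ fixedBy Ω t) x ↔ u ∈ S.UD Δ x ∧ Commute u t :=
  ⟨fun k => have m := KS.St.smul_mem k.2 (show y ∈ Δ ∩ fixedBy Ω t from ⟨hy, ty⟩)
    ⟨(h.mem_iff hx hy hxy k.1).2 m.1, Basic.comm k.1 hxy tx ty m.2⟩,
    fun k => ⟨k.1.1, mem_St_inter k.1.2 (mem_St_fix k.2)⟩⟩

/-- The fixed point formula. -/
theorem wielandt (S : Sp G Ω) (he : Even (Nat.card Ω)) {t s : G} (h : V4 x y t s) :
    (Nat.card Ω - 1) * ((fixedBy Ω t ∩ fixedBy Ω s).ncard - 1) ^ 2 =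
      ((fixedBy Ω t).ncard - 1) * ((fixedBy Ω s).ncard - 1) * ((fixedBy Ω (t * s)).ncard - 1) := by
  have sq : ∀ r : G, orderOf r = 2 → r * r = 1 := fun r hr => by rw [← pow_two, ← hr, pow_orderOf_eq_one]
  have k := wiel (odd_U (S := S) he h.ne) (sq t h.t2) (sq s h.s2) h.comm (fun _ => conj_fix h.tx) fun _ => conj_fix h.sx
  have c1 : ∀ r : G, r • x = x → r • y = y → (fixedBy Ω r).ncard - 1 = Nat.card ↥(S.U x ⊓ centralizer {r}) := by
    intro r rx ry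
    rw [← (S.cl_fix r).card_UD rx ⟨y, ry, x, rx, h.ne⟩, Nat.add_sub_cancel]
    refine congrArg (fun K : Subgroup G => Nat.card K) (Subgroup.ext fun u => ?_)
    rw [mem_UD_fix h.ne rx ry, mem_inf, mem_centralizer_singleton_iff, commute_iff_eq]
  have c2 : (fixedBy Ω t ∩ fixedBy Ω s).ncard - 1 = Nat.card ↥(S.U x ⊓ centralizer {t} ⊓ centralizer {s}) := by
    rw [← ((S.cl_fix t).inter (S.cl_fix s)).card_UD ⟨h.tx, h.sx⟩ ⟨y, ⟨h.ty, h.sy⟩, x, ⟨h.tx, h.sx⟩, h.ne⟩,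
      Nat.add_sub_cancel]
    refine congrArg (fun K : Subgroup G => Nat.card K) (Subgroup.ext fun u => ?_)
    rw [mem_UD_inter (S.cl_fix t) h.tx h.ty h.ne h.sx h.sy, mem_UD_fix h.ne h.tx h.ty, mem_inf, mem_inf,
      mem_centralizer_singleton_iff, mem_centralizer_singleton_iff, commute_iff_eq, commute_iff_eq]
  rw [c2, c1 t h.tx h.ty, c1 s h.sx h.sy, c1 (t * s) (by rw [mul_smul, h.sx, h.tx]) (by rw [mul_smul, h.sy, h.ty]),
    ← card_U (S := S) h.ne, Nat.add_sub_cancel, k]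

theorem W_smul (g : G) : W G (g • Δ) = Inv.Fz.cj g (W G Δ) := Subgroup.ext fun u => by
  obtain ⟨k, rfl⟩ := Basic.cs g u
  rw [conj_mem_W_smul, Inv.Fz.conj_mem_cj]

theorem card_LW (g : G) : Nat.card ↥(S.L (g • Δ) ⊓ W G (g • Δ)) = Nat.card ↥(S.L Δ ⊓ W G Δ) := by
  rw [← Inv.Fz.card_cj g (S.L Δ ⊓ W G Δ)]
  refine congrArg (fun K : Subgroup G => Nat.card K) (Subgroup.ext fun u => ?_)
  obtain ⟨k, rfl⟩ := Basic.cs g u
  rw [Inv.Fz.conj_mem_cj, mem_inf, mem_inf, conj_mem_W_smul, conj_mem_L_smul]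

theorem TyL.smul (h : S.TyL Δ) (g : G) : S.TyL (g • Δ) := by
  obtain ⟨F, _, _, E, h1, h2, h3, h4⟩ := h
  refine ⟨F, _, inferInstance, fun p => g • E p, (MulAction.injective g).comp h1, by rw [← h2, Set.smul_set_range],
    fun a => ?_, fun a => ?_⟩
  · obtain ⟨u, hu, e⟩ := h3 a
    exact ⟨_, S.conj g _ u hu, fun p => by rw [Basic.sm, e]⟩
  · obtain ⟨u, hu, e⟩ := h4 a
    exact ⟨_, S.conj g _ u hu, fun p => by rw [Basic.sm, e]⟩

theorem LT.smul (h : S.LT Δ) (g : G) : S.LT (g • Δ) :=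
  ⟨h.ev, h.cl.smul g, h.ty.smul g⟩

theorem DS.smul {N : Subgroup G} (h : S.DS Δ N) (g : G) :
    S.DS (g • Δ) (N.map (MulAut.conj g).toMonoidHom) := by
  rw [Inv.Fz.cj_def]
  refine ⟨h.cl.smul g, by rw [Set.ncard_smul_set]; exact h.four, cj_le_iff.2 fun n hn => conj_mem_L_smul.2 (h.le hn),
    ?_, ?_, ?_, ?_⟩
  all_goals simp only [Basic.all g, Basic.ex g, Basic.alls, conj_mem_St_smul, Inv.Fz.conj_mem_cj, conj_mul,
    conj_inv, conj_eq_one_iff, Basic.sm, smul_left_cancel_iff]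
  all_goals simp only [PLift.forall, PLift.exists]
  exacts [h.norm, h.sq, h.trans, h.free]

theorem DU.smul {q : ℕ} (h : S.DU Δ q) (g : G) : S.DU (g • Δ) q := by
  refine ⟨h.cl.smul g, h.three, by rw [Set.ncard_smul_set]; exact h.card, by rw [card_LW]; exact h.odd,
    ?_, ?_, ?_, ?_, ?_, ?_⟩
  all_goals simp only [Basic.all g, Basic.ex g, Basic.alls, Basic.exs, conj_mem_St_smul,
    conj_mem_W_smul, conj_mem_L_smul, conj_mem_UD_smul, conj_mul, conj_inv, Basic.sm, smul_left_cancel_iff,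
    Basic.ord, Basic.cm, fix_conj, ← Set.smul_set_inter, Set.ncard_smul_set, ne_eq]
  all_goals simp only [PLift.forall, PLift.exists]
  exacts [h.nc, h.fix, h.mem, h.cen, h.pair, h.ua]

theorem DR.smul {q : ℕ} {A : Subgroup G} (h : S.DR Δ q A) (g : G) :
    S.DR (g • Δ) q (A.map (MulAut.conj g).toMonoidHom) := by
  rw [Inv.Fz.cj_def]
  refine ⟨h.cl.smul g, h.q8, cj_le_iff.2 fun n hn => conj_mem_L_smul.2 (h.le hn), by rw [Inv.Fz.card_cj]; exact h.card, ?_, ?_,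
    by rw [card_LW]; exact h.odd, fun P hP h2 => ?_, ?_, ?_, ?_, by rw [Set.ncard_smul_set]; exact h.card8,
    by rw [Set.ncard_smul_set]; exact h.three⟩
  pick_goal 3
  · obtain ⟨P, rfl⟩ : ∃ P', P = Inv.Fz.cj g P' := ⟨Inv.Fz.cj g⁻¹ P, (Inv.Fz.cj_cj_inv g P).symm⟩
    obtain ⟨k1, k2⟩ := h.syl P (fun k hk => conj_mem_St_smul.1 (hP (Inv.Fz.conj_mem_cj.2 hk)))
      (Inv.Fz.cj_inv_cj g P ▸ isPGroup_cj h2 g⁻¹)
    refine ⟨by rwa [W_smul, ← Inv.Fz.cj_inf, Inv.Fz.card_cj, Inv.Fz.card_cj], ?_⟩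
    simp only [Basic.all g, Inv.Fz.conj_mem_cj, conj_mul, conj_inv, conj_mem_W_smul]
    simpa only [PLift.forall] using k2
  all_goals simp only [Basic.all g, Basic.ex g, Basic.alls, conj_mem_St_smul, Inv.Fz.conj_mem_cj,
    conj_mem_W_smul, conj_mem_L_smul, conj_mul, conj_inv, Basic.sm, smul_left_cancel_iff, conj_eq_one_iff,
    fix_conj, ← Set.smul_set_inter, Set.ncard_smul_set, ne_eq, mul_left_inj, mul_right_inj]
  all_goals simp only [PLift.forall, PLift.exists]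
  exacts [h.sq, h.tr, h.fix, h.nmem, h.four]

end Sp

theorem V4.swap {t s : G} (h : V4 x y t s) : V4 x y s t :=
  ⟨h.ne, h.s2, h.t2, h.comm.symm, h.ts.symm, h.sx, h.sy, h.tx, h.ty⟩

theorem V4.mul {t s : G} (h : V4 x y t s) : V4 x y t (t * s) := by
  have sq : ∀ r : G, orderOf r = 2 → r * r = 1 := fun r hr => by rw [← pow_two, ← hr, pow_orderOf_eq_one]
  refine ⟨h.ne, h.t2, orderOf_eq_prime (by rw [h.comm.mul_pow, pow_two, pow_two, sq t h.t2, sq s h.s2, one_mul])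
    fun e => h.ts (mul_left_cancel ((sq t h.t2).trans e.symm)), (Commute.refl t).mul_right h.comm, fun e => ?_, h.tx, h.ty,
    by rw [mul_smul, h.sx, h.tx], by rw [mul_smul, h.sy, h.ty]⟩
  have := h.s2
  rw [left_eq_mul.1 e] at this
  simp at this

end Cfsg.Agent.HKS
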