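import Mathlib
import Cfsg.Agent.HKS.Basic

/-! The calculus of the maps `μ` -/

set_option autoImplicit false
set_option linter.unusedSectionVars false

namespace Cfsg.Agent.HKS

open Subgroup MulAction Cfsg.Agent.TT Cfsg.Agent.Perm.TT Cfsg.Agent.Cl.L2
open Cfsg.Agent.KS (St)
open scoped MatrixGroups Pointwise commutatorElement

variable {G Ω : Type*} [Group G] [MulAction G Ω] [Finite G] [Finite Ω] {S : Sp G Ω}
  {Δ Δ' : Set Ω} {x y : Ω}

namespace Sp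

theorem al_mem {c : Ω} : S.al x y c ∈ S.U x := by
  unfold al
  split_ifs with h
  · exact (S.tr x y c h.1 h.2).choose_spec.1
  · exact one_mem _

theorem al_smul (h : y ≠ x) {c : Ω} (hc : c ≠ x) : S.al x y c • y = c := by
  unfold al
  rw [dif_pos ⟨h, hc⟩]
  exact (S.tr x y c h hc).choose_spec.2

theorem al_eq (h : y ≠ x) {u : G} (hu : u ∈ S.U x) : S.al x y (u • y) = u := by
  exact ext_U al_mem hu h (al_smul h (smul_ne hu h))

theorem de_mem {a : G} : S.de x y a ∈ S.U y := by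
  exact al_mem

theorem de_smul (h : y ≠ x) {a : G} (ha : a ∈ S.U x) (h1 : a ≠ 1) : S.de x y a • x = a • y := by
  exact al_smul h.symm fun e => h1 (S.free x y h a ha e)

theorem ap_mem {g a : G} : S.ap x y g a ∈ S.U x := by
  exact al_mem

theorem ap_smul (h : y ≠ x) {g a : G} (hg : g • a • y ≠ x) : S.ap x y g a • y = g • a • y := by
  exact al_smul h hg

theorem mu_x (h : y ≠ x) {a : G} (ha : a ∈ S.U x) (h1 : a ≠ 1) : S.mu x y a • x = y := by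
  rw [mu, mul_smul, mul_smul, de_smul h (inv_mem ha) (inv_ne_one.2 h1), smul_inv_smul]
  exact S.fix y _ (inv_mem de_mem)

theorem mu_y (h : y ≠ x) {a : G} (ha : a ∈ S.U x) (h1 : a ≠ 1) : S.mu x y a • y = x := by
  rw [mu, mul_smul, mul_smul, S.fix y _ de_mem, ← de_smul h ha h1, inv_smul_smul]

theorem mu_unique (h : y ≠ x) {a v v' : G} (ha : a ∈ S.U x) (h1 : a ≠ 1) (hv : v ∈ S.U y)
    (hv' : v' ∈ S.U y) (e1 : (v * a * v') • x = y) (e2 : (v * a * v') • y = x) :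
    v * a * v' = S.mu x y a := by
  rw [mul_smul, mul_smul] at e1 e2
  rw [S.fix y _ hv'] at e2
  have f1 : v⁻¹ = S.de x y a :=
    ext_U (inv_mem hv) de_mem h.symm (by rw [de_smul h ha h1, inv_smul_eq_iff, e2])
  have f2 : v' = S.de x y a⁻¹ := by
    refine ext_U hv' de_mem h.symm ?_
    rw [de_smul h (inv_mem ha) (inv_ne_one.2 h1), eq_inv_smul_iff, ← smul_left_cancel_iff v, e1,
      S.fix y _ hv]
  rw [mu, ← f1, ← f2, inv_inv]

theorem de_ne (h : y ≠ x) {a : G} (ha : a ∈ S.U x) (h1 : a ≠ 1) : S.de x y a ≠ 1 := fun e => by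
  have e1 := de_smul h ha h1
  rw [e, one_smul] at e1
  exact smul_ne ha h e1.symm

theorem mu_unique' (h : y ≠ x) {a u u' : G} (ha : a ∈ S.U x) (h1 : a ≠ 1) (hu : u ∈ S.U x)
    (hu' : u' ∈ S.U x) (e1 : (u * S.de x y a * u') • x = y) (e2 : (u * S.de x y a * u') • y = x) :
    u * S.de x y a * u' = (S.mu x y a)⁻¹ := by
  have hθ : S.mu x y a * S.de x y a⁻¹ * (S.mu x y a)⁻¹ ∈ S.U x := by
    have := S.conj (S.mu x y a) y _ (de_mem (x := x) (a := a⁻¹))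
    rwa [mu_y h ha h1] at this
  have e : a⁻¹ * S.de x y a * (S.mu x y a * S.de x y a⁻¹ * (S.mu x y a)⁻¹)⁻¹ = (S.mu x y a)⁻¹ := by
    rw [mu]; group
  rw [mu_unique h.symm de_mem (de_ne h ha h1) hu hu' e2 e1, ← e]
  refine (mu_unique h.symm de_mem (de_ne h ha h1) (inv_mem ha) (inv_mem hθ) ?_ ?_).symm
  · rw [e, inv_smul_eq_iff, mu_x h ha h1]
  · rw [e, inv_smul_eq_iff, mu_y h ha h1]

theorem mu_inv (a : G) : S.mu x y a⁻¹ = (S.mu x y a)⁻¹ := by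
  simp only [mu, inv_inv, mul_inv_rev, mul_assoc]

theorem de_conj (h : y ≠ x) {g a : G} (gx : g • x = x) (gy : g • y = y) (ha : a ∈ S.U x)
    (h1 : a ≠ 1) : g * S.de x y a * g⁻¹ = S.de x y (g * a * g⁻¹) := by
  refine ext_U (conj_fix gy de_mem) de_mem h.symm ?_
  rw [de_smul h (conj_fix gx ha) (by simpa using h1), mul_smul, mul_smul, mul_smul, mul_smul,
    inv_smul_eq_iff.2 gx.symm, inv_smul_eq_iff.2 gy.symm, de_smul h ha h1]

theorem mu_conj (h : y ≠ x) {g a : G} (gx : g • x = x) (gy : g • y = y) (ha : a ∈ S.U x)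
    (h1 : a ≠ 1) : g * S.mu x y a * g⁻¹ = S.mu x y (g * a * g⁻¹) := by
  have e : (g * a * g⁻¹)⁻¹ = g * a⁻¹ * g⁻¹ := by group
  rw [mu, mu, e, ← de_conj h gx gy ha h1, ← de_conj h gx gy (inv_mem ha) (inv_ne_one.2 h1)]
  group

theorem ap_fix (h : y ≠ x) {g a : G} (gx : g • x = x) (gy : g • y = y) (ha : a ∈ S.U x) :
    S.ap x y g a = g * a * g⁻¹ := by
  rw [← al_eq h (conj_fix gx ha), ap, mul_smul, mul_smul, inv_smul_eq_iff.2 gy.symm]

/-- For `g` interchanging `x` and `y`. -/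
theorem ap_swap (h : y ≠ x) {g a : G} (gx : g • x = y) (gy : g • y = x) (ha : a ∈ S.U x)
    (h1 : a ≠ 1) : S.ap x y g a ≠ 1 ∧ S.ap x y g a • y = g • a • y ∧
      g * a * g⁻¹ = S.de x y (S.ap x y g a) ∧
      g * S.mu x y a * g⁻¹ = (S.mu x y (S.ap x y g a))⁻¹ ∧
      g * S.de x y a * g⁻¹ ∈ S.U x ∧ (g * S.de x y a * g⁻¹) • y = g • a • y := by
  have n1 : g • a • y ≠ x := fun e =>
    h1 (S.free x y h a ha (smul_left_cancel g (e.trans gy.symm)))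
  have e1 : S.ap x y g a • y = g • a • y := ap_smul h n1
  have n2 : S.ap x y g a ≠ 1 := fun e => by
    rw [e, one_smul] at e1
    exact smul_ne ha h (smul_left_cancel g (e1.symm.trans gx.symm))
  have m1 : ∀ v ∈ S.U y, g * v * g⁻¹ ∈ S.U x := fun v hv => gy ▸ S.conj g y v hv
  have e2 : g * a * g⁻¹ = S.de x y (S.ap x y g a) := by
    refine ext_U (gx ▸ S.conj g x a ha) de_mem h.symm ?_
    rw [de_smul h ap_mem n2, e1, mul_smul, mul_smul, inv_smul_eq_iff.2 gy.symm]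
  refine ⟨n2, e1, e2, ?_, m1 _ de_mem, ?_⟩
  · have e3 : g * S.mu x y a * g⁻¹ = (g * (S.de x y a)⁻¹ * g⁻¹) * S.de x y (S.ap x y g a) *
        (g * S.de x y a⁻¹ * g⁻¹) := by
      rw [← e2, mu]; group
    rw [e3]
    refine mu_unique' h ap_mem n2 (m1 _ (inv_mem de_mem)) (m1 _ de_mem) ?_ ?_
    · rw [← e3, mul_smul, mul_smul, inv_smul_eq_iff.2 gy.symm, mu_y h ha h1, gx]
    · rw [← e3, mul_smul, mul_smul, inv_smul_eq_iff.2 gx.symm, mu_x h ha h1, gy]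
  · rw [mul_smul, mul_smul, inv_smul_eq_iff.2 gx.symm, de_smul h ha h1]

theorem ap_eq (h : y ≠ x) {g a : G} (gx : g • x = y) (gy : g • y = x) (ha : a ∈ S.U x)
    (h1 : a ≠ 1) : S.ap x y g a = g * S.de x y a * g⁻¹ := by
  obtain ⟨-, e1, -, -, m, e2⟩ := ap_swap h gx gy ha h1
  exact ext_U ap_mem m h (e1.trans e2.symm)

/-- `μ a = θ a * (δ a)⁻¹ * a` where `θ a = μ a (a⁻¹)`. -/
theorem mu_eq (h : y ≠ x) {a : G} (ha : a ∈ S.U x) (h1 : a ≠ 1) :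
    S.mu x y a = S.ap x y (S.mu x y a) a⁻¹ * (S.de x y a)⁻¹ * a ∧
      (S.ap x y (S.mu x y a) a⁻¹)⁻¹ • y = (S.de x y a)⁻¹ • x := by
  have e : S.mu x y a = S.ap x y (S.mu x y a) a⁻¹ * (S.de x y a)⁻¹ * a := by
    rw [ap_eq h (mu_x h ha h1) (mu_y h ha h1) (inv_mem ha) (inv_ne_one.2 h1), mu]
    group
  refine ⟨e, ?_⟩
  have e1 := mu_x (S := S) h ha h1
  rw [e, mul_smul, mul_smul, S.fix x a ha] at e1
  rw [inv_smul_eq_iff, e1]

theorem Spec.inv {a : G} (hs : S.Spec x y a) : S.Spec x y a⁻¹ := by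
  rw [Spec] at hs ⊢
  rw [hs, inv_inv, inv_inv]

theorem Spec.conj (h : y ≠ x) {g a : G} (gx : g • x = x) (gy : g • y = y) (ha : a ∈ S.U x)
    (h1 : a ≠ 1) (hs : S.Spec x y a) : S.Spec x y (g * a * g⁻¹) := by
  have e : (g * a * g⁻¹)⁻¹ = g * a⁻¹ * g⁻¹ := by group
  rw [Spec] at hs ⊢
  rw [e, ← de_conj h gx gy ha h1, ← de_conj h gx gy (inv_mem ha) (inv_ne_one.2 h1), hs]
  group

theorem Spec.th (h : y ≠ x) {a : G} (ha : a ∈ S.U x) (h1 : a ≠ 1) (hs : S.Spec x y a) :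
    S.ap x y (S.mu x y a) a⁻¹ = a := by
  have hs' : S.de x y a⁻¹ = (S.de x y a)⁻¹ := hs
  refine inv_injective (ext_U (inv_mem ap_mem) (inv_mem ha) h ?_)
  rw [(Sp.mu_eq h ha h1).2, ← hs', de_smul h (inv_mem ha) (inv_ne_one.2 h1)]

theorem Spec.mu_eq (h : y ≠ x) {a : G} (ha : a ∈ S.U x) (h1 : a ≠ 1) (hs : S.Spec x y a) :
    S.mu x y a = a * (S.de x y a)⁻¹ * a ∧ S.mu x y a • a • y = a⁻¹ • y ∧
      S.mu x y a • a⁻¹ • y = a • y := by
  obtain ⟨e1, -⟩ := Sp.mu_eq (S := S) h ha h1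
  have e2 := hs.th h ha h1
  refine ⟨by rw [e2] at e1; exact e1, ?_, ?_⟩
  · have hs' : S.de x y a⁻¹ = (S.de x y a)⁻¹ := hs
    rw [mu, hs', mul_smul, mul_smul, ← de_smul h ha h1, inv_smul_smul, S.fix x a ha, ← hs',
      de_smul h (inv_mem ha) (inv_ne_one.2 h1)]
  · rw [← (ap_swap h (mu_x h ha h1) (mu_y h ha h1) (inv_mem ha) (inv_ne_one.2 h1)).2.1, e2]

theorem spec_of (h : y ≠ x) {a : G} (ha : a ∈ S.U x) (h1 : a ≠ 1)
    (e : S.mu x y a • a⁻¹ • y = a • y) : S.Spec x y a := by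
  have e1 : S.ap x y (S.mu x y a) a⁻¹ = a := ext_U ap_mem ha h (by
    rw [(ap_swap h (mu_x h ha h1) (mu_y h ha h1) (inv_mem ha) (inv_ne_one.2 h1)).2.1, e])
  have e2 := (mu_eq (S := S) h ha h1).2
  rw [e1] at e2
  exact ext_U de_mem (inv_mem de_mem) h.symm (by rw [de_smul h (inv_mem ha) (inv_ne_one.2 h1), e2])

/-- A swapping element maps `a⁻¹` to the inverse of the image of a special `a`. -/
theorem Spec.ap_inv (h : y ≠ x) {g a : G} (gx : g • x = y) (gy : g • y = x) (ha : a ∈ S.U x)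
    (h1 : a ≠ 1) (hs : S.Spec x y a) : S.ap x y g a⁻¹ = (S.ap x y g a)⁻¹ := by
  have hs' : S.de x y a⁻¹ = (S.de x y a)⁻¹ := hs
  rw [ap_eq h gx gy ha h1, ap_eq h gx gy (inv_mem ha) (inv_ne_one.2 h1), hs']
  group

/-- The sum formula. -/
theorem sum (h : y ≠ x) {a b : G} (ha : a ∈ S.U x) (hb : b ∈ S.U x) (a1 : a ≠ 1) (b1 : b ≠ 1)
    (hab : a ≠ b) : ∃ c ∈ S.U x, c ≠ 1 ∧ S.de x y c = (S.de x y b)⁻¹ * S.de x y a ∧
      c = (S.ap x y (S.mu x y b) b⁻¹)⁻¹ * S.ap x y (S.mu x y b) (b⁻¹ * a) ∧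
      S.mu x y c = S.mu x y a * (S.mu x y (b⁻¹ * a))⁻¹ * (S.mu x y b)⁻¹ := by
  have hd : b⁻¹ * a ∈ S.U x := mul_mem (inv_mem hb) ha
  have d1 : b⁻¹ * a ≠ 1 := fun e => hab (inv_mul_eq_one.1 e).symm
  have hv : (S.de x y b)⁻¹ * S.de x y a ∈ S.U y := mul_mem (inv_mem de_mem) de_mem
  have n1 : ((S.de x y b)⁻¹ * S.de x y a) • x ≠ x := fun e => by
    rw [mul_smul, inv_smul_eq_iff, de_smul h ha a1, de_smul h hb b1] at e
    exact hab (ext_U ha hb h e)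
  have e1 := al_smul (S := S) h n1
  set c := S.al x y (((S.de x y b)⁻¹ * S.de x y a) • x)
  have hc : c ∈ S.U x := al_mem
  have c1 : c ≠ 1 := fun e => by
    rw [e, one_smul] at e1
    exact smul_ne hv h.symm e1.symm
  have T1 : (S.ap x y (S.mu x y b) b⁻¹)⁻¹ * S.mu x y b = (S.de x y b)⁻¹ * b := by
    rw [inv_mul_eq_iff_eq_mul, ← mul_assoc]; exact (mu_eq h hb b1).1
  have T2 : (S.ap x y (S.mu x y (b⁻¹ * a)) (b⁻¹ * a)⁻¹)⁻¹ * S.mu x y (b⁻¹ * a) =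
      (S.de x y (b⁻¹ * a))⁻¹ * (b⁻¹ * a) := by
    rw [inv_mul_eq_iff_eq_mul, ← mul_assoc]; exact (mu_eq h hd d1).1
  have e2 : c = (S.ap x y (S.mu x y b) b⁻¹)⁻¹ * S.ap x y (S.mu x y b) (b⁻¹ * a) := by
    refine ext_U hc (mul_mem (inv_mem ap_mem) ap_mem) h ?_
    rw [e1, mul_smul, mul_smul, (ap_swap h (mu_x h hb b1) (mu_y h hb b1) hd d1).2.1, de_smul h ha a1,
      ← mul_smul _ (S.mu x y b), T1, mul_smul, mul_smul, smul_inv_smul]
  refine ⟨c, hc, c1, ext_U de_mem hv h.symm (by rw [de_smul h hc c1, e1]), e2, ?_⟩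
  have hw : (S.ap x y (S.mu x y (b⁻¹ * a)) (b⁻¹ * a)⁻¹)⁻¹ *
      (S.mu x y (b⁻¹ * a) * S.de x y a⁻¹ * (S.mu x y (b⁻¹ * a))⁻¹) ∈ S.U x :=
    mul_mem (inv_mem ap_mem) (by
      have := S.conj (S.mu x y (b⁻¹ * a)) y _ (de_mem (x := x) (a := a⁻¹))
      rwa [mu_y h hd d1] at this)
  have hw' := S.conj (S.mu x y b) x _ hw
  rw [mu_x h hb b1] at hw'
  have e3 : (S.de x y a)⁻¹ * S.de x y b * c * (S.mu x y b *
      ((S.ap x y (S.mu x y (b⁻¹ * a)) (b⁻¹ * a)⁻¹)⁻¹ *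
      (S.mu x y (b⁻¹ * a) * S.de x y a⁻¹ * (S.mu x y (b⁻¹ * a))⁻¹)) * (S.mu x y b)⁻¹) =
      S.mu x y a * (S.mu x y (b⁻¹ * a))⁻¹ * (S.mu x y b)⁻¹ := by
    rw [e2, ap_eq h (mu_x h hb b1) (mu_y h hb b1) hd d1]
    calc _ = (S.de x y a)⁻¹ * S.de x y b * ((S.ap x y (S.mu x y b) b⁻¹)⁻¹ * S.mu x y b) *
          S.de x y (b⁻¹ * a) * ((S.ap x y (S.mu x y (b⁻¹ * a)) (b⁻¹ * a)⁻¹)⁻¹ * S.mu x y (b⁻¹ * a)) *
          S.de x y a⁻¹ * (S.mu x y (b⁻¹ * a))⁻¹ * (S.mu x y b)⁻¹ := by group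
      _ = _ := by rw [T1, T2, show S.mu x y a = (S.de x y a)⁻¹ * a * S.de x y a⁻¹ from rfl]; group
  rw [← e3]
  refine (mu_unique h hc c1 (mul_mem (inv_mem de_mem) de_mem) hw' ?_ ?_).symm
  · rw [e3, mul_smul, mul_smul, inv_smul_eq_iff.2 (mu_y h hb b1).symm,
      inv_smul_eq_iff.2 (mu_x h hd d1).symm, mu_x h ha a1]
  · rw [e3, mul_smul, mul_smul, inv_smul_eq_iff.2 (mu_x h hb b1).symm,
      inv_smul_eq_iff.2 (mu_y h hd d1).symm, mu_y h ha a1]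

/-- Commuting special elements. -/
theorem pair (h : y ≠ x) {a b : G} (ha : a ∈ S.U x) (hb : b ∈ S.U x) (a1 : a ≠ 1) (b1 : b ≠ 1)
    (hab : a ≠ b) (sa : S.Spec x y a) (sb : S.Spec x y b) (hc : Commute a b)
    (hd : Commute (S.de x y a) (S.de x y b)) :
    b⁻¹ * S.ap x y (S.mu x y b) (a * b⁻¹) = a * S.ap x y (S.mu x y a)⁻¹ (a * b⁻¹) ∧
      S.ap x y (S.mu x y a)⁻¹ (a * b⁻¹) = (S.mu x y b * S.mu x y a)⁻¹ *
        S.ap x y (S.mu x y b) (a * b⁻¹) * (S.mu x y b * S.mu x y a) ∧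
      S.mu x y b * S.mu x y a * S.mu x y (b * a⁻¹) =
        S.mu x y (b * a⁻¹) * (S.mu x y a * S.mu x y b) := by
  obtain ⟨c, hc1, c1, e1, e2, e3⟩ := sum h ha hb a1 b1 hab
  obtain ⟨c', hc', c1', f1, f2, f3⟩ := sum h (inv_mem hb) (inv_mem ha) (inv_ne_one.2 b1)
    (inv_ne_one.2 a1) fun e => hab (inv_injective e).symm
  have sa' : S.de x y a⁻¹ = (S.de x y a)⁻¹ := sa
  have sb' : S.de x y b⁻¹ = (S.de x y b)⁻¹ := sb
  have cc : c' = c := by
    refine ext_U hc' hc1 h ?_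
    rw [← de_smul h hc' c1', ← de_smul h hc1 c1, e1, f1, sa', sb', inv_inv, hd.inv_right.eq]
  have hd' : a * b⁻¹ ∈ S.U x := mul_mem ha (inv_mem hb)
  have d1 : a * b⁻¹ ≠ 1 := fun e => hab (mul_inv_eq_one.1 e)
  have em : S.mu x y (b * a⁻¹) = (S.mu x y (a * b⁻¹))⁻¹ := by rw [← mu_inv, mul_inv_rev, inv_inv]
  rw [sb.th h hb b1, ← hc.inv_right.eq] at e2
  rw [sa.inv.th h (inv_mem ha) (inv_ne_one.2 a1), inv_inv, mu_inv, cc] at f2
  rw [← hc.inv_right.eq] at e3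
  rw [inv_inv, mu_inv, mu_inv, inv_inv, cc, e3] at f3
  refine ⟨e2.symm.trans f2, ?_, ?_⟩
  · rw [ap_eq h (mu_x h hb b1) (mu_y h hb b1) hd' d1, ap_eq h (inv_smul_eq_iff.2 (mu_y h ha a1).symm)
      (inv_smul_eq_iff.2 (mu_x h ha a1).symm) hd' d1]
    group
  · rw [em]
    calc _ = S.mu x y b * (S.mu x y a * (S.mu x y (a * b⁻¹))⁻¹ * (S.mu x y b)⁻¹) * S.mu x y b := by
          group
      _ = _ := by rw [f3]; group

theorem Cl.de_mem (hc : S.Cl Δ) (hx : x ∈ Δ) (hy : y ∈ Δ) (h : y ≠ x) {a : G}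
    (ha : a ∈ S.UD Δ x) : S.de x y a ∈ S.UD Δ y := by
  by_cases h1 : a = 1
  · rw [h1, de, al, dif_neg (by simp)]
    exact one_mem _
  · have hu := (mem_UD.1 ha).1
    rw [hc.mem_iff hy hx h.symm Sp.de_mem, de_smul h hu h1]
    exact (hc.mem_iff hx hy h hu).1 ha

theorem Cl.mu_mem (hc : S.Cl Δ) (hx : x ∈ Δ) (hy : y ∈ Δ) (h : y ≠ x) {a : G}
    (ha : a ∈ S.UD Δ x) : S.mu x y a ∈ S.L Δ := by
  exact mul_mem (mul_mem (inv_mem (UD_le_L hy (hc.de_mem hx hy h ha))) (UD_le_L hx ha))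
    (UD_le_L hy (hc.de_mem hx hy h (inv_mem ha)))

theorem mu_third (h3 : 3 ≤ Nat.card Ω) (a b : Ω) : ∃ w, w ≠ a ∧ w ≠ b := by
  by_contra hn
  push Not at hn
  have h1 : (Set.univ : Set Ω) ⊆ {a, b} := fun w _ => by
    by_cases e : w = a
    · exact Or.inl e
    · exact Or.inr (hn w e)
  have h2 := Set.ncard_le_ncard h1
  have h4 := Set.ncard_insert_le a ({b} : Set Ω)
  rw [Set.ncard_univ] at h2
  rw [Set.ncard_singleton] at h4
  omega

/-- All root groups are abelian if one of them is. -/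
theorem comm_U (h3 : 3 ≤ Nat.card Ω) (hc : ∀ u ∈ S.U x, ∀ v ∈ S.U x, Commute u v) (z : Ω) :
    ∀ u ∈ S.U z, ∀ v ∈ S.U z, Commute u v := by
  by_cases hz : z = x
  · rwa [hz]
  obtain ⟨w, wx, wz⟩ := mu_third h3 x z
  obtain ⟨g, -, hg⟩ := S.tr w z x wz.symm wx.symm
  intro u hu v hv
  have h1 := hc _ (hg ▸ S.conj g z u hu) _ (hg ▸ S.conj g z v hv)
  have h2 : g * (u * v) * g⁻¹ = g * (v * u) * g⁻¹ :=
    calc _ = g * u * g⁻¹ * (g * v * g⁻¹) := by group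
      _ = _ := by rw [h1.eq]; group
  exact mul_left_cancel (mul_right_cancel h2)

/-- The two-point stabilizer is generated by the products of two maps `μ`. -/
theorem mem_closure_mu (hg : S.L Set.univ = ⊤) (h3 : 3 ≤ Nat.card Ω) (h : y ≠ x) {g : G}
    (gx : g • x = x) (gy : g • y = y) : g ∈ closure {k | ∃ a ∈ S.U x, ∃ b ∈ S.U x, a ≠ 1 ∧
      b ≠ 1 ∧ k = S.mu x y a * S.mu x y b} := by
  set K := closure {k | ∃ a ∈ S.U x, ∃ b ∈ S.U x, a ≠ 1 ∧ b ≠ 1 ∧ k = S.mu x y a * S.mu x y b}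
  set N := closure {k | ∃ a ∈ S.U x, a ≠ 1 ∧ k = S.mu x y a}
  have mN : ∀ a ∈ S.U x, a ≠ 1 → S.mu x y a ∈ N := fun a ha a1 => subset_closure ⟨a, ha, a1, rfl⟩
  have hN : ∀ n ∈ N, (n ∈ K ∧ n • x = x ∧ n • y = y) ∨
      ((∀ a ∈ S.U x, a ≠ 1 → n * S.mu x y a ∈ K) ∧ n • x = y ∧ n • y = x) := by
    have st : ∀ n, ∀ b ∈ S.U x, b ≠ 1 → ((n ∈ K ∧ n • x = x ∧ n • y = y) ∨
        ((∀ a ∈ S.U x, a ≠ 1 → n * S.mu x y a ∈ K) ∧ n • x = y ∧ n • y = x)) →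
        (n * S.mu x y b ∈ K ∧ (n * S.mu x y b) • x = x ∧ (n * S.mu x y b) • y = y) ∨
        ((∀ a ∈ S.U x, a ≠ 1 → n * S.mu x y b * S.mu x y a ∈ K) ∧ (n * S.mu x y b) • x = y ∧
          (n * S.mu x y b) • y = x) := by
      intro n b hb b1 ih
      rw [mul_smul, mul_smul, mu_x h hb b1, mu_y h hb b1]
      rcases ih with ⟨h1, h2, h3⟩ | ⟨h1, h2, h3⟩
      · refine Or.inr ⟨fun a ha a1 => ?_, h3, h2⟩
        rw [mul_assoc]
        exact mul_mem h1 (subset_closure ⟨b, hb, a, ha, b1, a1, rfl⟩)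
      · exact Or.inl ⟨h1 b hb b1, h3, h2⟩
    intro n hn
    induction hn using closure_induction_right with
    | one => exact Or.inl ⟨one_mem _, one_smul _ _, one_smul _ _⟩
    | mul_right n _ k hk ih =>
      obtain ⟨b, hb, b1, rfl⟩ := hk
      exact st n b hb b1 ih
    | mul_inv_cancel n _ k hk ih =>
      obtain ⟨b, hb, b1, rfl⟩ := hk
      rw [← mu_inv]
      exact st n _ (inv_mem hb) (inv_ne_one.2 b1) ih
  set J := closure ((S.U x : Set G) ∪ {k | ∃ a ∈ S.U x, a ≠ 1 ∧ k = S.mu x y a})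
  have hJ : ∀ g ∈ J, ∃ u ∈ S.U x, ∃ n ∈ N, ∃ u' ∈ S.U x, g = u * n * u' := by
    have st : ∀ b ∈ S.U x, b ≠ 1 → ∀ u ∈ S.U x, ∀ n ∈ N, ∀ u' ∈ S.U x,
        ∃ v ∈ S.U x, ∃ m ∈ N, ∃ v' ∈ S.U x, S.mu x y b * (u * n * u') = v * m * v' := by
      intro b hb b1 u hu n hn u' hu'
      by_cases u1 : u = 1
      · exact ⟨1, one_mem _, _, mul_mem (mN b hb b1) hn, u', hu', by rw [u1]; group⟩
      rcases hN n hn with ⟨-, h2, -⟩ | ⟨-, h2, -⟩
      · refine ⟨1, one_mem _, _, mul_mem (mN b hb b1) hn, n⁻¹ * u * n⁻¹⁻¹ * u',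
          mul_mem (conj_fix (inv_smul_eq_iff.2 h2.symm) hu) hu', by group⟩
      · obtain ⟨e1, -, e2, -⟩ := ap_swap h (mu_x h hb b1) (mu_y h hb b1) hu u1
        set e := S.ap x y (S.mu x y b) u
        have he : e ∈ S.U x := ap_mem
        have e3 := (mu_eq h he e1).1
        have e4 : (S.mu x y b * n) • x = x := by rw [mul_smul, h2, mu_y h hb b1]
        refine ⟨e, he, (S.mu x y e)⁻¹ * (S.mu x y b * n),
          mul_mem (inv_mem (mN e he e1)) (mul_mem (mN b hb b1) hn),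
          (S.mu x y b * n)⁻¹ * S.ap x y (S.mu x y e) e⁻¹ * (S.mu x y b * n)⁻¹⁻¹ * u',
          mul_mem (conj_fix (inv_smul_eq_iff.2 e4.symm) ap_mem) hu', ?_⟩
        generalize S.ap x y (S.mu x y e) e⁻¹ = θ at e3 ⊢
        rw [e3, ← e2]
        group
    intro g hg
    induction hg using closure_induction_left with
    | one => exact ⟨1, one_mem _, 1, one_mem _, 1, one_mem _, by group⟩
    | mul_left k hk g _ ih =>
      obtain ⟨u, hu, n, hn, u', hu', rfl⟩ := ih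
      rcases hk with hk | ⟨b, hb, b1, rfl⟩
      · exact ⟨k * u, mul_mem hk hu, n, hn, u', hu', by group⟩
      · exact st b hb b1 u hu n hn u' hu'
    | inv_mul_cancel k hk g _ ih =>
      obtain ⟨u, hu, n, hn, u', hu', rfl⟩ := ih
      rcases hk with hk | ⟨b, hb, b1, rfl⟩
      · exact ⟨k⁻¹ * u, mul_mem (inv_mem hk) hu, n, hn, u', hu', by group⟩
      · rw [← mu_inv]
        exact st _ (inv_mem hb) (inv_ne_one.2 b1) u hu n hn u' hu'
  have Jx : S.U x ≤ J := fun u hu => subset_closure (Or.inl hu)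
  have cJ : ∀ k ∈ J, ∀ z, S.U z ≤ J → S.U (k • z) ≤ J := fun k hk z hz u hu => by
    have h1 : k⁻¹ * u * k⁻¹⁻¹ ∈ S.U z := by simpa using S.conj k⁻¹ _ u hu
    have h2 := mul_mem (mul_mem hk (hz h1)) (inv_mem hk)
    simpa [mul_assoc] using h2
  have Jy : S.U y ≤ J := by
    obtain ⟨w, wx, wy⟩ := mu_third h3 x y
    obtain ⟨a, ha, e⟩ := S.tr x y w h wx
    have a1 : a ≠ 1 := fun e' => wy (by rw [← e, e', one_smul])
    rw [← mu_x h ha a1]
    exact cJ _ (subset_closure (Or.inr ⟨a, ha, a1, rfl⟩)) _ Jx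
  have hT : S.L Set.univ ≤ J := L_le fun z _ => by
    rw [UD_univ]
    by_cases hz : z = x
    · rwa [hz]
    · obtain ⟨u, hu, rfl⟩ := S.tr x y z h hz
      exact cJ u (Jx hu) y Jy
  obtain ⟨u, hu, n, hn, u', hu', rfl⟩ := hJ g (hT (hg ▸ mem_top g))
  rcases hN n hn with ⟨h1, h2, h3⟩ | ⟨-, h2, -⟩
  · have e : u * (n * u' * n⁻¹) = 1 := by
      refine S.free x y h _ (mul_mem hu (conj_fix h2 hu')) ?_
      rw [← mul_assoc, ← mul_assoc, mul_smul, inv_smul_eq_iff.2 h3.symm, gy]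
    rwa [show u * n * u' = u * (n * u' * n⁻¹) * n by group, e, one_mul]
  · rw [mul_smul, mul_smul, S.fix x u' hu', h2] at gx
    exact absurd gx (smul_ne hu h)

/-- The lemma AN0. -/
theorem an0 (he : Even (Nat.card Ω)) (h : y ≠ x) (hc : ∀ u ∈ S.U x, ∀ v ∈ S.U x, Commute u v)
    {s a b : G} (sx : s • x = x) (sy : s • y = y) (hs : s * s = 1) {ε : ℤ} (hε : ε = 1 ∨ ε = -1)
    (ha : a ∈ S.U x) (hb : b ∈ S.U x) (a1 : a ≠ 1) (b1 : b ≠ 1) (sa : S.Spec x y a)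
    (sb : S.Spec x y b) (ea : s * a * s⁻¹ = a ^ (-ε)) (eb : s * b * s⁻¹ = b ^ ε)
    (hk : Commute (S.mu x y b * S.mu x y a) s) (e : S.mu x y a • b • y = b⁻¹ • y)
    (h2 : ∀ u ∈ S.U x, s * u * s⁻¹ = u ^ ε →
      Commute (S.mu x y b * S.mu x y a * (S.mu x y b * S.mu x y a)) u) : False := by
  have od : ∀ u ∈ S.U x, u ^ 4 = 1 → u = 1 := fun u hu e => by
    have h1 : orderOf u ∣ 2 ^ 2 := orderOf_dvd_of_pow_eq_one e
    have h2 := (odd_U he h).of_dvd_nat ((S.U x).orderOf_dvd_natCard hu)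
    exact orderOf_eq_one_iff.1 (Nat.eq_one_of_dvd_coprimes
      ((Nat.coprime_two_left.2 h2).pow_left 2) h1 dvd_rfl)
  have hab : a ≠ b := by
    rintro rfl
    rw [eb] at ea
    refine a1 (od a ha ?_)
    have e2 : a * a = 1 := by
      rcases hε with rfl | rfl
      · rw [zpow_one, zpow_neg_one] at ea
        exact mul_eq_one_iff_eq_inv.2 ea
      · rw [neg_neg, zpow_one, zpow_neg_one] at ea
        exact mul_eq_one_iff_eq_inv.2 ea.symm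
    rw [show a ^ 4 = a * a * (a * a) by simp only [pow_succ, pow_zero, one_mul, mul_assoc], e2, one_mul]
  have h3 : 3 ≤ Nat.card Ω := by
    haveI : Nontrivial (S.U x) := ⟨⟨a, ha⟩, 1, fun e => a1 (congrArg Subtype.val e)⟩
    have h1 := card_U (S := S) h
    have h2 := Finite.one_lt_card (α := S.U x)
    omega
  obtain ⟨p1, p2, -⟩ := pair h ha hb a1 b1 hab sa sb (hc a ha b hb)
    (comm_U h3 hc y _ de_mem _ de_mem)
  have kx : (S.mu x y b * S.mu x y a) • x = x := by rw [mul_smul, mu_x h ha a1, mu_y h hb b1]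
  have ky : (S.mu x y b * S.mu x y a) • y = y := by rw [mul_smul, mu_y h ha a1, mu_x h hb b1]
  have kb : S.mu x y b * S.mu x y a * b * (S.mu x y b * S.mu x y a)⁻¹ = b := by
    refine ext_U (conj_fix kx hb) hb h ?_
    rw [mul_smul, mul_smul, inv_smul_eq_iff.2 ky.symm, mul_smul, e, (sb.mu_eq h hb b1).2.2]
  have hv : S.ap x y (S.mu x y b) (a * b⁻¹) ∈ S.U x := ap_mem
  rw [p2] at p1
  generalize S.ap x y (S.mu x y b) (a * b⁻¹) = v at p1 hv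
  generalize S.mu x y b * S.mu x y a = k at p1 kx kb hk h2
  have fin : ∀ w ∈ S.U x, s * w * s⁻¹ = w ^ ε → w = b * b * (k⁻¹ * w * k) → False := by
    intro w hw e1 e2
    have c := h2 w hw e1
    have e3 : k * w * k⁻¹ = k⁻¹ * w * k :=
      calc _ = k⁻¹ * (k * k * w) * k⁻¹ := by group
        _ = _ := by rw [c.eq]; group
    have e4 : k⁻¹ * w * k = b * b * w :=
      calc _ = k * (b * b * (k⁻¹ * w * k)) * k⁻¹ := by rw [← e2, e3]
        _ = k * b * k⁻¹ * (k * b * k⁻¹) * w := by group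
        _ = _ := by rw [kb]
    rw [e4] at e2
    refine b1 (od b hb (mul_right_cancel (b := w) ?_))
    rw [one_mul]
    calc _ = b * b * (b * b * w) := by simp only [pow_succ, pow_zero, one_mul, mul_assoc]
      _ = _ := e2.symm
  have ck : ∀ u ∈ S.U x, k⁻¹ * u * k ∈ S.U x := fun u hu => by
    simpa using conj_fix (inv_smul_eq_iff.2 kx.symm) hu
  have hv1 : s * v * s⁻¹ ∈ S.U x := conj_fix sx hv
  have r0 : v = b * a * (k⁻¹ * v * k) := by rw [mul_assoc b, ← p1]; group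
  have r1 : s * v * s⁻¹ = b ^ ε * a ^ (-ε) * (k⁻¹ * (s * v * s⁻¹) * k) :=
    calc _ = s * (b * a * (k⁻¹ * v * k)) * s⁻¹ := by rw [← r0]
      _ = s * b * s⁻¹ * (s * a * s⁻¹) * ((s * k⁻¹) * v * (k * s⁻¹)) := by group
      _ = _ := by rw [ea, eb, hk.symm.inv_right.eq, hk.inv_right.eq]; group
  have r2 : s * (s * v * s⁻¹) * s⁻¹ = v :=
    calc _ = s * s * v * (s * s)⁻¹ := by group
      _ = _ := by rw [hs]; group
  generalize s * v * s⁻¹ = v1 at hv1 r1 r2 ⊢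
  have r3 : s * v * s⁻¹ = v1 :=
    calc _ = s * s * v1 * (s * s)⁻¹ := by rw [← r2]; group
      _ = _ := by rw [hs]; group
  rcases hε with rfl | rfl
  · refine fin (v * v1) (mul_mem hv hv1) ?_ ?_
    · calc _ = s * v * s⁻¹ * (s * v1 * s⁻¹) := by group
        _ = _ := by rw [r2, r3, zpow_one, (hc v hv v1 hv1).eq]
    · have c1 := (hc a ha _ (mul_mem (ck v hv) hb)).eq
      have c2 := (hc _ (ck v hv) b hb).eq
      calc _ = b * a * (k⁻¹ * v * k) * (b ^ (1 : ℤ) * a ^ (-1 : ℤ) * (k⁻¹ * v1 * k)) := by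
            rw [← r0, ← r1]
        _ = b * (a * (k⁻¹ * v * k * b)) * a⁻¹ * (k⁻¹ * v1 * k) := by group
        _ = b * (k⁻¹ * v * k * b) * (k⁻¹ * v1 * k) := by rw [c1]; group
        _ = _ := by rw [c2]; group
  · refine fin (v * v1⁻¹) (mul_mem hv (inv_mem hv1)) ?_ ?_
    · calc _ = s * v * s⁻¹ * (s * v1 * s⁻¹)⁻¹ := by group
        _ = _ := by rw [r2, r3]; group
    · have hw := ck _ (mul_mem hv (inv_mem hv1))
      have c1 := (hc a ha _ hw).eq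
      have c2 := (hc _ hw b hb).eq
      calc _ = b * a * (k⁻¹ * v * k) * (b ^ (-1 : ℤ) * a ^ (- -1 : ℤ) * (k⁻¹ * v1 * k))⁻¹ := by
            rw [← r0, ← r1]
        _ = b * (a * (k⁻¹ * (v * v1⁻¹) * k)) * a⁻¹ * b := by group
        _ = b * (k⁻¹ * (v * v1⁻¹) * k * b) := by rw [c1]; group
        _ = _ := by rw [c2]; group

end Sp

end Cfsg.Agent.HKS
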