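import Mathlib
import Cfsg.Agent.HKS.Mu
import Cfsg.Agent.Chev.TimSL2

/-! Piece LC: coordinates for the linear type -/

set_option autoImplicit false
set_option linter.unusedSectionVars false

namespace Cfsg.Agent.HKS

open Subgroup MulAction Cfsg.Agent.TT Cfsg.Agent.Perm.TT Cfsg.Agent.Cl.L2
open Cfsg.Agent.KS (St)
open scoped MatrixGroups Pointwise commutatorElement

variable {G Ω : Type*} [Group G] [MulAction G Ω] [Finite G] [Finite Ω] {S : Sp G Ω}
  {Δ Δ' : Set Ω} {x y : Ω}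

namespace LCa

open Cfsg.Agent.GT (slUp slLo)
open Cfsg.Agent.Chev.Tim

variable {F : Type} [Field F] {E : P1 F → Ω} {π : SL(2, F) →* G}

theorem det_ne (M : SL(2, F)) : M.1.det ≠ 0 := by rw [M.2]; exact one_ne_zero

theorem pm_mul' (M N : SL(2, F)) (p : P1 F) : pm (M * N).1 • p = pm M.1 • pm N.1 • p := by
  rw [← mul_smul, ← pm_mul (det_ne M) (det_ne N)]; rfl

theorem pm_one' (p : P1 F) : pm (1 : SL(2, F)).1 • p = p := by
  rw [show (1 : SL(2, F)).1 = 1 from rfl, pm_one, one_smul]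

theorem eq_top {P : Subgroup SL(2, F)} (h1 : ∀ a, slUp a ∈ P) (h2 : ∀ a, slLo a ∈ P) : P = ⊤ :=
  top_le_iff.1 (upper_sup_lower F ▸ sup_le (fun _ h => (mem_upperUnipotentSL2.1 h).elim fun a e => e ▸ h1 a)
    fun _ h => (mem_lowerUnipotentSL2.1 h).elim fun a e => e ▸ h2 a)

theorem up_inf (a : F) : pm (slUp a).1 • (inf : P1 F) = inf := (pm_smul_inf_eq_inf (det_ne _)).2 rfl

theorem up_pt (a s : F) : pm (slUp a).1 • pt s = pt (s + a) :=
  (pm_smul_pt_eq_pt (det_ne _)).2 (by simp [slUp])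

theorem lo_zero (a : F) : pm (slLo a).1 • pt (0 : F) = pt 0 := (pm_smul_pt_eq_pt (det_ne _)).2 (by simp [slLo])

theorem coe_w {t : F} (ht : t ≠ 0) : (stW slUp slLo t : SL(2, F)).1 = !![0, t; -t⁻¹, 0] := by
  change (slUp t).1 * (slLo (-t⁻¹)).1 * (slUp t).1 = _
  simp [slUp, slLo, ht]

/-- An invertible matrix is a matrix of determinant one up to a diagonal factor. -/
theorem exists_sl {B : M2 F} (hB : B.det ≠ 0) : ∃ N : SL(2, F), N.1 * !![B.det, 0; 0, 1] = B ∧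
    pm N.1 • (inf : P1 F) = pm B • inf ∧ pm N.1 • pt (0 : F) = pm B • pt 0 := by
  have hd : (!![B.det, 0; 0, 1] : M2 F).det ≠ 0 := by simpa [Matrix.det_fin_two_of] using hB
  let N : SL(2, F) := ⟨B * !![B.det⁻¹, 0; 0, 1], by simp [Matrix.det_fin_two_of, hB]⟩
  have e : N.1 * !![B.det, 0; 0, 1] = B := by
    simp [N, Matrix.mul_assoc, hB, ← Matrix.one_fin_two]
  refine ⟨N, e, ?_, ?_⟩ <;> conv_rhs => rw [← e, pm_mul (det_ne N) hd, mul_smul]
  · rw [(pm_smul_inf_eq_inf hd).2 rfl]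
  · rw [(pm_smul_pt_eq_pt hd (b := 0)).2 (by simp)]

theorem exists_two {p p' : P1 F} (h : p ≠ p') : ∃ N : SL(2, F), pm N.1 • inf = p ∧ pm N.1 • pt 0 = p' := by
  obtain ⟨g, h1, h2⟩ := exists_smul_two h
  obtain ⟨B, hB, rfl⟩ := exists_pm g
  obtain ⟨N, -, k1, k2⟩ := exists_sl hB
  exact ⟨N, k1.trans h1, k2.trans h2⟩

/-- `g` acts on the coordinates as `M`. -/
def Ac (E : P1 F → Ω) (g : G) (M : SL(2, F)) : Prop := ∀ p, g • E p = E (pm M.1 • p)

theorem Ac.mul {g h : G} {M N : SL(2, F)} (a : Ac E g M) (b : Ac E h N) : Ac E (g * h) (M * N) := fun p => by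
  rw [mul_smul, b, a, pm_mul']

theorem Ac.inv {g : G} {M : SL(2, F)} (a : Ac E g M) : Ac E g⁻¹ M⁻¹ := fun p => by
  rw [inv_smul_eq_iff, a, ← pm_mul', mul_inv_cancel, pm_one']

theorem Ac.ext (inj : Function.Injective E) {u v : G} {M N : SL(2, F)} {p : P1 F} (hu : u ∈ S.U (E p))
    (hv : v ∈ S.U (E p)) (a : Ac E u M) (b : Ac E v N) (e : M = N) : u = v := by
  obtain ⟨q, hq, -⟩ := exists_third p p
  exact Sp.ext_U hu hv (inj.ne hq.symm) (by rw [a, b, e])

/-- The basic part of the coordinates. -/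
structure P0 (S : Sp G Ω) (Δ : Set Ω) (E : P1 F → Ω) (π : SL(2, F) →* G) : Prop where
  inj : Function.Injective E
  range : Set.range E = Δ
  act : ∀ M, Ac E (π M) M
  up_mem : ∀ a : F, π (slUp a) ∈ S.U (E inf)

theorem exists_P0 [Finite F] (inj : Function.Injective E) (range : Set.range E = Δ)
    (h1 : ∀ a : F, ∃ u ∈ S.U (E inf), ∀ p, u • E p = E (pm !![1, a; 0, 1] • p))
    (h2 : ∀ a : F, ∃ v ∈ S.U (E (pt 0)), ∀ p, v • E p = E (pm !![1, 0; a, 1] • p)) : ∃ π, P0 S Δ E π := by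
  choose X hX aX using h1
  choose Y hY aY using h2
  replace aX : ∀ a, Ac E (X a) (slUp a) := aX
  replace aY : ∀ a, Ac E (Y a) (slLo a) := aY
  have aW : ∀ t, Ac E (stW X Y t) (stW slUp slLo t) := fun t => ((aX _).mul (aY _)).mul (aX _)
  have r := sl2Rel F
  have k : SL2Rel X Y := by
    refine ⟨fun s t => Ac.ext inj (hX _) (mul_mem (hX s) (hX t)) (aX _) ((aX s).mul (aX t)) (r.x_add s t),
      fun s t => Ac.ext inj (hY _) (mul_mem (hY s) (hY t)) (aY _) ((aY s).mul (aY t)) (r.y_add s t),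
      fun t ht u => Ac.ext inj ?_ (hY _) (((aW t).mul (aX u)).mul (aW t).inv) (aY _) (r.w_x t ht u),
      fun t ht u => Ac.ext inj ?_ (hX _) (((aW t).mul (aY u)).mul (aW t).inv) (aX _) (r.w_y t ht u)⟩
    · have := S.conj (stW X Y t) _ _ (hX u)
      rwa [aW, (pm_smul_inf_eq_pt (det_ne _) (b := 0)).2 (by simp [coe_w ht])] at this
    · have := S.conj (stW X Y t) _ _ (hY u)
      rwa [aW, (pm_smul_pt_eq_inf (det_ne _)).2 (by simp [coe_w ht])] at this
  obtain ⟨π, p1, p2⟩ := k.exists_hom fun _ _ => k.h_mul_of_finite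
  let P : Subgroup SL(2, F) :=
    { carrier := {M | Ac E (π M) M}
      one_mem' := fun p => by rw [map_one, one_smul, pm_one']
      mul_mem' := fun a b => show Ac E (π _) _ from (map_mul π _ _).symm ▸ Ac.mul a b
      inv_mem' := fun a => show Ac E (π _) _ from (map_inv π _).symm ▸ Ac.inv a }
  have hP : P = ⊤ := eq_top (fun a => show Ac E (π _) _ from p1 a ▸ aX a) fun a => show Ac E (π _) _ from p2 a ▸ aY a
  exact ⟨π, inj, range, fun M => show M ∈ P from hP ▸ mem_top M, fun a => p1 a ▸ hX a⟩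

namespace P0

theorem mem (h : P0 S Δ E π) (p : P1 F) : E p ∈ Δ := h.range ▸ ⟨p, rfl⟩

theorem ex (h : P0 S Δ E π) {c : Ω} (hc : c ∈ Δ) : ∃ p, E p = c := by rwa [← h.range] at hc

theorem st (h : P0 S Δ E π) (M : SL(2, F)) : π M ∈ St G Δ := KS.mem_St_of fun c hc => by
  obtain ⟨p, rfl⟩ := h.ex hc
  rw [h.act]
  exact h.mem _

theorem move (h : P0 S Δ E π) (N : SL(2, F)) :
    P0 S Δ (fun p => E (pm N.1 • p)) (π.comp (MulAut.conj N).toMonoidHom) where
  inj := h.inj.comp (MulAction.injective _)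
  range := ((MulAction.surjective (pm N.1)).range_comp E).trans h.range
  act M p := by
    change π (N * M * N⁻¹) • E (pm N.1 • p) = E (pm N.1 • pm M.1 • p)
    rw [h.act, ← pm_mul', ← pm_mul', inv_mul_cancel_right]
  up_mem a := by
    change π (N * slUp a * N⁻¹) ∈ _
    rw [map_mul, map_mul, map_inv, ← h.act]
    exact S.conj _ _ _ (h.up_mem a)

theorem root (h : P0 S Δ E π) {B : M2 F} (hB : B.det ≠ 0) {M : SL(2, F)} {b : F}
    (e : M.1 * B = B * (slUp b).1) : π M ∈ S.U (E (pm B • inf)) := by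
  obtain ⟨N, e1, e2, -⟩ := exists_sl hB
  have hd : IsUnit (!![B.det, 0; 0, 1] : M2 F).det := by simpa [Matrix.det_fin_two_of] using hB
  have : M = N * slUp (B.det * b) * N⁻¹ := by
    refine eq_mul_inv_of_mul_eq (Subtype.ext ?_)
    have := Matrix.invertibleOfIsUnitDet _ hd
    refine (Matrix.mul_left_inj_of_invertible (!![B.det, 0; 0, 1] : M2 F)).1 ?_
    rw [Matrix.SpecialLinearGroup.coe_mul, Matrix.SpecialLinearGroup.coe_mul, Matrix.mul_assoc, e1, e,
      Matrix.mul_assoc]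
    conv_lhs => rw [← e1, Matrix.mul_assoc]
    congr 1
    simp [slUp]
  rw [this, ← e2]
  exact (h.move N).up_mem _

theorem lo_mem (h : P0 S Δ E π) (a : F) : π (slLo a) ∈ S.U (E (pt 0)) := by
  have hB : (!![0, 1; 1, 0] : M2 F).det ≠ 0 := by simp [Matrix.det_fin_two_of]
  have := h.root hB (M := slLo a) (b := a) (by simp [slUp, slLo])
  rwa [(pm_smul_inf_eq_pt hB (b := 0)).2 (by simp)] at this

theorem ud (h : P0 S Δ E π) {u : G} (hu : u ∈ S.UD Δ (E inf)) : ∃ a, u = π (slUp a) := by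
  obtain ⟨hu, hs⟩ := Sp.mem_UD.1 hu
  have n : E (pt 0) ≠ E inf := h.inj.ne (pt_ne_inf 0)
  obtain ⟨p, hp⟩ := h.ex (KS.St.smul_mem hs (h.mem (pt 0)))
  obtain ⟨a, rfl⟩ := exists_pt_of_ne_inf (x := p) fun e => Sp.smul_ne hu n (by rw [← hp, e])
  exact ⟨a, Sp.ext_U hu (h.up_mem a) n (by rw [h.act, up_pt, zero_add, hp])⟩

theorem rng (h : P0 S Δ E π) : π.range = S.L Δ := by
  refine le_antisymm (map_le_iff_le_comap.2 ?_ |>.trans' (MonoidHom.range_eq_map π).le) (Sp.L_le fun c hc u hu => ?_)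
  · exact (eq_top (fun a => mem_comap.2 (Sp.UD_le_L (h.mem _) (Sp.mem_UD.2 ⟨h.up_mem a, h.st _⟩)))
      fun a => mem_comap.2 (Sp.UD_le_L (h.mem _) (Sp.mem_UD.2 ⟨h.lo_mem a, h.st _⟩))).ge
  · obtain ⟨p, rfl⟩ := h.ex hc
    obtain ⟨q, hq, -⟩ := exists_third p p
    obtain ⟨N, rfl, -⟩ := exists_two hq
    obtain ⟨a, rfl⟩ := (h.move N).ud hu
    exact ⟨_, rfl⟩

theorem cj (h : P0 S Δ E π) {g : G} {A : M2 F} (hA : A.det ≠ 0) {σ : F ≃+* F}
    (hg : ∀ p, g • E p = E (pm A • ptMap σ.toRingHom p)) {M M' : SL(2, F)} (e : M'.1 * A = A * M.1.map σ) :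
    g * π M * g⁻¹ = π M' := by
  have hA' : IsUnit A.det := hA.isUnit
  have hd : ∀ M : SL(2, F), (M.1.map σ).det = 1 := fun M =>
    (det_map_two σ.toRingHom M.1).trans (by rw [M.2, map_one])
  let c : SL(2, F) →* SL(2, F) := MonoidHom.mk' (fun M => ⟨A * M.1.map σ * A⁻¹, by simp [hd, hA]⟩) fun M N =>
    Subtype.ext (by
      change A * (M.1 * N.1).map σ * A⁻¹ = A * M.1.map σ * A⁻¹ * (A * N.1.map σ * A⁻¹)
      simp only [Matrix.mul_assoc, Matrix.nonsing_inv_mul_cancel_left _ _ hA']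
      rw [show (M.1 * N.1).map σ = M.1.map σ * N.1.map σ from Matrix.map_mul (f := σ.toRingHom), Matrix.mul_assoc])
  have hc : ∀ M, (c M).1 * A = A * M.1.map σ := fun M => Matrix.nonsing_inv_mul_cancel_right _ _ hA'
  have hp : ∀ (M : SL(2, F)) p, pm A • ptMap σ.toRingHom (pm M.1 • p) = pm (A * M.1.map σ) • ptMap σ.toRingHom p :=
    fun M p => by
      rw [ptMap_smul, map_pm _ (det_ne M), pm_mul hA (by rw [hd]; exact one_ne_zero), mul_smul]; rfl
  have k : ∀ (N : SL(2, F)) a, g * π (N * slUp a * N⁻¹) * g⁻¹ = π (c (N * slUp a * N⁻¹)) := fun N a => by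
    have h1 := S.conj g _ _ ((h.move N).up_mem a)
    rw [hg, hp, ptMap_inf] at h1
    have hB : (A * N.1.map σ).det ≠ 0 := by rwa [Matrix.det_mul, hd, mul_one]
    have h2 := h.root hB (M := c (N * slUp a * N⁻¹)) (b := σ a) (by
      have : (slUp (σ a)).1 = (slUp a).1.map σ := by ext i j; fin_cases i <;> fin_cases j <;> simp [slUp]
      rw [← Matrix.mul_assoc, hc, this, Matrix.mul_assoc, Matrix.mul_assoc]
      congr 1
      refine (Matrix.map_mul (f := σ.toRingHom)).symm.trans (Eq.trans ?_ (Matrix.map_mul (f := σ.toRingHom)))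
      rw [← Matrix.SpecialLinearGroup.coe_mul, inv_mul_cancel_right, Matrix.SpecialLinearGroup.coe_mul])
    refine Sp.ext_U h1 h2 (y := g • E (pm N.1 • pt 0)) (fun e => ?_) ?_
    · rw [← ptMap_inf σ.toRingHom, ← hp, ← hg] at e
      exact pt_ne_inf 0 (MulAction.injective _ (h.inj (MulAction.injective g e)))
    · rw [mul_smul, inv_smul_smul, mul_smul, h.act, hg, hg, h.act, hp, ← hc, pm_mul (det_ne _) hA, mul_smul]
  have hP : ((MulAut.conj g).toMonoidHom.comp π).eqLocus (π.comp c) = ⊤ := by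
    refine eq_top (fun a => ?_) fun a => ?_
    · have := k 1 a
      rwa [one_mul, inv_one, mul_one] at this
    have := k (stW slUp slLo 1) (-a)
    rwa [(sl2Rel F).w_x 1 one_ne_zero, one_pow, div_one, neg_neg] at this
  have : M' = c M := Subtype.ext (by
    rw [← Matrix.mul_nonsing_inv_cancel_right A M'.1 hA', e]; rfl)
  rw [this]
  exact show M ∈ ((MulAut.conj g).toMonoidHom.comp π).eqLocus (π.comp c) from hP ▸ mem_top M

theorem semi0 [Finite F] (h : P0 S Δ E π) (two : (2 : F) ≠ 0) {g : G} (hg : g ∈ St G Δ) (h1 : g • E inf = E inf)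
    (h2 : g • E (pt 0) = E (pt 0)) : ∃ (l : F) (σ : F ≃+* F), l ≠ 0 ∧ ∀ s, g • E (pt s) = E (pt (l * σ s)) := by
  choose φ hφ using fun a => h.ud (Sp.conj_mem_UD hg h1 (Sp.mem_UD.2 ⟨h.up_mem a, h.st _⟩))
  have g2 : g⁻¹ • E (pt 0) = E (pt 0) := inv_smul_eq_iff.2 h2.symm
  have ac : ∀ s, g • E (pt s) = E (pt (φ s)) := fun s => by
    have := congrArg (· • E (pt 0)) (hφ s)
    simpa only [mul_smul, g2, h.act _ _, up_pt, zero_add] using this
  have inj : Function.Injective φ := fun a b e =>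
    pt_injective (h.inj (MulAction.injective g (by simp only [ac, e])))
  have add : ∀ a b, φ (a + b) = φ a + φ b := fun a b => by
    have := congrArg (· • E (pt (φ a))) (hφ b)
    simp only [mul_smul, h.act _ _, up_pt] at this
    rw [← ac, inv_smul_smul, h.act, up_pt, ac] at this
    exact pt_injective (h.inj this)
  have z : φ 0 = 0 := by simpa using add 0 0
  have ne : ∀ {a}, a ≠ 0 → φ a ≠ 0 := fun ha e => ha (inj (e.trans z.symm))
  have sq : ∀ t, φ 1 * φ (t * t) = φ t * φ t := fun t => by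
    rcases eq_or_ne t 0 with rfl | ht
    · simp [z]
    have w : ∀ {t s : F}, t ≠ 0 → s ≠ 0 → π (stW slUp slLo t) • E (pt s) = E (pt (-(t * t / s))) :=
      fun {t s} ht hs => by
        rw [h.act, (pm_smul_pt_eq_pt (det_ne _)).2]
        simp [coe_w ht]
        field_simp
    have e : g * π (slLo (-t⁻¹)) * g⁻¹ = π (slLo (-(φ t)⁻¹)) := by
      refine Sp.ext_U (Sp.conj_fix h2 (h.lo_mem _)) (h.lo_mem _) (h.inj.ne (inf_ne_pt 0)) ?_
      have n : φ (-t) = -φ t := eq_neg_of_add_eq_zero_left (by rw [← add, neg_add_cancel, z])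
      rw [mul_smul, mul_smul, inv_smul_eq_iff.2 h1.symm, h.act, h.act,
        (pm_smul_inf_eq_pt (det_ne _) (b := -t)).2 (by simp [slLo, ht]),
        (pm_smul_inf_eq_pt (det_ne _) (b := -φ t)).2 (by simp [slLo, ne ht]), ac, n]
    have e' : g * π (stW slUp slLo t) * g⁻¹ = π (stW slUp slLo (φ t)) := by
      simp only [stW, map_mul, ← hφ, ← e]
      group
    have := congrArg (· • E (pt (φ (-1)))) e'
    have n : φ (-1) = -φ 1 := eq_neg_of_add_eq_zero_left (by rw [← add, neg_add_cancel, z])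
    simp only [mul_smul] at this
    rw [w (ne ht) (ne (by simp)), ← ac, inv_smul_smul, w ht (by simp), ac, n, div_neg, div_neg, neg_neg, neg_neg,
      div_one] at this
    rw [pt_injective (h.inj this), mul_div_cancel₀ _ (ne one_ne_zero)]
  have l0 := ne one_ne_zero
  let σ : F →+* F :=
    { toFun := fun a => φ a / φ 1
      map_one' := div_self l0
      map_zero' := by rw [z, zero_div]
      map_add' := fun a b => by rw [add, add_div]
      map_mul' := fun a b => by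
        have := sq (a + b)
        rw [show (a + b) * (a + b) = a * a + (a * b + a * b) + b * b by ring, add, add, add, add, mul_add, mul_add,
          sq, sq] at this
        field_simp
        exact mul_left_cancel₀ two (by linear_combination this) }
  exact ⟨φ 1, RingEquiv.ofBijective σ (Finite.injective_iff_bijective.1 σ.injective), l0, fun s => by
    rw [ac]; exact congrArg _ (congrArg _ (mul_div_cancel₀ _ l0).symm)⟩

theorem semi [Finite F] (h : P0 S Δ E π) (two : (2 : F) ≠ 0) {g : G} (hg : g ∈ St G Δ) :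
    ∃ A : M2 F, A.det ≠ 0 ∧ ∃ σ : F ≃+* F, ∀ p, g • E p = E (pm A • ptMap σ.toRingHom p) := by
  obtain ⟨p, hp⟩ := h.ex (KS.St.smul_mem hg (h.mem inf))
  obtain ⟨p', hp'⟩ := h.ex (KS.St.smul_mem hg (h.mem (pt 0)))
  obtain ⟨N, rfl, rfl⟩ := exists_two (p := p) (p' := p') fun e =>
    inf_ne_pt 0 (h.inj (MulAction.injective g (by simp only [← hp, ← hp', e])))
  obtain ⟨l, σ, hl, k⟩ := h.semi0 two (mul_mem (inv_mem (h.st N)) hg)
    (by rw [mul_smul, ← hp, ← h.act, inv_smul_smul]) (by rw [mul_smul, ← hp', ← h.act, inv_smul_smul])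
  have hd : (!![l, 0; 0, 1] : M2 F).det ≠ 0 := by simpa [Matrix.det_fin_two_of] using hl
  refine ⟨N.1 * !![l, 0; 0, 1], by rw [Matrix.det_mul]; exact mul_ne_zero (det_ne N) hd, σ, fun q => ?_⟩
  rw [pm_mul (det_ne N) hd, mul_smul]
  rcases eq_inf_or_pt q with rfl | ⟨s, rfl⟩
  · rw [ptMap_inf, (pm_smul_inf_eq_inf hd).2 rfl, hp]
  · rw [ptMap_pt, (pm_smul_pt_eq_pt hd (b := l * σ s)).2 (by simp), ← h.act, ← k, mul_smul, smul_inv_smul]

end P0

theorem p0 (h : S.LC Δ E π) : P0 S Δ E π := ⟨h.inj, h.range, h.act, h.up_mem⟩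

theorem four {α : Type} (h : Nat.card α = 4) {f m : Equiv.Perm α} {p q : α} (hq : q ≠ p) (f0 : f p = p)
    (m0 : m p = p) (f1 : ∀ a, a ≠ p → f a = a → f = 1) (m1 : ∀ a, a ≠ p → m a = a → m = 1) (e : f q = m q) :
    f = m := by
  have k0 : ∀ (p q : Fin 4) (f m : Equiv.Perm (Fin 4)), (q ≠ p ∧ f p = p ∧ m p = p ∧ f q = m q) →
      f = m ∨ (∃ a, a ≠ p ∧ f a = a ∧ f ≠ 1) ∨ ∃ a, a ≠ p ∧ m a = a ∧ m ≠ 1 := by decide +kernel
  have k : ∀ (p q : Fin 4) (f : Equiv.Perm (Fin 4)), q ≠ p → f p = p → (∀ a, a ≠ p → f a = a → f = 1) →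
      ∀ m : Equiv.Perm (Fin 4), m p = p → (∀ a, a ≠ p → m a = a → m = 1) → f q = m q → f = m :=
    fun p q f a b c m d e g => (k0 p q f m ⟨a, b, d, g⟩).resolve_right fun h =>
      h.elim (fun ⟨x, u, v, w⟩ => w (c x u v)) fun ⟨x, u, v, w⟩ => w (e x u v)
  have : Finite α := Nat.finite_of_card_ne_zero (by omega)
  let ε := Finite.equivFinOfCardEq h
  have t : ∀ f : Equiv.Perm α, (∀ a, a ≠ p → f a = a → f = 1) →
      ∀ a, a ≠ ε p → ε.permCongr f a = a → ε.permCongr f = 1 := fun f f1 a ha e => by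
    rw [f1 (ε.symm a) (fun e => ha (by rw [← e, ε.apply_symm_apply])) (ε.injective (by simpa using e))]
    exact Equiv.permCongr_refl ε
  exact ε.permCongr.injective (k (ε p) (ε q) _ (ε.injective.ne hq) (by simp [f0]) (t f f1) _ (by simp [m0]) (t m m1)
    (by simp [e]))

end LCa

open LCa

namespace Sp

theorem LT.exists_lc (h : S.LT Δ) (hx : x ∈ Δ) (hy : y ∈ Δ) (hxy : y ≠ x) :
    ∃ (F : Type) (_ : Field F) (_ : Fintype F) (E : P1 F → Ω) (π : SL(2, F) →* G),
      S.LC Δ E π ∧ E inf = x ∧ E (pt 0) = y ∧ Δ.ncard = Fintype.card F + 1 := by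
  obtain ⟨F, _, _, E, inj, range, h1, h2⟩ := h.ty
  obtain ⟨π, k⟩ := exists_P0 inj range h1 h2
  obtain ⟨p, rfl⟩ := k.ex hx
  obtain ⟨p', rfl⟩ := k.ex hy
  obtain ⟨N, rfl, rfl⟩ := exists_two (p := p) (p' := p') fun e => hxy (by rw [e])
  have hc : Δ.ncard = Fintype.card F + 1 := by
    rw [← range, Set.ncard_range_of_injective inj, card_P1, Nat.card_eq_fintype_card]
  have two : (2 : F) ≠ 0 := fun e => by
    obtain ⟨j, hj⟩ := Nat.not_even_iff_odd.1 (Nat.even_add_one.1 (hc ▸ h.cl.even h.ev ⟨_, hy, _, hx, hxy⟩))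
    have h0 : (Fintype.card F : F) = 0 := FiniteField.cast_card_eq_zero F
    simp [hj, e] at h0
  have k' := k.move N
  exact ⟨F, _, _, _, _, ⟨h.cl, two, k'.inj, k'.range, k'.act, k'.rng, k'.up_mem, fun _ => k'.ud,
    fun _ => k'.semi two, fun _ _ _ hA _ hg _ _ => k'.cj hA hg⟩, rfl, rfl, hc⟩

theorem LC.mu_up {F : Type} [Field F] {E : P1 F → Ω} {π : SL(2, F) →* G} (h : S.LC Δ E π) {b : F}
    (hb : b ≠ 0) : ∃ M : SL(2, F), M.1 = !![0, b; -b⁻¹, 0] ∧
      S.mu (E inf) (E (pt 0)) (π (up b)) = π M := by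
  have e : (GT.slLo (-b⁻¹) * up b * GT.slLo (-b⁻¹)).1 = !![0, b; -b⁻¹, 0] := by
    change (GT.slLo (-b⁻¹)).1 * (up b).1 * (GT.slLo (-b⁻¹)).1 = _
    simp [GT.slLo, up, hb]
  refine ⟨_, e, (mu_unique (h.inj.ne (pt_ne_inf 0)) (h.up_mem b) (fun e' => hb ?_) ((p0 h).lo_mem _)
    ((p0 h).lo_mem _) ?_ ?_).symm.trans (by rw [map_mul, map_mul])⟩
  · have := h.act (up b) (pt 0)
    rw [e', one_smul, show pm (up b).1 • pt (0 : F) = _ from up_pt b 0, zero_add] at this
    exact (pt_injective (h.inj this)).symm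
  · rw [← map_mul, ← map_mul, h.act, (pm_smul_inf_eq_pt (det_ne _) (b := 0)).2 (by simp [e])]
  · rw [← map_mul, ← map_mul, h.act, (pm_smul_pt_eq_inf (det_ne _)).2 (by simp [e])]

theorem LC.mem_W {F : Type} [Field F] {E : P1 F → Ω} {π : SL(2, F) →* G} (h : S.LC Δ E π)
    {M : SL(2, F)} : π M ∈ W G Δ ↔ M = 1 ∨ M = -1 := by
  rw [HKS.mem_W]
  constructor
  · intro k
    have k' : ∀ p, pm M.1 • p = p := fun p => h.inj ((h.act M p).symm.trans (k _ ((p0 h).mem p)))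
    obtain ⟨h1, h2, h3⟩ := (pm_eq_one_iff (det_ne M)).1 (eq_one_of_fix_std (k' _) (k' _) (k' _))
    have hd := M.2
    rw [Matrix.det_fin_two, h1, ← h3, zero_mul, sub_zero, mul_self_eq_one_iff] at hd
    refine hd.imp (fun e => Subtype.ext ?_) fun e => Subtype.ext ?_ <;>
      ext i j <;> fin_cases i <;> fin_cases j <;> simp [h1, h2, ← h3, e]
  · intro k c hc
    obtain ⟨p, rfl⟩ := (p0 h).ex hc
    rcases k with rfl | rfl
    · rw [map_one, one_smul]
    · rw [h.act, Matrix.SpecialLinearGroup.coe_neg, pm_neg, pm_one']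

/-- Elements fixing `∞` and `0` are semilinear. -/
theorem LC.semi0 {F : Type} [Field F] {E : P1 F → Ω} {π : SL(2, F) →* G} (h : S.LC Δ E π) {g : G}
    (hg : g ∈ St G Δ) (h1 : g • E inf = E inf) (h2 : g • E (pt 0) = E (pt 0)) :
    ∃ (l : F) (σ : F ≃+* F), l ≠ 0 ∧ (∀ s, g • E (pt s) = E (pt (l * σ s))) ∧
      ∀ a, g * π (up a) * g⁻¹ = π (up (l * σ a)) := by
  have : Finite F := Finite.of_injective _ (h.inj.comp pt_injective)
  obtain ⟨l, σ, hl, k⟩ := (p0 h).semi0 h.two hg h1 h2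
  refine ⟨l, σ, hl, k, fun a => ext_U (conj_fix h1 (h.up_mem a)) (h.up_mem _) (h.inj.ne (pt_ne_inf 0)) ?_⟩
  rw [mul_smul, mul_smul, inv_smul_eq_iff.2 h2.symm, h.act, h.act, show pm (up a).1 • pt (0 : F) = _ from up_pt a 0,
    show pm (up (l * σ a)).1 • pt (0 : F) = _ from up_pt _ 0, zero_add, zero_add, k]

/-- Elements interchanging `∞` and `0`. -/
theorem LC.semi1 {F : Type} [Field F] {E : P1 F → Ω} {π : SL(2, F) →* G} (h : S.LC Δ E π) {g : G}
    (hg : g ∈ St G Δ) (h1 : g • E inf = E (pt 0)) (h2 : g • E (pt 0) = E inf) :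
    ∃ (l : F) (σ : F ≃+* F), l ≠ 0 ∧ ∀ s, s ≠ 0 → g • E (pt s) = E (pt (l / σ s)) := by
  obtain ⟨A, hA, σ, k⟩ := h.semi g hg
  rw [k, ptMap_inf] at h1
  rw [k, ptMap_pt, map_zero] at h2
  have a0 := (pm_smul_inf_eq_pt hA).1 (h.inj h1)
  have a1 := (pm_smul_pt_eq_inf hA).1 (h.inj h2)
  rw [zero_mul] at a0
  rw [mul_zero, zero_add] at a1
  have hd := hA
  rw [Matrix.det_fin_two, a0, zero_mul, zero_sub, neg_ne_zero, mul_ne_zero_iff] at hd
  refine ⟨A 0 1 / A 1 0, σ, div_ne_zero hd.1 hd.2, fun s hs => ?_⟩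
  rw [k, ptMap_pt, (pm_smul_pt_eq_pt hA).2]
  have := σ.map_ne_zero_iff.2 hs
  have := hd.2
  simp only [a0, a1, RingEquiv.toRingHom_eq_coe, RingHom.coe_coe]
  field_simp
  ring

theorem Cl.tyL_of_four (h : S.Cl Δ) (h4 : Δ.ncard = 4) : S.TyL Δ := by
  have hc : Nat.card (P1 (ZMod 3)) = 4 := by rw [card_P1]; simp
  obtain ⟨ε⟩ : Nonempty (P1 (ZMod 3) ≃ Δ) := Finite.card_eq.1 (hc.trans h4.symm)
  have inj : Function.Injective fun p => (ε p : Ω) := Subtype.val_injective.comp ε.injective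
  have k : ∀ (p : P1 (ZMod 3)) (m : PGL(2, ZMod 3)), m • p = p → (∀ a, a ≠ p → m • a = a → m = 1) →
      ∃ u ∈ S.U (ε p : Ω), ∀ a, u • (ε a : Ω) = ε (m • a) := fun p m m0 m1 => by
    obtain ⟨q, hq, -⟩ := exists_third p p
    obtain ⟨u, hu, e⟩ := h.exists_UD (ε p).2 (ε q).2 (ε (m • q)).2 (inj.ne hq.symm)
      (inj.ne fun e => hq (MulAction.injective m (m0.trans e.symm)))
    obtain ⟨hu, hs⟩ := mem_UD.1 hu
    let f : P1 (ZMod 3) → P1 (ZMod 3) := fun a => ε.symm ⟨u • (ε a : Ω), KS.St.smul_mem hs (ε a).2⟩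
    have hf : ∀ a, (ε (f a) : Ω) = u • (ε a : Ω) := fun a => by simp [f]
    have fi : Function.Injective f := fun a b e => inj (MulAction.injective u (by simp only [← hf, e]))
    have := four hc (f := Equiv.ofBijective f (Finite.injective_iff_bijective.1 fi)) (m := toPerm m) hq.symm
      (inj ((hf p).trans (S.fix _ _ hu))) m0
      (fun a ha e => Equiv.ext fun b => inj ((hf b).trans (by
        rw [S.free _ _ (inj.ne ha) u hu ((hf a).symm.trans (congrArg (fun c => (ε c : Ω)) e)), one_smul]; rfl)))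
      (fun a ha e => by rw [m1 a ha e]; exact Equiv.ext fun c => one_smul PGL(2, ZMod 3) c) (inj ((hf q).trans e))
    exact ⟨u, hu, fun a => (hf a).symm.trans (congrArg (fun c => (ε c : Ω)) (DFunLike.congr_fun this a))⟩
  refine ⟨ZMod 3, inferInstance, inferInstance, _, inj, ?_, fun a => k _ _ (up_inf a) fun b hb e => ?_,
    fun a => k _ _ (lo_zero a) fun b hb e => ?_⟩
  · exact (ε.surjective.range_comp _).trans Subtype.range_coe
  · obtain ⟨s, rfl⟩ := exists_pt_of_ne_inf hb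
    obtain rfl : a = 0 := by simpa using pt_injective ((up_pt a s).symm.trans e)
    rw [← Matrix.one_fin_two, pm_one]
  · obtain rfl : a = 0 := by
      rcases eq_inf_or_pt b with rfl | ⟨s, rfl⟩
      · exact (pm_smul_inf_eq_inf (det_ne (GT.slLo a))).1 e
      · have h1 := (pm_smul_pt_eq_pt (det_ne (GT.slLo a))).1 e
        have h2 : s ≠ 0 := fun e => hb (by rw [e])
        simp only [GT.slLo, Matrix.of_apply, Matrix.cons_val', Matrix.cons_val_zero, Matrix.cons_val_one,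
          Matrix.cons_val_fin_one] at h1
        exact (show ∀ a s : ZMod 3, s ≠ 0 → 1 * s + 0 = s * (a * s + 1) → a = 0 by decide) a s h2 h1
    rw [← Matrix.one_fin_two, pm_one]

end Sp

end Cfsg.Agent.HKS
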