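import Mathlib
import Cfsg.Agent.HKS.LC
import Cfsg.Agent.Cl.PSL2Pairs
import Cfsg.Agent.Cl.LinearBasic
import Cfsg.Agent.S2427

/-! Piece LFA: the linear type, first facts -/

set_option autoImplicit false

namespace Cfsg.Agent.HKS

open Subgroup MulAction Cfsg.Agent.TT Cfsg.Agent.Perm.TT Cfsg.Agent.Cl.L2
open Cfsg.Agent.KS (St)
open scoped MatrixGroups Pointwise commutatorElement

namespace LFA

section Mat

variable {F : Type*} [Field F]

theorem up_coe (a : F) : (up a : M2 F) = !![1, a; 0, 1] := rfl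

theorem up_add (a b : F) : up (a + b) = up a * up b := by
  ext i j; fin_cases i <;> fin_cases j <;> simp [up_coe, add_comm]

theorem up_zero : up (0 : F) = 1 := by
  ext i j; fin_cases i <;> fin_cases j <;> simp [up]

theorem up_neg (a : F) : up (-a) = (up a)⁻¹ :=
  eq_inv_of_mul_eq_one_left (by rw [← up_add, neg_add_cancel, up_zero])

theorem up_pow (a : F) (n : ℕ) : up a ^ n = up (n * a) := by
  induction n with
  | zero => simp [up_zero]
  | succ n ih => rw [pow_succ, ih, ← up_add]; congr 1; push_cast; ring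

theorem up_smul (a b : F) : pm (up a).1 • pt b = pt (b + a) := by
  rw [pm_smul_pt_eq_pt (sl_det_ne_zero _)]; simp [up]

/-- A diagonal matrix. -/
def dg (t : F) (ht : t ≠ 0) : SL(2, F) := ⟨!![t, 0; 0, t⁻¹], by simp [Matrix.det_fin_two, ht]⟩

theorem dg_coe (t : F) (ht : t ≠ 0) : (dg t ht : M2 F) = !![t, 0; 0, t⁻¹] := rfl

theorem dg_up (t : F) (ht : t ≠ 0) (a : F) : dg t ht * up a * (dg t ht)⁻¹ = up (t * t * a) := by
  rw [mul_inv_eq_iff_eq_mul]
  ext i j; fin_cases i <;> fin_cases j <;> simp [up_coe, dg_coe]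
  field_simp

/-- The first generator of the quaternion group. -/
def qi : SL(2, F) := ⟨!![0, -1; 1, 0], by simp [Matrix.det_fin_two]⟩

/-- The second generator of the quaternion group. -/
def qj (a b : F) (h : a ^ 2 + b ^ 2 = -1) : SL(2, F) :=
  ⟨!![a, b; b, -a], by rw [Matrix.det_fin_two_of]; linear_combination -h⟩

theorem qi_coe : ((qi : SL(2, F)) : M2 F) = !![0, -1; 1, 0] := rfl

theorem qj_coe (a b : F) (h : a ^ 2 + b ^ 2 = -1) : (qj a b h : M2 F) = !![a, b; b, -a] := rfl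

theorem qi_sq : (qi * qi : SL(2, F)) = -1 := by
  ext i j; fin_cases i <;> fin_cases j <;> simp [qi_coe]

theorem qj_sq (a b : F) (h : a ^ 2 + b ^ 2 = -1) : qj a b h * qj a b h = -1 := by
  ext i j; fin_cases i <;> fin_cases j <;> simp [qj_coe]
  · linear_combination h
  · ring
  · ring
  · linear_combination h

theorem qj_qi (a b : F) (h : a ^ 2 + b ^ 2 = -1) : qj a b h * qi * (qj a b h)⁻¹ = qi⁻¹ := by
  have e : (qi⁻¹ : SL(2, F)) = -qi := inv_eq_of_mul_eq_one_right (by rw [mul_neg, qi_sq, neg_neg])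
  rw [mul_inv_eq_iff_eq_mul, e]
  ext i j; fin_cases i <;> fin_cases j <;> simp [qj_coe, qi_coe]

theorem qi_mem (h3 : (3 : F) = 0) : qi ∈ commutator SL(2, F) := by
  let v : SL(2, F) := ⟨!![1, 0; 1, 1], by simp [Matrix.det_fin_two]⟩
  have hv : (v : M2 F) = !![1, 0; 1, 1] := rfl
  have e : (qi : SL(2, F)) = ⁅up (1 : F), v⁆ := by
    rw [commutatorElement_def, eq_mul_inv_iff_mul_eq, eq_mul_inv_iff_mul_eq]
    ext i j; fin_cases i <;> fin_cases j <;> simp [qi_coe, up_coe, hv]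
    · linear_combination -h3
    · linear_combination -h3
  rw [e]
  exact commutator_mem_commutator (mem_top _) (mem_top _)

theorem conj_qi_smul (c : F) : pm (up c * qi * (up c)⁻¹ : SL(2, F)).1 • inf = pt c := by
  rw [pm_smul_inf_eq_pt (sl_det_ne_zero _), ← up_neg]; simp [up_coe, qi_coe]

theorem conj_qi (h : (1 : F) ^ 2 + 1 ^ 2 = -1) : qj 1 1 h = up 1 * qi * (up 1)⁻¹ := by
  rw [← up_neg]
  ext i j; fin_cases i <;> fin_cases j <;> simp [qj_coe, qi_coe, up_coe]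
  linear_combination h

theorem root_of_fix {A : SL(2, F)} (h : A * A = -1) {p : P1 F} (hp : pm A.1 • p = p) : ∃ l : F, l * l = -1 := by
  have e : ∀ i j, (A.1 * A.1) i j = (-1 : M2 F) i j := fun i j => congrArg (fun B : SL(2, F) => B.1 i j) h
  have e00 := e 0 0
  have e10 := e 1 0
  have e11 := e 1 1
  simp [Matrix.mul_apply] at e00 e10 e11
  rcases eq_inf_or_pt p with rfl | ⟨a, rfl⟩
  · rw [pm_smul_inf_eq_inf (sl_det_ne_zero _)] at hp
    exact ⟨A.1 0 0, by rw [hp] at e00; linear_combination e00⟩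
  · rw [pm_smul_pt_eq_pt (sl_det_ne_zero _)] at hp
    exact ⟨A.1 1 0 * a + A.1 1 1, by linear_combination a * e10 + e11 - A.1 1 0 * hp⟩

variable [Fintype F]

theorem three_le (h2 : (2 : F) ≠ 0) : 3 ≤ Fintype.card F :=
  Fintype.two_lt_card_iff.2 ⟨0, 1, -1, zero_ne_one, by simp, fun h => h2 (by linear_combination h)⟩

theorem comm_top (h : 3 < Fintype.card F) : commutator SL(2, F) = ⊤ := by
  classical
  by_contra hc
  have : (Finset.univ : Finset F) ⊆ {0, 1, -1} := fun a _ => by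
    by_contra ha
    simp only [Finset.mem_insert, Finset.mem_singleton, not_or] at ha
    exact hc (Matrix.SL2.commutator_eq_top ha.1 fun e => (sq_eq_one_iff.1 e).elim ha.2.1 ha.2.2)
  have h1 := (Finset.card_le_card this).trans Finset.card_le_three
  rw [Finset.card_univ] at h1
  omega

theorem three_eq (h : Fintype.card F = 3) : (3 : F) = 0 := by
  have := FiniteField.cast_card_eq_zero F
  rwa [h] at this

theorem q8 (h : Fintype.card F = 3) : Nat.card (commutator SL(2, F)) = 8 ∧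
    ∀ A ∈ commutator SL(2, F), A * A = 1 ∨ A * A = -1 := by
  have h2 : (2 : F) ≠ 0 := fun e => one_ne_zero (α := F) (by linear_combination three_eq h - e)
  let e : ZMod 3 ≃+* F := FiniteField.ringEquivOfCardEq (by rw [h, ZMod.card])
  let φ : SL(2, ZMod 3) →* SL(2, F) := Matrix.SpecialLinearGroup.map e.toRingHom
  have hi : Function.Injective φ := fun A B hAB => by
    ext i j
    exact e.injective (congrArg (fun C : SL(2, F) => C.1 i j) hAB)
  have hs : φ.range = ⊤ := MonoidHom.range_eq_top.2 fun A =>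
    ⟨Matrix.SpecialLinearGroup.map e.symm.toRingHom A, by ext i j; exact e.apply_symm_apply _⟩
  have hm : (commutator SL(2, ZMod 3)).map φ = commutator SL(2, F) := by
    rw [map_commutator_eq, hs, commutator_def]
  refine ⟨by rw [← hm, card_map_of_injective hi, S2427.result.2.2.1], fun A hA => ?_⟩
  refine sl_mul_self_eq_one h2 ?_
  rw [← hm] at hA
  obtain ⟨B, hB, rfl⟩ := hA
  obtain ⟨f⟩ := S2427.result.2.2.2.1
  have h4 : ∀ x : QuaternionGroup 2, x * x * (x * x) = 1 := by decide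
  have := congrArg Subtype.val (f.injective (a₁ := ⟨B, hB⟩ * ⟨B, hB⟩ * (⟨B, hB⟩ * ⟨B, hB⟩)) (a₂ := 1)
    (by simp only [map_mul, map_one, h4]))
  rw [← map_mul, ← map_mul, show B * B * (B * B) = 1 from this, map_one]

theorem no_root (h : Fintype.card F = 3) (l : F) : l * l ≠ -1 := fun e => by
  have h1 := FiniteField.pow_card l
  rw [h] at h1
  have h2 : l = 0 := by linear_combination h1 - l * e + l * three_eq h
  rw [h2, mul_zero] at e
  exact one_ne_zero (α := F) (by linear_combination e)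

theorem exists_quat (h2 : (2 : F) ≠ 0) : ∃ i ∈ commutator SL(2, F), ∃ j ∈ commutator SL(2, F),
    i * i = -1 ∧ j * j = -1 ∧ j * i * j⁻¹ = i⁻¹ := by
  rcases (three_le h2).eq_or_lt with h | h
  · have h3 := three_eq h.symm
    have e : (1 : F) ^ 2 + 1 ^ 2 = -1 := by linear_combination h3
    refine ⟨qi, qi_mem h3, qj 1 1 e, ?_, qi_sq, qj_sq _ _ _, qj_qi _ _ _⟩
    rw [conj_qi]
    exact Normal.conj_mem inferInstance _ (qi_mem h3) _
  · obtain ⟨p, hp, n, hp', -⟩ := FiniteField.card' F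
    have : NeZero p := ⟨hp'.ne_zero⟩
    obtain ⟨a, b, e⟩ := CharP.sq_add_sq F p (-1)
    rw [comm_top h]
    exact ⟨qi, mem_top _, qj a b (by simpa using e), mem_top _, qi_sq, qj_sq _ _ _, qj_qi _ _ _⟩

end Mat

variable {G Ω : Type*} [Group G] [MulAction G Ω] [Finite G] [Finite Ω] {S : Sp G Ω} {Δ : Set Ω}
  {F : Type} [Field F] {E : P1 F → Ω} {π : SL(2, F) →* G}

omit [Finite G] [Finite Ω] in
theorem exists_eq (h : S.LC Δ E π) {g : G} (hg : g ∈ S.L Δ) : ∃ M, π M = g := by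
  rwa [← h.rng] at hg

omit [Finite G] [Finite Ω] in
theorem mem_L (h : S.LC Δ E π) (M : SL(2, F)) : π M ∈ S.L Δ := h.rng ▸ ⟨M, rfl⟩

theorem bot_iff (h : S.LC Δ E π) : S.L Δ ⊓ W G Δ = ⊥ ↔ π (-1) = 1 := by
  refine ⟨fun e => ?_, fun e => eq_bot_iff.2 fun g hg => ?_⟩
  · rw [← mem_bot, ← e]
    exact ⟨mem_L h _, h.mem_W.2 (Or.inr rfl)⟩
  · obtain ⟨M, rfl⟩ := exists_eq h hg.1
    rcases h.mem_W.1 hg.2 with rfl | rfl
    · exact map_one π
    · exact e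

theorem eq_neg (h : S.LC Δ E π) {z : G} (hz : z ∈ S.L Δ) (hw : z ∈ W G Δ) (h1 : z ≠ 1) : π (-1) = z := by
  obtain ⟨M, rfl⟩ := exists_eq h hz
  rcases h.mem_W.1 hw with rfl | rfl
  · exact absurd (map_one π) h1
  · rfl

theorem injective (h : S.LC Δ E π) (h1 : π (-1) ≠ 1) : Function.Injective π :=
  (injective_iff_map_eq_one π).2 fun _ e =>
    (h.mem_W.1 (e ▸ one_mem _)).resolve_right fun e' => h1 (e' ▸ e)

omit [Finite G] [Finite Ω] in
theorem der_eq (h : S.LC Δ E π) : ⁅S.L Δ, S.L Δ⁆ = (commutator SL(2, F)).map π := by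
  rw [map_commutator_eq, h.rng]

end LFA

open LFA

variable {G Ω : Type*} [Group G] [MulAction G Ω] [Finite G] [Finite Ω] {S : Sp G Ω}
  {Δ Δ' : Set Ω} {x y : Ω}

namespace Sp.LT

omit [Finite G] [Finite Ω] in
theorem nontrivial' (h : S.LT Δ) : Δ.Nontrivial := by
  obtain ⟨F, _, _, E, hE, rfl, -⟩ := h.ty
  exact ⟨_, ⟨inf, rfl⟩, _, ⟨pt 0, rfl⟩, hE.ne (inf_ne_pt 0)⟩

theorem lc0 (h : S.LT Δ) : ∃ (F : Type) (_ : Field F) (_ : Fintype F) (E : P1 F → Ω) (π : SL(2, F) →* G),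
    S.LC Δ E π ∧ Δ.ncard = Fintype.card F + 1 := by
  obtain ⟨x, hx, y, hy, hxy⟩ := h.nontrivial'
  obtain ⟨F, _, _, E, π, c, -, -, e⟩ := h.exists_lc hx hy hxy.symm
  exact ⟨F, _, _, E, π, c, e⟩

theorem lc1 (h : S.LT Δ) (hx : x ∈ Δ) : ∃ (F : Type) (_ : Field F) (_ : Fintype F) (E : P1 F → Ω)
    (π : SL(2, F) →* G), S.LC Δ E π ∧ E inf = x ∧ Δ.ncard = Fintype.card F + 1 := by
  obtain ⟨y, hy, hxy⟩ := h.nontrivial'.exists_ne x
  obtain ⟨F, _, _, E, π, c, e1, -, e⟩ := h.exists_lc hx hy hxy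
  exact ⟨F, _, _, E, π, c, e1, e⟩

theorem four (h : S.LT Δ) : 4 ≤ Δ.ncard := by
  obtain ⟨F, _, _, E, π, c, e⟩ := h.lc0
  have := three_le c.two
  omega

theorem nontrivial (h : S.LT Δ) : Δ.Nontrivial := Set.one_lt_ncard_iff_nontrivial.1 (by have := h.four; omega)

theorem pp (h : S.LT Δ) : ∃ p f : ℕ, p.Prime ∧ p ≠ 2 ∧ 0 < f ∧ Δ.ncard = p ^ f + 1 ∧
    ∀ x ∈ Δ, ∀ u ∈ S.UD Δ x, u ^ p = 1 := by
  obtain ⟨F, _, _, E, π, c, e⟩ := h.lc0
  obtain ⟨p, hp, n, hp', hn⟩ := FiniteField.card' F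
  refine ⟨p, n, hp', ?_, n.pos, hn ▸ e, fun x hx u hu => ?_⟩
  · rintro rfl
    exact c.two (CharP.cast_eq_zero F 2)
  · obtain ⟨F', _, _, E', π', c', rfl, e'⟩ := h.lc1 hx
    obtain ⟨a, rfl⟩ := c'.ud u hu
    have h0 := FiniteField.cast_card_eq_zero F'
    rw [show Fintype.card F' = p ^ (n : ℕ) by omega, Nat.cast_pow] at h0
    rw [← map_pow, up_pow, pow_eq_zero_iff n.ne_zero |>.1 h0, zero_mul, up_zero, map_one]

theorem comm (h : S.LT Δ) (hx : x ∈ Δ) : ∀ u ∈ S.UD Δ x, ∀ v ∈ S.UD Δ x, Commute u v := by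
  obtain ⟨F, _, _, E, π, c, rfl, -⟩ := h.lc1 hx
  intro u hu v hv
  obtain ⟨a, rfl⟩ := c.ud u hu
  obtain ⟨b, rfl⟩ := c.ud v hv
  rw [Commute, SemiconjBy, ← map_mul, ← map_mul, ← up_add, add_comm, up_add]

theorem three (h : S.LT Δ) {g : G} (hg : g ∈ S.L Δ) (h3 : 2 < (Δ ∩ fixedBy Ω g).ncard) :
    g ∈ W G Δ := by
  obtain ⟨F, _, _, E, π, c, -⟩ := h.lc0
  obtain ⟨M, rfl⟩ := exists_eq c hg
  obtain ⟨a, ⟨ha, fa⟩, b, ⟨hb, fb⟩, d, ⟨hd, fd⟩, n1, n2, n3⟩ := (Set.two_lt_ncard (Set.toFinite _)).1 h3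
  rw [← c.range] at ha hb hd
  obtain ⟨p, rfl⟩ := ha
  obtain ⟨q, rfl⟩ := hb
  obtain ⟨r, rfl⟩ := hd
  rw [mem_fixedBy, c.act, c.inj.eq_iff] at fa fb fd
  have e := eq_one_of_fix_three (fun e => n1 (congrArg E e)) (fun e => n2 (congrArg E e))
    (fun e => n3 (congrArg E e)) fa fb fd
  refine mem_W.2 fun d hd => ?_
  rw [← c.range] at hd
  obtain ⟨p, rfl⟩ := hd
  rw [c.act, e, one_smul]

theorem cen (h : S.LT Δ) : S.L Δ ⊓ W G Δ = ⊥ ∨ ∃ z ∈ S.L Δ, z ∈ W G Δ ∧ orderOf z = 2 := by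
  obtain ⟨F, _, _, E, π, c, -⟩ := h.lc0
  by_cases e : π (-1) = 1
  · exact Or.inl ((bot_iff c).2 e)
  · exact Or.inr ⟨_, mem_L c _, c.mem_W.2 (Or.inr rfl),
      orderOf_eq_prime (by rw [← map_pow, neg_one_sq, map_one]) e⟩

theorem sl_cen (h : S.LT Δ) {z : G} (hz : z ∈ S.L Δ) (hw : z ∈ W G Δ) (h2 : orderOf z = 2) :
    (∀ w ∈ S.L Δ, w ∈ W G Δ → w = 1 ∨ w = z) ∧ (∀ l ∈ S.L Δ, l * l = 1 → l = 1 ∨ l = z) ∧
      ∀ g ∈ St G Δ, Commute g z := by
  obtain ⟨F, _, _, E, π, c, -⟩ := h.lc0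
  have z1 : z ≠ 1 := by rintro rfl; simp at h2
  have e := eq_neg c hz hw z1
  have k : ∀ w ∈ S.L Δ, w ∈ W G Δ → w = 1 ∨ w = z := fun w hw hw' =>
    or_iff_not_imp_left.2 fun w1 => (eq_neg c hw hw' w1).symm.trans e
  refine ⟨k, fun l hl ll => ?_, fun g hg => ?_⟩
  · obtain ⟨M, rfl⟩ := exists_eq c hl
    rcases sl_mul_self_eq_one c.two (injective c (e ▸ z1) (by rw [map_mul, ll, map_one])) with rfl | rfl
    · exact Or.inl (map_one π)
    · exact Or.inr e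
  · rcases k _ (conj_mem_L hg hz) (conj_mem_W hg hw) with k' | k'
    · exact absurd (by simpa using k') z1
    · exact mul_inv_eq_iff_eq_mul.1 k'

theorem irr (h : S.LT Δ) (hx : x ∈ Δ) (hy : y ∈ Δ) (hxy : y ≠ x) {Y : Subgroup G}
    (hY : Y ≤ S.UD Δ x) (h1 : Y ≠ ⊥)
    (hn : ∀ k ∈ S.L Δ, k • x = x → k • y = y → ∀ u ∈ Y, k * u * k⁻¹ ∈ Y) : Y = S.UD Δ x := by
  obtain ⟨F, _, _, E, π, c, rfl, rfl, -⟩ := h.exists_lc hx hy hxy
  have sq : ∀ t a : F, π (up a) ∈ Y → π (up (t * t * a)) ∈ Y := fun t a ha => by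
    by_cases ht : t = 0
    · rw [ht, zero_mul, zero_mul, up_zero, map_one]; exact one_mem _
    · rw [← dg_up t ht, map_mul, map_mul, map_inv]
      refine hn _ (mem_L c _) ?_ ?_ _ ha <;> rw [c.act, c.inj.eq_iff]
      · rw [pm_smul_inf_eq_inf (sl_det_ne_zero _)]; simp [dg]
      · rw [pm_smul_pt_eq_pt (sl_det_ne_zero _)]; simp [dg]
  obtain ⟨⟨u, hu⟩, u1⟩ := ne_bot_iff_exists_ne_one.1 h1
  obtain ⟨a, rfl⟩ := c.ud u (hY hu)
  have a0 : a ≠ 0 := by
    rintro rfl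
    exact u1 (Subtype.ext ((congrArg π up_zero).trans (map_one π)))
  refine le_antisymm hY fun v hv => ?_
  obtain ⟨b, rfl⟩ := c.ud v hv
  have e : b = (b / a + 1) / 2 * ((b / a + 1) / 2) * a + -((b / a - 1) / 2 * ((b / a - 1) / 2) * a) := by
    have := c.two
    field_simp
    ring
  rw [e, up_add, up_neg, map_mul, map_inv]
  exact mul_mem (sq _ _ hu) (inv_mem (sq _ _ hu))

theorem spec (h : S.LT Δ) (hx : x ∈ Δ) (hy : y ∈ Δ) (hxy : y ≠ x) {a : G} (ha : a ∈ S.UD Δ x)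
    (h1 : a ≠ 1) : S.Spec x y a ∧ S.mu x y a * S.mu x y a ∈ W G Δ ∧
      (S.mu x y a * S.mu x y a = 1 ↔ S.L Δ ⊓ W G Δ = ⊥) := by
  obtain ⟨F, _, _, E, π, c, rfl, rfl, -⟩ := h.exists_lc hx hy hxy
  obtain ⟨b, rfl⟩ := c.ud a ha
  have b0 : b ≠ 0 := by
    rintro rfl
    exact h1 ((congrArg π up_zero).trans (map_one π))
  obtain ⟨M, hM, e⟩ := c.mu_up b0
  have hMM : M * M = -1 := by
    ext i j; fin_cases i <;> fin_cases j <;> simp [hM, b0]
  refine ⟨spec_of hxy (c.up_mem b) h1 ?_, ?_, ?_⟩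
  · rw [e, ← map_inv, ← up_neg, c.act, c.act, c.act, up_smul, up_smul, c.inj.eq_iff,
      pm_smul_pt_eq_pt (sl_det_ne_zero _), hM]
    simp [b0]
  · rw [e, ← map_mul, hMM]; exact c.mem_W.2 (Or.inr rfl)
  · rw [e, ← map_mul, hMM, bot_iff c]

theorem iso_psl (h : S.LT Δ) (hb : S.L Δ ⊓ W G Δ = ⊥) :
    ∃ (F : Type) (_ : Field F) (_ : Fintype F), Δ.ncard = Fintype.card F + 1 ∧
      Nonempty (S.L Δ ≃* PSL(2, F)) := by
  obtain ⟨F, _, _, E, π, c, e⟩ := h.lc0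
  have hk : π.ker = center SL(2, F) := Subgroup.ext fun M => by
    rw [mem_center_iff_pm, MonoidHom.mem_ker]
    refine ⟨fun e => c.mem_W.1 (e ▸ one_mem _), ?_⟩
    rintro (rfl | rfl)
    · exact map_one π
    · exact (bot_iff c).1 hb
  exact ⟨F, _, _, e, ⟨((MulEquiv.subgroupCongr c.rng).symm.trans (QuotientGroup.quotientKerEquivRange π).symm).trans
    (QuotientGroup.quotientMulEquivOfEq hk)⟩⟩

theorem perfect (h : S.LT Δ) (h4 : 4 < Δ.ncard) : ⁅S.L Δ, S.L Δ⁆ = S.L Δ := by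
  obtain ⟨F, _, _, E, π, c, e⟩ := h.lc0
  rw [der_eq c, comm_top (by omega), ← MonoidHom.range_eq_map, c.rng]

theorem ds_of_four (h : S.LT Δ) (h4 : Δ.ncard = 4) (hb : S.L Δ ⊓ W G Δ = ⊥) : ∃ N, S.DS Δ N := by
  obtain ⟨F, _, _, E, π, c, e⟩ := h.lc0
  have h3 : Fintype.card F = 3 := by omega
  have e1 := (bot_iff c).1 hb
  have tr : ∀ a ∈ Δ, ∃ n ∈ ⁅S.L Δ, S.L Δ⁆, n • E inf = a := fun a ha => by
    rw [← c.range] at ha
    obtain ⟨p, rfl⟩ := ha
    rcases eq_inf_or_pt p with rfl | ⟨t, rfl⟩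
    · exact ⟨1, one_mem _, one_smul _ _⟩
    · refine ⟨π (up t * qi * (up t)⁻¹), ?_, by rw [c.act, conj_qi_smul]⟩
      rw [der_eq c]
      exact mem_map_of_mem _ (Normal.conj_mem inferInstance _ (qi_mem (three_eq h3)) _)
  refine ⟨⁅S.L Δ, S.L Δ⁆, h.cl, h4.ge, commutator_le_self _, fun g hg n hn => ?_, fun n hn => ?_,
    fun a ha b hb => ?_, fun n hn a ha f => ?_⟩
  · have hm : (S.L Δ).map (MulAut.conj g).toMonoidHom ≤ S.L Δ := by
      rintro _ ⟨l, hl, rfl⟩; exact conj_mem_L hg hl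
    have := mem_map_of_mem (MulAut.conj g).toMonoidHom hn
    rw [Subgroup.map_commutator] at this
    exact commutator_mono hm hm this
  · rw [der_eq c] at hn
    obtain ⟨A, hA, rfl⟩ := hn
    rcases (q8 h3).2 A hA with k | k <;> rw [← map_mul, k]
    · exact map_one π
    · exact e1
  · obtain ⟨n, hn, rfl⟩ := tr a ha
    obtain ⟨m, hm, rfl⟩ := tr b hb
    exact ⟨m * n⁻¹, mul_mem hm (inv_mem hn), by rw [mul_smul, inv_smul_smul]⟩
  · rw [der_eq c] at hn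
    obtain ⟨A, hA, rfl⟩ := hn
    rw [← c.range] at ha
    obtain ⟨p, rfl⟩ := ha
    rw [c.act, c.inj.eq_iff] at f
    rcases (q8 h3).2 A hA with k | k
    · rcases sl_mul_self_eq_one c.two k with rfl | rfl
      · exact map_one π
      · exact e1
    · obtain ⟨l, hl⟩ := root_of_fix k f
      exact absurd hl (no_root h3 l)

/-- The derived subgroup of `L ≅ SL₂(q)`. -/
theorem sl_der (h : S.LT Δ) {z : G} (hz : z ∈ S.L Δ) (hw : z ∈ W G Δ) (h2 : orderOf z = 2)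
    {q : ℕ} (hq : Δ.ncard = q + 1) :
    (∃ i ∈ ⁅S.L Δ, S.L Δ⁆, ∃ j ∈ ⁅S.L Δ, S.L Δ⁆, i * i = z ∧ j * j = z ∧ j * i * j⁻¹ = i⁻¹) ∧
      ((q = 3 ∧ Nat.card ↥⁅S.L Δ, S.L Δ⁆ = 8) ∨
        (3 < q ∧ ⁅S.L Δ, S.L Δ⁆ = S.L Δ ∧ Nat.card (S.L Δ) = q * (q ^ 2 - 1))) := by
  obtain ⟨F, _, _, E, π, c, e⟩ := h.lc0
  obtain rfl : q = Fintype.card F := by omega
  have z1 : z ≠ 1 := by rintro rfl; simp at h2
  have e1 := eq_neg c hz hw z1
  have hi := injective c (e1 ▸ z1)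
  refine ⟨?_, ?_⟩
  · obtain ⟨i, hi, j, hj, a1, a2, a3⟩ := exists_quat c.two
    rw [der_eq c]
    exact ⟨_, mem_map_of_mem π hi, _, mem_map_of_mem π hj, by rw [← map_mul, a1, e1], by rw [← map_mul, a2, e1],
      by rw [← map_inv, ← map_mul, ← map_mul, a3, map_inv]⟩
  · rcases (three_le c.two).eq_or_lt with k | k
    · exact Or.inl ⟨k.symm, by rw [der_eq c, card_map_of_injective hi, (q8 k.symm).1]⟩
    · refine Or.inr ⟨k, h.perfect (by omega), ?_⟩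
      rw [← c.rng, MonoidHom.range_eq_map, card_map_of_injective hi, card_top, Cl.card_sl_two,
        Nat.card_eq_fintype_card]

end Sp.LT

end Cfsg.Agent.HKS
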