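import Mathlib
import Cfsg.Agent.HKS.Basic

/-! Piece Tr: restriction to a closed subset or to a subgroup -/

set_option autoImplicit false
set_option linter.unusedSectionVars false
set_option linter.unusedVariables false

namespace Cfsg.Agent.HKS

open Subgroup MulAction Cfsg.Agent.TT Cfsg.Agent.Perm.TT Cfsg.Agent.Cl.L2
open Cfsg.Agent.KS (St)
open scoped MatrixGroups Pointwise commutatorElement

variable {G Ω : Type*} [Group G] [MulAction G Ω] [Finite G] [Finite Ω] {S : Sp G Ω}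
  {Δ Δ' : Set Ω} {x y : Ω}

universe v

namespace Sp

theorem Cl.exists_im {G : Type*} {Ω : Type v} [Group G] [MulAction G Ω] {S : Sp G Ω} {Δ : Set Ω}
    (h : S.Cl Δ) : ∃ (B Δ' : Type v) (_ : Group B) (_ : MulAction B Δ') (S' : Sp B Δ')
      (π : St G Δ →* B) (ι : Δ' → Ω), S.Im Δ S' π ι := by
  obtain ⟨B, Γ, _, _, π, ι, hC⟩ := exists_con (St G Δ) Δ fun g hg c hc => (hg c).2 hc
  refine ⟨B, Γ, _, _, ⟨fun c => ((S.U (ι c)).subgroupOf _).map π, ?_, ?_, fun a b c hb hc => ?_, ?_,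
    fun c => ?_⟩, π, ι, h, hC, fun _ => rfl⟩
  · rintro c _ ⟨u, hu, rfl⟩
    exact hC.smul_iff.2 (S.fix _ _ hu)
  · rintro b c _ ⟨u, hu, rfl⟩
    obtain ⟨g, rfl⟩ := hC.surj b
    exact ⟨g * u * g⁻¹, by rw [hC.smul]; exact S.conj g _ _ hu, by simp only [map_mul, map_inv]⟩
  · obtain ⟨u, hu, e⟩ := S.tr _ _ _ (hC.inj.ne hb) (hC.inj.ne hc)
    exact ⟨π ⟨u, h _ (hC.mem a) _ (hC.mem b) (hC.inj.ne hb) u hu (e ▸ hC.mem c)⟩, ⟨_, hu, rfl⟩,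
      hC.smul_iff.2 e⟩
  · rintro a b hb _ ⟨u, hu, rfl⟩ e
    rw [show u = 1 from Subtype.ext (S.free _ _ (hC.inj.ne hb) _ hu (hC.smul_iff.1 e)), map_one]
  · have := S.nil (ι c)
    have : Group.IsNilpotent ((S.U (ι c)).subgroupOf (St G Δ)) := Subgroup.isNilpotent_of_ker_le_center
      (((St G Δ).subtype.comp ((S.U (ι c)).subgroupOf (St G Δ)).subtype).codRestrict (S.U (ι c))
        fun g => g.2)
      fun g hg => by
        rw [show g = 1 from Subtype.ext (Subtype.ext (congrArg Subtype.val (MonoidHom.mem_ker.1 hg) :))]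
        exact one_mem _
    exact Group.nilpotent_of_surjective _ (π.subgroupMap_surjective _)

theorem exists_res {K : Subgroup G} (hK : ∀ x, S.U x ≤ K) : ∃ S' : Sp K Ω, S.Res K S' :=
  ⟨⟨fun x => (S.U x).subgroupOf K, fun x u hu => S.fix x u hu, fun g x u hu => S.conj g x u hu,
    fun x y z hy hz => let ⟨u, hu, e⟩ := S.tr x y z hy hz; ⟨⟨u, hK x hu⟩, hu, e⟩,
    fun x y hy u hu e => Subtype.ext (S.free x y hy u hu e), fun x =>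
      haveI := S.nil x
      Group.nilpotent_of_mulEquiv (subgroupOfEquivOfLe (hK x)).symm⟩, hK, fun _ => rfl⟩

section Im

variable {B Γ : Type*} [Group B] [MulAction B Γ] {S' : Sp B Γ} {π : St G Δ →* B} {ι : Γ → Ω}

theorem Im.two (h : S.Im Δ S' π ι) (h3 : 2 < Δ.ncard) : Two B Γ :=
  ⟨h.con.faith, fun {a b c d} h1 h2 =>
    let ⟨l, hl, e1, e2⟩ := h.cl.two_trans h3 (h.con.mem a) (h.con.mem b) (h.con.mem c) (h.con.mem d)
      (h.con.inj.ne h1) (h.con.inj.ne h2)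
    ⟨π ⟨l, L_le_St hl⟩, h.con.smul_iff.2 e1, h.con.smul_iff.2 e2⟩⟩

theorem Im.eq_one (h : S.Im Δ S' π ι) {g : St G Δ} : π g = 1 ↔ (g : G) ∈ W G Δ :=
  h.con.eq_one_iff.trans mem_W.symm

theorem Im.mem_U (h : S.Im Δ S' π ι) {c : Γ} {b : B} :
    b ∈ S'.U c ↔ ∃ g : St G Δ, (g : G) ∈ S.UD Δ (ι c) ∧ π g = b := by
  rw [h.U]
  exact exists_congr fun g => and_congr_left' ⟨fun k => ⟨k, g.2⟩, fun k => k.1⟩

theorem Im.image_fix (h : S.Im Δ S' π ι) (g : St G Δ) :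
    ι '' fixedBy Γ (π g) = Δ ∩ fixedBy Ω (g : G) := by
  ext c
  refine ⟨?_, fun ⟨h1, h2⟩ => ?_⟩
  · rintro ⟨c, hc, rfl⟩
    exact ⟨h.con.mem c, h.con.smul_iff.1 hc⟩
  · obtain ⟨c, rfl⟩ := h.con.exists_eq h1
    exact ⟨c, h.con.smul_iff.2 h2, rfl⟩

theorem Im.mem_St (h : S.Im Δ S' π ι) {Γ₁ : Set Γ} {g : St G Δ} :
    π g ∈ St B Γ₁ ↔ (g : G) ∈ St G (ι '' Γ₁) := by
  refine ⟨fun k c => ⟨?_, ?_⟩, fun k c => ?_⟩
  · rintro ⟨d, hd, e⟩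
    refine ⟨π g⁻¹ • d, (k _).1 (by rwa [map_inv, smul_inv_smul]), ?_⟩
    rw [h.con.smul, e]
    exact inv_smul_smul _ _
  · rintro ⟨d, hd, rfl⟩
    exact ⟨_, (k d).2 hd, h.con.smul g d⟩
  · rw [← h.con.inj.mem_set_image, h.con.smul, k, h.con.inj.mem_set_image]

theorem Im.mem_L_of (h : S.Im Δ S' π ι) {Γ₁ : Set Γ}
    (h2 : ∀ c ∈ Γ₁, S.UD (ι '' Γ₁) (ι c) ≤ St G Δ) {b : B} :
    b ∈ S'.L Γ₁ ↔ ∃ g : St G Δ, (g : G) ∈ S.L (ι '' Γ₁) ∧ π g = b := by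
  refine ⟨fun k => (show S'.L Γ₁ ≤ ((S.L (ι '' Γ₁)).subgroupOf _).map π from
    iSup₂_le fun c hc b hb => ?_) k, ?_⟩
  · obtain ⟨g, hg, rfl⟩ := h.mem_U.1 hb.1
    exact ⟨g, UD_le_L (Set.mem_image_of_mem ι hc) ⟨hg.1, h.mem_St.1 hb.2⟩, rfl⟩
  · rintro ⟨g, hg, rfl⟩
    obtain ⟨k, hk, e⟩ := (show S.L (ι '' Γ₁) ≤ ((S'.L Γ₁).comap π).map (St G Δ).subtype from
      L_le (by
        rintro _ ⟨c, hc, rfl⟩ u hu
        exact ⟨⟨u, h2 c hc hu⟩, le_iSup₂ (f := fun c (_ : c ∈ Γ₁) => S'.UD Γ₁ c) c hc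
          ⟨h.mem_U.2 ⟨_, ⟨hu.1, h2 c hc hu⟩, rfl⟩, h.mem_St.2 hu.2⟩, rfl⟩)) hg
    exact (Subtype.ext e : k = g) ▸ hk

theorem Im.mem_L_sub (h : S.Im Δ S' π ι) {Γ₁ : Set Γ} (h2 : Γ₁.Nontrivial) {b : B} :
    b ∈ S'.L Γ₁ ↔ ∃ g : St G Δ, (g : G) ∈ S.L (ι '' Γ₁) ∧ π g = b :=
  h.mem_L_of fun c _ u hu => by
    obtain ⟨d, hd, ne⟩ := h2.exists_ne c
    obtain ⟨e, -, k⟩ := (hu.2 _).2 (Set.mem_image_of_mem ι hd)
    exact h.cl _ (h.con.mem c) _ (h.con.mem d) (h.con.inj.ne ne) u hu.1 (k ▸ h.con.mem e)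

theorem Im.mem_L (h : S.Im Δ S' π ι) {b : B} :
    b ∈ S'.L Set.univ ↔ ∃ g : St G Δ, (g : G) ∈ S.L Δ ∧ π g = b := by
  have e : ι '' Set.univ = Δ := Set.image_univ.trans h.con.range
  simpa only [e] using h.mem_L_of (Γ₁ := Set.univ) (b := b) fun c _ u hu => by
    rw [e] at hu
    exact hu.2

theorem Im.tyL (h : S.Im Δ S' π ι) (ht : S'.TyL Set.univ) : S.TyL Δ := by
  obtain ⟨F, _, _, E, e1, e2, e3, e4⟩ := ht
  have k : ∀ {c : Γ} {f : P1 F → P1 F}, (∃ u ∈ S'.U c, ∀ p, u • E p = E (f p)) →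
      ∃ u ∈ S.U (ι c), ∀ p, u • ι (E p) = ι (E (f p)) := fun ⟨u, hu, e⟩ => by
    obtain ⟨g, hg, rfl⟩ := h.mem_U.1 hu
    exact ⟨g, hg.1, fun p => h.con.smul_iff.1 (e p)⟩
  exact ⟨F, inferInstance, inferInstance, ι ∘ E, h.con.inj.comp e1,
    by rw [Set.range_comp, e2, Set.image_univ, h.con.range], fun a => k (e3 a), fun a => k (e4 a)⟩

/-- `L Δ` is generated by elements of odd order. -/
theorem Cl.hom_two (h : S.Cl Δ) (he : Even (Nat.card Ω)) (h2 : Δ.Nontrivial) {A : Type*}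
    [CommGroup A] (f : S.L Δ →* A) {g : S.L Δ} (hg : El2 g) : f g = 1 := by
  obtain ⟨x, -, y, -, ne⟩ := h2
  have : Nontrivial Ω := ⟨x, y, ne⟩
  have h1 : S.L Δ ≤ ((powMonoidHom (Nat.card (S.U x))).comp f).ker.map (S.L Δ).subtype :=
    L_le fun z hz u hu => ⟨⟨u, UD_le_L hz hu⟩, by
      obtain ⟨w, hw⟩ := exists_ne z
      have e : Nat.card (S.U x) = Nat.card (S.U z) := by
        have := card_U (S := S) ne.symm; have := card_U (S := S) hw; omega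
      rw [SetLike.mem_coe, MonoidHom.mem_ker, MonoidHom.comp_apply, powMonoidHom_apply, ← map_pow, e,
        show (⟨u, UD_le_L hz hu⟩ : S.L Δ) ^ Nat.card (S.U z) = 1 from Subtype.ext (congrArg Subtype.val
          (pow_card_eq_one' (x := (⟨u, hu.1⟩ : S.U z))) :), map_one], rfl⟩
  obtain ⟨k, hk⟩ := hg
  obtain ⟨g', h3, e⟩ := h1 g.2
  obtain rfl : g' = g := Subtype.ext e
  exact orderOf_eq_one_iff.1 (Nat.eq_one_of_dvd_coprimes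
    (Nat.Coprime.pow_right k (Nat.coprime_two_right.2 (odd_U (S := S) he ne.symm)))
    (orderOf_dvd_of_pow_eq_one h3) (orderOf_dvd_of_pow_eq_one (by rw [← map_pow, hk, map_one])))

end Im

section Res

variable {K : Subgroup G} {S' : Sp K Ω}

theorem Res.mem_U (h : S.Res K S') {g : K} : g ∈ S'.U x ↔ (g : G) ∈ S.U x := by
  rw [h.U, mem_subgroupOf]

theorem Res.two (h : S.Res K S') (h2 : Two G Ω) (h3 : 3 ≤ Nat.card Ω) : Two K Ω :=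
  ⟨fun g e => Subtype.ext (h2.faith g e), fun {a b c d} h4 h5 =>
    let ⟨l, hl, e⟩ := (cl_univ (S := S)).two_trans (by rw [Set.ncard_univ]; omega) (Set.mem_univ a)
      (Set.mem_univ b) (Set.mem_univ c) (Set.mem_univ d) h4 h5
    ⟨⟨l, L_le (fun x _ _ hu => h.le x hu.1) hl⟩, e⟩⟩

theorem Res.mem_L (h : S.Res K S') {g : K} : g ∈ S'.L Δ ↔ (g : G) ∈ S.L Δ := by
  refine ⟨fun k => (show S'.L Δ ≤ (S.L Δ).subgroupOf K from
    L_le fun c hc u hu => UD_le_L (S := S) hc ⟨h.mem_U.1 hu.1, hu.2⟩) k, fun hg => ?_⟩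
  obtain ⟨k, hk, e⟩ := (show S.L Δ ≤ (S'.L Δ).map K.subtype from L_le fun c hc u hu =>
    ⟨⟨u, h.le c hu.1⟩, UD_le_L (S := S') hc ⟨h.mem_U.2 hu.1, hu.2⟩, rfl⟩) hg
  exact (Subtype.ext e : k = g) ▸ hk

theorem Res.cl (h : S.Res K S') : S'.Cl Δ ↔ S.Cl Δ :=
  ⟨fun k x hx y hy ne u hu e => k x hx y hy ne ⟨u, h.le x hu⟩ (h.mem_U.2 hu) e,
    fun k x hx y hy ne u hu e => k x hx y hy ne u (h.mem_U.1 hu) e⟩

theorem Res.tyL (h : S.Res K S') (ht : S'.TyL Δ) : S.TyL Δ :=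
  let ⟨F, _, _, E, e1, e2, e3, e4⟩ := ht
  ⟨F, inferInstance, inferInstance, E, e1, e2, fun a => let ⟨u, hu, e⟩ := e3 a; ⟨u, h.mem_U.1 hu, e⟩,
    fun a => let ⟨u, hu, e⟩ := e4 a; ⟨u, h.mem_U.1 hu, e⟩⟩

theorem L_univ_normal (S : Sp G Ω) : (S.L Set.univ).Normal :=
  ⟨fun _ hl _ => conj_mem_L (fun _ => Iff.rfl) hl⟩

end Res

end Sp

end Cfsg.Agent.HKS
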