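import Mathlib
import Cfsg.Agent.HKS.Basic
import Cfsg.Agent.Perm.Burnside
import Cfsg.Agent.GT.MinNormal
import Cfsg.Agent.GT.TransferCocycle
import Cfsg.Agent.Inv.FzBasic

/-! The inductive situation: general facts -/

set_option autoImplicit false

namespace Cfsg.Agent.HKS

open Subgroup MulAction Cfsg.Agent.TT Cfsg.Agent.Perm.TT Cfsg.Agent.Cl.L2
open Cfsg.Agent.KS (St)
open scoped MatrixGroups Pointwise commutatorElement

variable {G Ω : Type*} [Group G] [MulAction G Ω] [Finite G] [Finite Ω] {S : Sp G Ω}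
  {Δ Δ' : Set Ω} {x y : Ω}

namespace Sp.Ctx

omit [Finite G] in
theorem ctx_nontrivial (h : S.Ctx) : Nontrivial Ω :=
  Finite.one_lt_card_iff_nontrivial.1 (by have := h.four; omega)

omit [Finite G] in
theorem ctx_ne (h : S.Ctx) (x : Ω) : ∃ y, y ≠ x :=
  have := h.ctx_nontrivial
  exists_ne x

theorem ctx_le (h : S.Ctx) {K : Subgroup G} (hK : ∀ z, S.U z ≤ K) : K = ⊤ :=
  eq_top_iff.2 (h.gen.ge.trans (Sp.L_le fun z _ => inf_le_left.trans (hK z)))

theorem ctx_sup (h : S.Ctx) (M : Subgroup G) [hM : M.Normal] (h1 : M ≠ ⊥) (x : Ω) :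
    M ⊔ S.U x = ⊤ := h.ctx_le fun z u hu => by
  obtain ⟨m, hm, e⟩ := h.two.normal_trans h1 z x
  have := mul_mem (mul_mem (mem_sup_left (T := S.U x) (inv_mem hm))
    (mem_sup_right (e ▸ S.conj m z u hu))) (mem_sup_left hm)
  simpa [mul_assoc] using this

theorem odd_U (h : S.Ctx) (x : Ω) : Odd (Nat.card (S.U x)) :=
  Sp.odd_U h.even (h.ctx_ne x).choose_spec

theorem card_U (h : S.Ctx) (x : Ω) : Nat.card (S.U x) + 1 = Nat.card Ω :=
  Sp.card_U (h.ctx_ne x).choose_spec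

omit [Finite G] [Finite Ω] in
theorem ctx_stab (h : S.Ctx) (M : Subgroup G) [hM : M.Normal] (h1 : M ≠ ⊥) :
    ∃ a : Ω, ∃ m ∈ M, m • a = a ∧ m ≠ 1 := by
  by_contra! hc
  exact h.nreg ⟨M, hM, h.two.normal_trans h1, hc⟩

theorem exists_MM (h : S.Ctx) : ∃ M : Subgroup G, MM M := by
  have := h.two.faithful
  obtain ⟨x, y, hxy⟩ := h.ctx_nontrivial
  have : Nontrivial G := by
    obtain ⟨g, hg⟩ := h.two.trans x y
    exact ⟨g, 1, fun e => hxy (by rw [← hg, e, one_smul])⟩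
  obtain ⟨M, hM⟩ := GT.exists_isMinNormal G
  have hn := hM.normal
  obtain ⟨a, m, hm, hma, hm1⟩ := h.ctx_stab M hM.ne_bot
  have hc : centralizer (M : Set G) = ⊥ := by
    by_contra hc
    refine hm1 (h.two.faith m fun c => ?_)
    obtain ⟨n, hn, rfl⟩ := h.two.normal_trans hc a c
    rw [← mul_smul, mem_centralizer_iff.1 hn m hm, mul_smul, hma]
  have hs : ∃ a : Ω, stabilizer M a ≠ ⊥ := ⟨a, fun e => by
    have : (⟨m, hm⟩ : M) ∈ stabilizer M a := hma
    rw [e, mem_bot] at this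
    exact hm1 (congrArg Subtype.val this)⟩
  refine ⟨M, hn, (Perm.simple_primitive_of_minNormal h.two.multi M hM.ne_bot
    (fun K hK => hM.eq_bot_or_eq) hs).1,
    fun e => h.nreg (h.two.hasReg_of_comm M hM.ne_bot fun a ha b hb =>
      congrArg Subtype.val (e.is_comm.comm (⟨a, ha⟩ : M) ⟨b, hb⟩)),
    fun N hN h1 => (hM.le_or_le_centralizer N).resolve_right fun e =>
      h1 (le_bot_iff.1 (hc ▸ le_centralizer_iff.1 e)), hc, ?_⟩
  rw [← relIndex_top_right, ← h.ctx_sup M hM.ne_bot x, relIndex_sup_left]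
  exact (h.odd_U x).of_dvd_nat (relIndex_dvd_card _ _)

set_option linter.unusedSectionVars false in
theorem oddCore (h : S.Ctx) : Cfsg.oddCore G = ⊥ :=
  have := h.two.faithful
  have := h.two.isPreprimitive
  oddCore_eq_bot h.nreg

omit [Finite G] in
theorem ctx_ne_bot {M : Subgroup G} (hM : MM M) : M ≠ ⊥ :=
  (nontrivial_iff_ne_bot M).1 hM.simple.toNontrivial

set_option linter.unusedSectionVars false in
set_option linter.unusedVariables false in
theorem mem_MM (h : S.Ctx) {M : Subgroup G} (hM : MM M) {g : G} (hg : El2 g) : g ∈ M := by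
  have := hM.normal
  obtain ⟨k, hk⟩ := hg
  obtain ⟨m, hm⟩ := exists_pow_eq_self_of_coprime (x := g) (n := M.index)
    (Nat.Coprime.coprime_dvd_right (orderOf_dvd_of_pow_eq_one hk)
      (Nat.Coprime.pow_right k (Nat.coprime_two_right.2 hM.odd)))
  exact hm ▸ pow_mem (M.pow_index_mem g) m

theorem sup_U (h : S.Ctx) {M : Subgroup G} (hM : MM M) (x : Ω) : M ⊔ S.U x = ⊤ :=
  have := hM.normal
  h.ctx_sup M (ctx_ne_bot hM) x

theorem U_inf_ne (h : S.Ctx) {M : Subgroup G} (hM : MM M) (x : Ω) : S.U x ⊓ M ≠ ⊥ := by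
  intro h0
  have hn := hM.normal
  have := h.ctx_nontrivial
  have := hM.simple
  have ht := h.two.normal_trans (ctx_ne_bot hM)
  have : IsPretransitive M Ω := ⟨fun a b => by
    obtain ⟨m, hm, e⟩ := ht a b
    exact ⟨⟨m, hm⟩, e⟩⟩
  have h1 : ∀ a, ∀ u ∈ S.U a, u ∈ M → u = 1 := fun a u hu hm => by
    obtain ⟨g, rfl⟩ := h.two.trans a x
    simpa using mem_bot.1 (h0.le ⟨S.conj g a u hu, hn.conj_mem u hm g⟩)
  obtain ⟨R, hR, h2, h3⟩ := hasReg_of_frobenius (G := M) (Ω := Ω) fun m a b hab ha hb =>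
    Subtype.ext (h.two.faith _ (Sp.fix_all (S := S) hab.symm ha hb fun u hu => by
      have := h1 a _ (mul_mem hu (Sp.conj_fix ha (inv_mem hu))) (by
        simpa [mul_assoc] using mul_mem (hn.conj_mem _ m.2 u) (inv_mem m.2))
      exact commutatorElement_eq_one_iff_commute.1 (by
        simpa [commutatorElement_def, mul_assoc] using this)))
  rcases hR.eq_bot_or_eq_top with rfl | rfl
  · obtain ⟨y, hy⟩ := h.ctx_ne x
    obtain ⟨r, hr, e⟩ := h2 x y
    rw [mem_bot.1 hr, one_smul] at e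
    exact hy e.symm
  · obtain ⟨a, m, hm, hma, hm1⟩ := h.ctx_stab M (ctx_ne_bot hM)
    exact hm1 (congrArg Subtype.val (h3 a ⟨m, hm⟩ (mem_top _) hma))

theorem le_MM (h : S.Ctx) {M K : Subgroup G} (hM : MM M) (hK : ⁅K, K⁆ = K) : K ≤ M := by
  have hn := hM.normal
  obtain ⟨x, -⟩ := h.ctx_nontrivial
  have := S.nil x
  have : Group.IsNilpotent (G ⧸ M) := Group.nilpotent_of_surjective
    ((QuotientGroup.mk' M).comp (S.U x).subtype) fun q => by
      obtain ⟨g, rfl⟩ := QuotientGroup.mk'_surjective M q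
      obtain ⟨m, hm, u, hu, rfl⟩ := mem_sup_of_normal_left.1 (h.sup_U hM x ▸ mem_top g)
      exact ⟨⟨u, hu⟩, by simp [(QuotientGroup.eq_one_iff m).2 hm]⟩
  have h1 : K.map (QuotientGroup.mk' M) = ⊥ := by
    by_contra h1
    exact (Group.IsSolvable.commutator_lt_of_ne_bot h1).ne (by rw [← map_commutator, hK])
  rwa [Subgroup.map_eq_bot_iff, QuotientGroup.ker_mk'] at h1

/-- Homomorphisms to abelian groups kill 2-elements. -/
theorem hom_two (h : S.Ctx) {A : Type*} [CommGroup A] (f : G →* A) {g : G} (hg : El2 g) : f g = 1 := by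
  obtain ⟨x, -⟩ := h.ctx_nontrivial
  have h1 : ((powMonoidHom (Nat.card (S.U x))).comp f).ker = ⊤ := h.ctx_le fun z u hu => by
    have e : Nat.card (S.U x) = Nat.card (S.U z) := by
      have := h.card_U x; have := h.card_U z; omega
    rw [MonoidHom.mem_ker, MonoidHom.comp_apply, powMonoidHom_apply, ← map_pow, e,
      show u ^ Nat.card (S.U z) = 1 from congrArg Subtype.val (pow_card_eq_one' (x := (⟨u, hu⟩ : S.U z))),
      map_one]
  obtain ⟨k, hk⟩ := hg
  have h2 : f g ^ Nat.card (S.U x) = 1 := (h1 ▸ mem_top g :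
    g ∈ ((powMonoidHom (Nat.card (S.U x))).comp f).ker)
  exact orderOf_eq_one_iff.1 (Nat.eq_one_of_dvd_coprimes
    (Nat.Coprime.pow_right k (Nat.coprime_two_right.2 (h.odd_U x))) (orderOf_dvd_of_pow_eq_one h2)
    (orderOf_dvd_of_pow_eq_one (by rw [← map_pow, hk, map_one])))

omit [Finite G] in
theorem ctx_el2 {s : G} (hs : s * s = 1) : El2 s := ⟨1, by rw [pow_one, pow_two, hs]⟩

theorem par (h : S.Ctx) {t : G} (ht : orderOf t = 2) :
    Nat.card Ω % 4 = (fixedBy Ω t).ncard % 4 := by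
  classical
  have := Fintype.ofFinite Ω
  set π := toPermHom G Ω t with hπ
  have h2 : π ^ 2 = 1 := by rw [hπ, ← map_pow, pow_two, mul_self_two ht, map_one]
  have h3 : Equiv.Perm.sign π = 1 :=
    h.hom_two (Equiv.Perm.sign.comp (toPermHom G Ω)) (ctx_el2 (mul_self_two ht))
  rw [Equiv.Perm.sign_of_pow_two_eq_one h2] at h3
  have h4 : Even ((Fintype.card Ω - Fintype.card (Function.fixedPoints π)) / 2) := by
    by_contra h
    rw [(Nat.not_even_iff_odd.1 h).neg_one_pow] at h3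
    exact absurd h3 (by decide)
  have h5 := π.card_fixedPoints
  have h6 := π.sum_cycleType_le
  have h7 : π.cycleType.sum = π.cycleType.card * 2 := by
    conv_lhs => rw [Equiv.Perm.cycleType_of_pow_prime_eq_one h2]
    simp
  have h8 : (fixedBy Ω t).ncard = Fintype.card (Function.fixedPoints π) := by
    rw [← Nat.card_eq_fintype_card]
    rfl
  rw [h8, Nat.card_eq_fintype_card]
  obtain ⟨m, hm⟩ := h4
  omega

set_option linter.unusedSectionVars false in
theorem zstar (h : S.Ctx) {t : G} (ht : orderOf t = 2) :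
    ∃ t', IsConj t t' ∧ t' ≠ t ∧ Commute t' t := by
  have := h.two.faithful
  have := h.two.isPreprimitive
  by_contra! hc
  exact h.nreg (hasReg_of_isolated ⟨ht, fun g hg => by_contra fun e =>
    hc _ (isConj_iff.2 ⟨g, rfl⟩) e hg.symm⟩)

/-- Transfer of an involution all of whose conjugates in `T` have the same image. -/
theorem gt (h : S.Ctx) {T : Subgroup G} (hT : ¬ 2 ∣ T.index) {A : Type*} [CommGroup A]
    (f : T →* A) {s : G} (hs : s * s = 1) {a : A}
    (ha : ∀ s' : T, IsConj s (s' : G) → f s' = a) : a = 1 := by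
  classical
  have := Fintype.ofFinite (G ⧸ T)
  have hc := GT.Tr.isActCocycle_trCocycle f
  have h0 := h.hom_two (MonoidHom.transfer f) (ctx_el2 hs)
  have hss : ∀ q : G ⧸ T, s • s • q = q := fun q => by rw [← mul_smul, hs, one_smul]
  have h1 : ∏ q ∈ Finset.univ.filter (fun q : G ⧸ T => ¬ s • q = q), GT.Tr.trCocycle f s q = 1 :=
    Finset.prod_involution (fun q _ => s • q)
      (fun q _ => by rw [mul_comm, ← hc s s q, hs, hc.one])
      (fun q hq _ => (Finset.mem_filter.1 hq).2)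
      (fun q hq => Finset.mem_filter.2 ⟨Finset.mem_univ _, fun e =>
        (Finset.mem_filter.1 hq).2 (by rw [hss] at e; exact e.symm)⟩) fun q _ => hss q
  have h2 : ∀ q ∈ Finset.univ.filter (fun q : G ⧸ T => s • q = q), GT.Tr.trCocycle f s q = a := by
    intro q hq
    obtain ⟨g, rfl⟩ := QuotientGroup.mk_surjective q
    rw [GT.Tr.trCocycle_coset f (GT.Tr.smul_coset_eq_iff.1 (Finset.mem_filter.1 hq).2)]
    exact ha _ (isConj_iff.2 ⟨g⁻¹, by simp⟩)
  rw [GT.Tr.transfer_eq_prod_trCocycle, ← Finset.prod_filter_mul_prod_filter_not Finset.univ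
    (fun q : G ⧸ T => s • q = q), h1, mul_one, Finset.prod_congr rfl h2, Finset.prod_const] at h0
  have h3 := parity_fixedBy (Ω := G ⧸ T) hs
  have h4 : (fixedBy (G ⧸ T) s).ncard = (Finset.univ.filter (fun q : G ⧸ T => s • q = q)).card := by
    rw [← Set.ncard_coe_finset]
    congr 1
    ext q
    simp
  rw [h4, ← index] at h3
  obtain ⟨j, hj⟩ : Odd (Finset.univ.filter (fun q : G ⧸ T => s • q = q)).card :=
    Nat.odd_iff.2 (by omega)
  obtain ⟨q, hq⟩ := Finset.card_pos.1 (show 0 < (Finset.univ.filter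
    (fun q : G ⧸ T => s • q = q)).card by omega)
  have h5 : a ^ 2 = 1 := by
    rw [← h2 q hq, ← hc.pow_of_fixed (Finset.mem_filter.1 hq).2, pow_two, hs, hc.one]
  rwa [hj, pow_succ, pow_mul, h5, one_pow, one_mul] at h0

theorem thompson (h : S.Ctx) {T T₀ : Subgroup G} (hT : ¬ 2 ∣ T.index) (h0 : T₀.relIndex T = 2)
    {s : G} (hs : s * s = 1) : ∃ g : G, g * s * g⁻¹ ∈ T₀ := by
  refine (GT.Tr.thompson_transfer_index_two hT h0 (u := s) (by rw [pow_two, hs])).resolve_left ?_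
  rintro ⟨M, hM, h2, hsM⟩
  have : IsCyclic (G ⧸ M) := isCyclic_of_prime_card (p := 2) h2
  let _ : CommGroup (G ⧸ M) := IsCyclic.commGroup
  exact hsM ((QuotientGroup.eq_one_iff s).1 (h.hom_two (QuotientGroup.mk' M) (ctx_el2 hs)))

set_option linter.unusedSectionVars false in
theorem fix_ne (h : S.Ctx) {t : G} (ht : t ≠ 1) : fixedBy Ω t ≠ Set.univ := fun e =>
  ht (h.two.faith t fun c => (e ▸ Set.mem_univ c : c ∈ fixedBy Ω t))

theorem fix_lt (h : S.Ctx) {t : G} (ht : t ≠ 1) : (fixedBy Ω t).ncard < Nat.card Ω :=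
  Set.ncard_univ Ω ▸ Set.ncard_lt_ncard (Set.ssubset_univ_iff.2 (h.fix_ne ht))

set_option linter.unusedSectionVars false in
theorem even_fix (h : S.Ctx) {t : G} (ht : orderOf t = 2) : Even (fixedBy Ω t).ncard := by
  have h1 := parity_fixedBy (Ω := Ω) (mul_self_two ht)
  have h2 := Nat.even_iff.1 h.even
  exact Nat.even_iff.2 (by omega)

theorem two_le (h : S.Ctx) {t : G} (ht : orderOf t = 2) (hx : t • x = x) :
    ∃ y, y ≠ x ∧ t • y = y := by
  obtain ⟨c, hc, h1, -⟩ := exists_snd_fix (h.even_fix ht) (g := (1 : G)) (one_mem _)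
    (by rw [mul_one]; exact one_mem _) (x := x) hx (one_smul _ _)
  exact ⟨c, h1, hc⟩

theorem ty_fix (h : S.Ctx) {t : G} (ht : orderOf t = 2) (h2 : 2 < (fixedBy Ω t).ncard) :
    S.Ty (fixedBy Ω t) :=
  h.ty _ (Sp.cl_fix t) (h.fix_ne (ne_one_two ht)) (by
    obtain ⟨k, hk⟩ := h.even_fix ht
    omega)

theorem lt (h : S.Ctx) {t : G} (ht : S.TyL (fixedBy Ω t)) : S.LT (fixedBy Ω t) :=
  ⟨h.even, Sp.cl_fix t, ht⟩

theorem exists_V4 (h : S.Ctx) {t s : G} (ht : orderOf t = 2) (hs : orderOf s = 2)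
    (hc : Commute t s) (hne : t ≠ s) (tx : t • x = x) (sx : s • x = x) : ∃ y, V4 x y t s := by
  obtain ⟨c, h0, h1, h2⟩ := exists_snd_fix (h.even_fix ht) (mem_St_fix hc.symm)
    (by rw [mul_self_two hs]; exact one_mem _) (x := x) tx sx
  exact ⟨c, h1, ht, hs, hc, hne, tx, h0, sx, h2⟩

/-- If `s` fixes the axis of `t`, then `s` or `t * s` fixes more points. -/
theorem rank1 (h : S.Ctx) {t s : G} (hV : V4 x y t s) (h1 : fixedBy Ω t ⊆ fixedBy Ω s)
    (h2 : (fixedBy Ω s).ncard ≤ (fixedBy Ω t).ncard ∨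
      (fixedBy Ω (t * s)).ncard ≤ (fixedBy Ω t).ncard) : False := by
  have hw := S.wielandt h.even hV
  rw [Set.inter_eq_left.2 h1] at hw
  have h3 := h.fix_lt (ne_one_two hV.s2)
  have h4 := h.fix_lt (ne_one_two hV.mul.s2)
  have h5 : 1 < (fixedBy Ω t).ncard := (Set.one_lt_ncard).2 ⟨y, hV.ty, x, hV.tx, hV.ne⟩
  have h6 := Set.ncard_le_ncard h1
  have h7 : (fixedBy Ω t).ncard ≤ (fixedBy Ω (t * s)).ncard := Set.ncard_le_ncard fun c hc => by
    rw [mem_fixedBy, mul_smul, show s • c = c from h1 hc]; exact hc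
  obtain ⟨a, ha⟩ : ∃ a, (fixedBy Ω t).ncard = a + 2 := ⟨(fixedBy Ω t).ncard - 2, by omega⟩
  rcases h2 with h2 | h2
  · rw [le_antisymm h2 h6, ha, pow_two, mul_comm] at hw
    have := Nat.eq_of_mul_eq_mul_left (Nat.mul_pos (by omega) (by omega)) hw
    omega
  · rw [le_antisymm h2 h7, ha, pow_two, mul_right_comm, mul_comm] at hw
    have := Nat.eq_of_mul_eq_mul_left (Nat.mul_pos (by omega) (by omega)) hw
    omega

set_option linter.unusedSectionVars false in
/-- The covering lemma. -/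
theorem cover (h : S.Ctx) {D : Set G} (hD : ∀ g : G, ∀ d ∈ D, g * d * g⁻¹ ∈ D) {t : G}
    (ht : orderOf t = 2) (htD : t ∈ D) (hxy : y ≠ x)
    (ho : Odd {d ∈ D | d • x = x ∧ d • y = y}.ncard) (c : Ω) :
    ∃ d ∈ D, Commute d t ∧ d • c = c := by
  classical
  by_cases hc : t • c = c
  · exact ⟨t, htD, Commute.refl t, hc⟩
  obtain ⟨g, gx, gy⟩ := h.two.two hxy.symm (Ne.symm hc)
  set X := {d ∈ D | d • c = c ∧ d • t • c = t • c} with hX
  have h1 : X = MulAut.conj g '' {d ∈ D | d • x = x ∧ d • y = y} := by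
    ext d
    constructor
    · rintro ⟨h1, h2, h3⟩
      refine ⟨g⁻¹ * d * g⁻¹⁻¹, ⟨hD _ _ h1, ?_, ?_⟩, by simp [mul_assoc]⟩
      · rw [inv_inv, mul_smul, mul_smul, gx, h2, ← gx, inv_smul_smul]
      · rw [inv_inv, mul_smul, mul_smul, gy, h3, ← gy, inv_smul_smul]
    · rintro ⟨d, ⟨h1, h2, h3⟩, rfl⟩
      exact ⟨hD _ _ h1, gx ▸ conj_smul_iff.2 h2, gy ▸ conj_smul_iff.2 h3⟩
  rw [← Set.ncard_image_of_injective _ (MulAut.conj g).injective, ← h1] at ho
  have h2 : ∀ d ∈ X, t * d * t⁻¹ ∈ X := fun d hd => ⟨hD _ _ hd.1, by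
    have := (conj_smul_iff (g := t)).2 hd.2.2
    rwa [smul_smul_two ht] at this, conj_smul_iff.2 hd.2.1⟩
  have := Fintype.ofFinite X
  have hi : Function.Involutive fun d : X => (⟨_, h2 d d.2⟩ : X) := fun d => Subtype.ext (by
    calc t * (t * d * t⁻¹) * t⁻¹ = (t * t) * d * (t * t)⁻¹ := by group
      _ = d := by rw [mul_self_two ht]; group)
  obtain ⟨d, hd⟩ := Equiv.Perm.exists_fixed_point_of_prime (p := 2) (n := 1) (σ := hi.toPerm)
    (by rw [← Nat.card_eq_fintype_card]; exact ho.not_two_dvd_nat)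
    (Equiv.ext fun d => hi d)
  exact ⟨d, d.2.1, (mul_inv_eq_iff_eq_mul.1 (congrArg Subtype.val hd)).symm, d.2.2.1⟩

/-- If an involution with fixed points has two fixed points or a perfect `L`, the group is simple. -/
theorem um (h : S.Ctx) {M : Subgroup G} (hM : MM M) {t : G} (ht : orderOf t = 2)
    (hx : t • x = x) (hp : (fixedBy Ω t).ncard = 2 ∨
      ⁅S.L (fixedBy Ω t), S.L (fixedBy Ω t)⁆ = S.L (fixedBy Ω t)) : M = ⊤ := by
  have hn := hM.normal
  have htM := h.mem_MM hM (ctx_el2 (mul_self_two ht))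
  obtain ⟨y, hy, ty⟩ := h.two_le ht hx
  have h1 : S.UD (fixedBy Ω t) x ≤ M := by
    rcases hp with hp | hp
    · have := (Sp.cl_fix (S := S) t).card_UD (x := x) hx ⟨y, ty, x, hx, hy⟩
      have h2 : Nat.card (S.UD (fixedBy Ω t) x) = 1 := by omega
      exact (Subgroup.card_eq_one.1 h2).le.trans bot_le
    · exact (Sp.UD_le_L (Δ := fixedBy Ω t) hx).trans (h.le_MM hM hp)
  rw [← h.sup_U hM x]
  refine (sup_eq_left.2 fun u hu => ?_).symm
  obtain ⟨c, hc, w, -, rfl, h2, -, h3⟩ := odd_dec (h.odd_U x) (mul_self_two ht)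
    (fun u hu => Sp.conj_fix hx hu) hu
  refine mul_mem (h1 ((Sp.mem_UD_fix hy hx ty).2 ⟨hc, h2⟩)) (zpowers_le.2 ?_ h3)
  simpa [mul_assoc] using mul_mem (hn.conj_mem t htM (c * w)⁻¹) (inv_mem htM)

/-- If `p` divides the order of `U x ⊓ M`, then `M` has a Sylow `p`-subgroup whose normalizer
fixes `x`, and whose only fixed point is `x`. -/
theorem syl_fix (h : S.Ctx) {M : Subgroup G} (hM : MM M) {p : ℕ} [Fact p.Prime]
    (hp : p ∣ Nat.card ↥(S.U x ⊓ M)) : ∃ (P : Sylow p M) (X : Subgroup M), X ≠ ⊥ ∧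
      X ≤ (P : Subgroup M) ∧ (∀ u ∈ X, (u : G) ∈ S.U x) ∧
      (∀ g : M, (g : G) • x = x → g ∈ normalizer (X : Set M)) ∧
      ∀ g ∈ normalizer ((P : Subgroup M) : Set M), (g : G) • x = x := by
  have hn := hM.normal
  set V := (S.U x).subgroupOf M with hV
  have e : V ≃* (S.U x ⊓ M).subgroupOf (S.U x) :=
    (MulEquiv.subgroupCongr (inf_subgroupOf_right _ _).symm).trans
      ((subgroupOfEquivOfLe inf_le_right).trans (subgroupOfEquivOfLe inf_le_left).symm)
  have := S.nil x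
  have : Group.IsNilpotent V := Group.nilpotent_of_mulEquiv e.symm
  have hpV : p ∣ Nat.card V := by
    rwa [Nat.card_congr (e.trans (subgroupOfEquivOfLe inf_le_left)).toEquiv]
  obtain ⟨Y⟩ : Nonempty (Sylow p V) := inferInstance
  have hX := Inv.Fz.isSylIn_map_subtype Y
  have hXn : V ≤ normalizer (((Y : Subgroup V).map V.subtype : Subgroup M) : Set M) := by
    intro v hv
    refine Inv.Fz.mem_normalizer_of_conj_mem ?_
    rintro _ ⟨y, hy, rfl⟩
    exact ⟨_, Normal.conj_mem inferInstance y hy ⟨v, hv⟩, rfl⟩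
  generalize (Y : Subgroup V).map V.subtype = X at hX hXn
  have hX1 : X ≠ ⊥ := fun e => hX.not_dvd_relIndex (by rwa [e, relIndex_bot_left])
  have hB : ∀ g : M, (g : G) • x = x → g ∈ normalizer (X : Set M) := fun g hg => by
    obtain ⟨k, hk, h1⟩ := hX.frattini (g := g)
      (Inv.Fz.mem_normalizer_of_conj_mem fun u hu => Sp.conj_fix hg hu)
    simpa using mul_mem (inv_mem (hXn hk)) h1
  have ht := h.two.normal_trans (ctx_ne_bot hM)
  have : IsPretransitive M Ω := ⟨fun a b => by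
    obtain ⟨m, hm, e⟩ := ht a b
    exact ⟨⟨m, hm⟩, e⟩⟩
  obtain ⟨P, hP, hXP⟩ := Inv.Fz.exists_isSylIn hX.isPGroup (H := stabilizer M x)
    fun u hu => S.fix x _ (hX.le hu)
  have hP' : Inv.Fz.IsSylIn p P ⊤ := Inv.Fz.isSylIn_of_not_dvd le_top hP.isPGroup (by
    rw [relIndex_top_right, ← relIndex_mul_index hP.le, index_stabilizer_of_transitive,
      ← h.card_U x, (Fact.out : p.Prime).dvd_mul, not_or]
    exact ⟨hP.not_dvd_relIndex, fun h1 => (Fact.out : p.Prime).one_lt.ne' (Nat.dvd_one.1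
      ((Nat.dvd_add_right (hp.trans (card_dvd_of_le inf_le_left))).1 h1))⟩)
  refine ⟨hP'.toSylowTop, X, hX1, hXP, fun u hu => hX.le hu, hB, fun g hg => ?_⟩
  obtain ⟨u, hu, hu1⟩ := (bot_or_exists_ne_one X).resolve_left hX1
  by_contra hgx
  refine hu1 (Subtype.ext (S.free x _ hgx u (hX.le hu) ?_))
  have h1 : ((g⁻¹ * u * g⁻¹⁻¹ : M) : G) • x = x :=
    hP.le ((mem_normalizer_iff.1 (inv_mem hg) u).1 (hXP hu))
  simpa [mul_smul, inv_smul_eq_iff] using h1

end Sp.Ctx

end Cfsg.Agent.HKS
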