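import Mathlib
import Cfsg.Agent.HKS.LC
import Cfsg.Agent.Cl.UField

/-! Piece LFB: the linear type, involutions fixing or interchanging two points -/

set_option autoImplicit false

namespace Cfsg.Agent.HKS

open Subgroup MulAction Cfsg.Agent.TT Cfsg.Agent.Perm.TT Cfsg.Agent.Cl.L2
open Cfsg.Agent.KS (St)
open Cfsg.Agent.Cl (UInvol UField)
open scoped MatrixGroups Pointwise commutatorElement

namespace LFB

variable {F : Type*} [Field F] {σ : F ≃+* F}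

/-- An automorphism with trivial square is trivial or an involution. -/
theorem triv_or (h : ∀ s, σ (σ s) = s) : (∀ s, σ s = s) ∨ UInvol (σ : F →+* F) := by
  by_cases e : ∀ s, σ s = s
  exacts [.inl e, .inr ⟨h, not_forall.1 e⟩]

theorem odd_q {τ : F →+* F} {q : ℕ} (h2 : (2 : F) ≠ 0) (h : UField τ q) : Odd q := by
  obtain ⟨p, k, hp, hc, -, rfl⟩ := h.exists_prime_pow
  refine (hp.odd_of_ne_two ?_).pow
  rintro rfl
  exact h2 (CharP.cast_eq_zero F 2)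

/-- A twisted fixed element is a square. -/
theorem isSquare_tw [Finite F] (h2 : (2 : F) ≠ 0) (h : UInvol (σ : F →+* F)) {k m : F}
    (hk : k * σ k = 1) (hm : k ^ 2 * σ m = m) : IsSquare m := by
  obtain ⟨a, a0, rfl⟩ := h.hilbert90 hk
  obtain ⟨q, hq⟩ := h.exists_uField
  have a1 : σ a ≠ 0 := (map_ne_zero σ).2 a0
  obtain ⟨b, hb⟩ := hq.exists_norm_eq (a := m / a ^ 2) (by
    simp only [RingHom.coe_coe, map_div₀, map_pow] at hm ⊢
    nth_rw 2 [← hm]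
    field_simp)
  obtain ⟨c, hc⟩ := (odd_q h2 hq).add_one
  rw [hq.norm_eq_pow, hc, pow_add, eq_div_iff (pow_ne_zero _ a0)] at hb
  exact ⟨b ^ c * a, by rw [← hb]; ring⟩

/-- The number of twisted fixed points. -/
theorem card_tw [Finite F] (h2 : (2 : F) ≠ 0) (h : UInvol (σ : F →+* F)) {k : F} (hk : k * σ k = 1) :
    ∃ r, 3 ≤ r ∧ Nat.card F = r ^ 2 ∧ {s | k * σ s = s}.ncard = r := by
  obtain ⟨a, a0, rfl⟩ := h.hilbert90 hk
  obtain ⟨q, hq⟩ := h.exists_uField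
  have a1 : σ a ≠ 0 := (map_ne_zero σ).2 a0
  refine ⟨q, ?_, hq.card, ?_⟩
  · obtain ⟨c, hc⟩ := odd_q h2 hq
    have := hq.two_le
    omega
  rw [← hq.card_fixed, ← Nat.card_coe_set_eq]
  refine Nat.card_congr ((Equiv.mulRight₀ a a0).subtypeEquiv fun s => ?_).symm
  simp only [RingHom.coe_coe, Equiv.mulRight₀_apply, Set.mem_ofPred_eq, map_mul]
  rw [show a * (σ a)⁻¹ * (σ s * σ a) = σ s * a by field_simp, mul_left_inj' a0]

end LFB

open LFB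

variable {G Ω : Type*} [Group G] [MulAction G Ω] [Finite G] [Finite Ω] {S : Sp G Ω}
  {Δ Δ' : Set Ω} {x y : Ω}

/-- Commuting modulo the kernel. -/
theorem b_comm_W_iff {g k : G} (hg : g ∈ St G Δ) (hk : k ∈ St G Δ) :
    g * k * g⁻¹ * k⁻¹ ∈ W G Δ ↔ ∀ c ∈ Δ, g • k • c = k • g • c := by
  rw [mem_W]
  refine ⟨fun h c hc => ?_, fun h c hc => ?_⟩
  · simpa [mul_smul] using h _ (KS.St.smul_mem hk (KS.St.smul_mem hg hc))
  · simpa [mul_smul] using h _ (KS.St.smul_mem (inv_mem hg) (KS.St.smul_mem (inv_mem hk) hc))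

namespace Sp

section Coord

variable {F : Type} [Field F] {E : P1 F → Ω} {π : SL(2, F) →* G}

omit [Finite G] [Finite Ω] in
theorem LC.b_E_mem (h : S.LC Δ E π) (p : P1 F) : E p ∈ Δ := h.range ▸ ⟨p, rfl⟩

omit [Finite G] [Finite Ω] in
theorem LC.b_pt_inj (h : S.LC Δ E π) {a b : F} : E (pt a) = E (pt b) ↔ a = b :=
  h.inj.eq_iff.trans ⟨fun e => pt_injective e, fun e => e ▸ rfl⟩

omit [Finite G] [Finite Ω] in
theorem LC.b_forall_iff (h : S.LC Δ E π) {P : Ω → Prop} :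
    (∀ c ∈ Δ, P c) ↔ P (E inf) ∧ ∀ s, P (E (pt s)) := by
  refine ⟨fun e => ⟨e _ (h.b_E_mem _), fun s => e _ (h.b_E_mem _)⟩, fun e c hc => ?_⟩
  obtain ⟨p, rfl⟩ : c ∈ Set.range E := h.range ▸ hc
  rcases eq_inf_or_pt p with rfl | ⟨s, rfl⟩
  exacts [e.1, e.2 s]

omit [Finite G] [Finite Ω] in
theorem LC.b_up_pt (h : S.LC Δ E π) (a s : F) : π (up a) • E (pt s) = E (pt (s + a)) := by
  rw [h.act, (pm_smul_pt_eq_pt (by simp)).2]
  simp [up]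

theorem LC.b_pi_mem (h : S.LC Δ E π) (M : SL(2, F)) : π M ∈ St G Δ :=
  L_le_St (S := S) (h.rng ▸ ⟨M, rfl⟩)

theorem LC.b_up_UD (h : S.LC Δ E π) (a : F) : π (up a) ∈ S.UD Δ (E inf) :=
  mem_UD.2 ⟨h.up_mem a, h.b_pi_mem _⟩

omit [Finite G] [Finite Ω] in
theorem LC.b_up_inv (π : SL(2, F) →* G) (a : F) : (π (up a))⁻¹ = π (up (-a)) := by
  rw [inv_eq_iff_mul_eq_one, ← map_mul, ← map_one π]
  congr 1
  ext i j
  rw [Matrix.SpecialLinearGroup.coe_mul]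
  fin_cases i <;> fin_cases j <;> simp [up, Matrix.mul_apply, Fin.sum_univ_two]

omit [Finite G] [Finite Ω] in
theorem LC.b_up_ne (h : S.LC Δ E π) {a : F} : π (up a) ≠ 1 ↔ a ≠ 0 := by
  refine not_congr ⟨fun e => ?_, fun e => ?_⟩
  · have := h.b_up_pt a 0
    rwa [e, one_smul, h.b_pt_inj, zero_add, eq_comm] at this
  · rw [e, ← map_one π]
    congr 1
    ext i j
    fin_cases i <;> fin_cases j <;> simp [up]

omit [Finite G] in
theorem LC.b_ncard_fix (h : S.LC Δ E π) {g : G} (h1 : g • E inf = E inf) {f : F → F}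
    (h2 : ∀ s, g • E (pt s) = E (pt (f s))) :
    (Δ ∩ fixedBy Ω g).ncard = {s | f s = s}.ncard + 1 := by
  have e : Δ ∩ fixedBy Ω g = insert (E inf) ((fun s => E (pt s)) '' {s | f s = s}) := by
    refine subset_antisymm (fun c hc => ?_) ?_
    · refine h.b_forall_iff (P := fun c => g • c = c → c ∈ insert (E inf) ((fun s => E (pt s)) '' {s | f s = s})) |>.2
        ⟨fun _ => .inl rfl, fun s e => .inr ⟨s, ?_, rfl⟩⟩ c hc.1 hc.2
      rwa [h2, h.b_pt_inj] at e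
    · rintro _ (rfl | ⟨s, hs, rfl⟩)
      exacts [⟨h.b_E_mem _, h1⟩, ⟨h.b_E_mem _, (h2 s).trans (h.b_pt_inj.2 hs)⟩]
  rw [e, Set.ncard_insert_of_notMem, Set.ncard_image_of_injective _ fun a b e => h.b_pt_inj.1 e]
  rintro ⟨s, -, e⟩
  exact pt_ne_inf s (h.inj e)

/-- Involutions fixing `∞` and `0`. -/
theorem LC.b_inv0 (h : S.LC Δ E π) {g : G} (hg : g ∈ St G Δ) (h1 : g • E inf = E inf)
    (h2 : g • E (pt 0) = E (pt 0)) (g2 : g * g ∈ W G Δ) :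
    g ∈ W G Δ ∨ ((Δ ∩ fixedBy Ω g).ncard = 2 ∧ Inv g (S.UD Δ (E inf))) ∨
      ∃ (l : F) (σ : F ≃+* F), l * σ l = 1 ∧ UInvol (σ : F →+* F) ∧ ∀ s, g • E (pt s) = E (pt (l * σ s)) := by
  obtain ⟨l, σ, l0, e, e'⟩ := h.semi0 hg h1 h2
  have k : ∀ s, l * σ l * σ (σ s) = s := fun s => by
    have := HKS.mem_W.1 g2 _ (h.b_E_mem (pt s))
    rwa [mul_smul, e, e, h.b_pt_inj, map_mul, ← mul_assoc] at this
  have k1 : l * σ l = 1 := by simpa using k 1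
  rcases triv_or (σ := σ) fun s => by simpa [k1] using k s with t | t
  · simp only [t] at e e' k1
    rcases mul_self_eq_one_iff.1 k1 with rfl | rfl
    · exact .inl (HKS.mem_W.2 (h.b_forall_iff.2 ⟨h1, fun s => by rw [e, one_mul]⟩))
    refine .inr (.inl ⟨?_, fun u hu => ?_⟩)
    · rw [h.b_ncard_fix h1 e, show {s : F | -1 * s = s} = {0} from Set.ext fun s => ⟨fun e => ?_, ?_⟩,
        Set.ncard_singleton]
      · replace e : -1 * s = s := e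
        exact (mul_eq_zero.1 (by linear_combination -e)).resolve_left h.two
      · rintro rfl
        exact mul_zero _
    · obtain ⟨a, rfl⟩ := h.ud u hu
      rw [e', LC.b_up_inv, neg_one_mul]
  · exact .inr (.inr ⟨l, σ, k1, t, e⟩)

/-- Involutions interchanging `∞` and `0`. -/
theorem LC.b_inv1 (h : S.LC Δ E π) {g : G} (hg : g ∈ St G Δ) (h1 : g • E inf = E (pt 0))
    (h2 : g • E (pt 0) = E inf) (g2 : g * g ∈ W G Δ) :
    ∃ (l : F) (σ : F ≃+* F), l ≠ 0 ∧ σ l = l ∧ (∀ s, σ (σ s) = s) ∧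
      ∀ s, s ≠ 0 → g • E (pt s) = E (pt (l / σ s)) := by
  obtain ⟨l, σ, l0, e⟩ := h.semi1 hg h1 h2
  have l1 : σ l ≠ 0 := (map_ne_zero σ).2 l0
  have k : ∀ s, s ≠ 0 → l * σ (σ s) = s * σ l := fun s s0 => by
    have := HKS.mem_W.1 g2 _ (h.b_E_mem (pt s))
    rwa [mul_smul, e s s0, e _ (div_ne_zero l0 ((map_ne_zero σ).2 s0)), h.b_pt_inj, map_div₀, div_div_eq_mul_div,
      div_eq_iff l1] at this
  have k1 : σ l = l := by simpa [eq_comm] using k 1 one_ne_zero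
  refine ⟨l, σ, l0, k1, fun s => ?_, e⟩
  by_cases s0 : s = 0
  · simp [s0]
  · exact mul_left_cancel₀ l0 (by rw [k s s0, k1, mul_comm])

theorem LC.b_mu_pt (h : S.LC Δ E π) {b : F} (hb : b ≠ 0) :
    S.mu (E inf) (E (pt 0)) (π (up b)) ∈ St G Δ ∧ S.mu (E inf) (E (pt 0)) (π (up b)) • E inf = E (pt 0) ∧
      S.mu (E inf) (E (pt 0)) (π (up b)) • E (pt 0) = E inf ∧
      ∀ s, s ≠ 0 → S.mu (E inf) (E (pt 0)) (π (up b)) • E (pt s) = E (pt (-b ^ 2 / s)) := by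
  obtain ⟨M, e, e'⟩ := h.mu_up hb
  have d : M.1.det ≠ 0 := by simp
  rw [e']
  refine ⟨h.b_pi_mem M, ?_, ?_, fun s s0 => ?_⟩ <;> rw [h.act, h.inj.eq_iff]
  · simp [pm_smul_inf_eq_pt (e ▸ d), e]
  · simp [pm_smul_pt_eq_inf (e ▸ d), e]
  · simp [pm_smul_pt_eq_pt (e ▸ d), e]
    field_simp

omit [Finite G] [Finite Ω] in
/-- Elements of `L` fixing `∞` and `0` are scalars. -/
theorem LC.b_scal0 (h : S.LC Δ E π) {g : G} (hg : g ∈ S.L Δ) (h1 : g • E inf = E inf)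
    (h2 : g • E (pt 0) = E (pt 0)) : ∃ k : F, ∀ s, g • E (pt s) = E (pt (k * s)) := by
  obtain ⟨M, rfl⟩ : g ∈ π.range := h.rng ▸ hg
  have d : M.1.det ≠ 0 := by simp
  rw [h.act, h.inj.eq_iff, pm_smul_inf_eq_inf d] at h1
  rw [h.act, h.inj.eq_iff, pm_smul_pt_eq_pt d, mul_zero, zero_add, zero_mul] at h2
  have e := M.2
  rw [Matrix.det_fin_two, h2, zero_mul, sub_zero] at e
  refine ⟨M.1 0 0 ^ 2, fun s => ?_⟩
  rw [h.act, (pm_smul_pt_eq_pt d).2]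
  rw [h1, h2]
  linear_combination -(M.1 0 0 * s) * e

theorem LC.b_comm_scal (h : S.LC Δ E π) {g g' : G} (hg : g ∈ St G Δ) (hg' : g' ∈ St G Δ)
    (h1 : g • E inf = E inf) (h1' : g' • E inf = E inf) {k k' : F} (e : ∀ s, g • E (pt s) = E (pt (k * s)))
    (e' : ∀ s, g' • E (pt s) = E (pt (k' * s))) : g * g' * g⁻¹ * g'⁻¹ ∈ W G Δ :=
  (b_comm_W_iff hg hg').2 (h.b_forall_iff.2 ⟨by rw [h1, h1', h1], fun s => by rw [e, e', e, e', mul_left_comm]⟩)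

theorem LC.b_scal_of (h : S.LC Δ E π) {g : G} (hg : g ∈ St G Δ) (h1 : g • E inf = E inf) {k : F}
    (e : ∀ s, g • E (pt s) = E (pt (k * s))) : S.Scal Δ (E inf) (E (pt 0)) g :=
  ⟨hg, h1, by rw [e, mul_zero], fun _ hl l1 l2 =>
    (h.b_scal0 hl l1 l2).elim fun _ e' => h.b_comm_scal hg (L_le_St hl) h1 l1 e e'⟩

theorem LC.b_of_scal (h : S.LC Δ E π) {g : G} (hg : S.Scal Δ (E inf) (E (pt 0)) g) :
    ∃ k : F, ∀ s, g • E (pt s) = E (pt (k * s)) := by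
  obtain ⟨l, σ, l0, e, -⟩ := h.semi0 hg.st hg.fx hg.fy
  have k : ∀ a, σ (a ^ 2) = a ^ 2 := fun a => by
    by_cases a0 : a = 0
    · simp [a0]
    let M : SL(2, F) := ⟨!![a, 0; 0, a⁻¹], by simp [Matrix.det_fin_two, a0]⟩
    have d : M.1.det ≠ 0 := by simp
    have m : ∀ s, π M • E (pt s) = E (pt (a ^ 2 * s)) := fun s => by
      rw [h.act, h.inj.eq_iff, pm_smul_pt_eq_pt d]
      simp [M]
      field_simp
    have := (b_comm_W_iff hg.st (h.b_pi_mem M)).1 (hg.comm _ (h.rng ▸ ⟨M, rfl⟩)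
      (by rw [h.act, (pm_smul_inf_eq_inf d).2 (by simp [M])]) (by rw [m, mul_zero])) _ (h.b_E_mem (pt 1))
    rw [m, e, e, m, h.b_pt_inj, mul_one, map_one, mul_one, mul_comm] at this
    exact mul_right_cancel₀ l0 this
  refine ⟨l, fun s => ?_⟩
  have := h.two
  rw [e, show s = ((s + 1) / 2) ^ 2 - ((s - 1) / 2) ^ 2 by field_simp; ring, map_sub, k, k]

end Coord

theorem LT.b_exists_lc_fix (h : S.LT Δ) {g : G} (hg : g ∈ St G Δ) (h2 : g * g ∈ W G Δ) (hx : x ∈ Δ)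
    (gx : g • x = x) : ∃ c ∈ Δ, c ≠ x ∧ g • c = c := by
  obtain ⟨F, _, _, E, i, r, -⟩ := h.ty
  exact exists_snd_fix (h.cl.even h.ev ⟨_, r ▸ ⟨inf, rfl⟩, _, r ▸ ⟨pt 0, rfl⟩, i.ne (inf_ne_pt 0)⟩) hg h2 hx gx

theorem LT.tri (h : S.LT Δ) {g : G} (hg : g ∈ St G Δ) (h2 : g * g ∈ W G Δ) (hx : x ∈ Δ)
    (gx : g • x = x) : g ∈ W G Δ ∨ ((Δ ∩ fixedBy Ω g).ncard = 2 ∧ Inv g (S.UD Δ x)) ∨
      ∃ r : ℕ, 3 ≤ r ∧ Δ.ncard = r ^ 2 + 1 ∧ (Δ ∩ fixedBy Ω g).ncard = r + 1 := by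
  obtain ⟨c, hc, cx, gc⟩ := h.b_exists_lc_fix hg h2 hx gx
  obtain ⟨F, _, _, E, π, H, rfl, rfl, n⟩ := h.exists_lc hx hc cx
  refine (H.b_inv0 hg gx gc h2).imp_right (Or.imp_right fun ⟨l, σ, l1, u, e⟩ => ?_)
  obtain ⟨r, r3, rc, rf⟩ := card_tw H.two u l1
  exact ⟨r, r3, by rw [n, ← rc, Nat.card_eq_fintype_card], by rw [H.b_ncard_fix gx e, rf]⟩

theorem LT.swap_fix (h : S.LT Δ) {t z : G} (ht : t ∈ St G Δ) (hz : z ∈ St G Δ)
    (t2 : t * t ∈ W G Δ) (z2 : z * z ∈ W G Δ) (hc : t * z * t⁻¹ * z⁻¹ ∈ W G Δ) (tW : t ∉ W G Δ)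
    (h3 : 2 < (Δ ∩ fixedBy Ω t).ncard) (hx : x ∈ Δ) (tx : t • x = x) : ∃ p ∈ Δ, z • p = p := by
  by_cases zx : z • x = x
  · exact ⟨x, hx, zx⟩
  rw [b_comm_W_iff ht hz] at hc
  have ty : t • z • x = z • x := by rw [hc x hx, tx]
  have zy : z • z • x = x := by rw [← mul_smul, HKS.mem_W.1 z2 x hx]
  obtain ⟨F, _, _, E, π, H, rfl, e0, -⟩ := h.exists_lc hx (KS.St.smul_mem hz hx) zx
  rw [← e0] at ty zy
  obtain ⟨l, σ, l1, u, e⟩ := ((H.b_inv0 ht tx ty t2).resolve_left tW).resolve_left fun e => h3.ne' e.1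
  obtain ⟨m, τ, m0, m1, τ2, e'⟩ := H.b_inv1 hz e0.symm zy z2
  suffices ∃ s, s * τ s = m by
    obtain ⟨s, rfl⟩ := this
    have s0 := left_ne_zero_of_mul m0
    exact ⟨_, H.b_E_mem (pt s), by rw [e' s s0, mul_div_cancel_right₀ _ (right_ne_zero_of_mul m0)]⟩
  rcases triv_or τ2 with v | v
  · have l0 := left_ne_zero_of_mul_eq_one l1
    have := hc _ (H.b_E_mem (pt 1))
    rw [e' 1 one_ne_zero, e, e, map_one, map_one, mul_one, div_one, e' l l0, H.b_pt_inj, v, eq_div_iff l0] at this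
    obtain ⟨s, hs⟩ := isSquare_tw H.two u l1 (m := m) (by linear_combination this)
    exact ⟨s, by rw [v, hs]⟩
  · exact v.exists_norm_eq m1

theorem LC.an {F : Type} [Field F] [Fintype F] {E : P1 F → Ω} {π : SL(2, F) →* G}
    (h : S.LC Δ E π) {μ : G} (hμ : S.AN Δ (E inf) (E (pt 0)) μ) :
    ∃ l : F, ¬ IsSquare (-l) ∧ ∀ s, s ≠ 0 → μ • E (pt s) = E (pt (l / s)) := by
  obtain ⟨l, σ, l0, l1, σ2, e⟩ := h.b_inv1 hμ.st hμ.sx hμ.sy hμ.sq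
  have k : ∀ c, c * σ c ≠ -l := fun c hc => by
    have c0 : c ≠ 0 := left_ne_zero_of_mul (hc ▸ neg_ne_zero.2 l0)
    have c1 : σ c ≠ 0 := (map_ne_zero σ).2 c0
    obtain ⟨-, m1, m2, m3⟩ := h.b_mu_pt c0
    refine hμ.no _ (h.b_up_UD c) (h.b_up_ne.2 c0) ?_ (HKS.mem_W.2 (h.b_forall_iff.2 ⟨?_, fun s => ?_⟩))
    · rw [LC.b_up_inv, h.b_up_pt, h.b_up_pt, zero_add, zero_add, e c c0, h.b_pt_inj, div_eq_iff c1]
      linear_combination hc
    · simp only [mul_smul, hμ.sx, m2]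
    have m : ∀ s, (S.mu (E inf) (E (pt 0)) (π (up c)) * μ) • E (pt s) = E (pt (c / σ c * σ s)) := fun s => by
      by_cases s0 : s = 0
      · rw [s0, mul_smul, hμ.sy, m1, map_zero, mul_zero]
      have s1 : σ s ≠ 0 := (map_ne_zero σ).2 s0
      rw [mul_smul, e s s0, m3 _ (div_ne_zero l0 s1), h.b_pt_inj, ← neg_neg l, ← hc]
      field_simp
    rw [mul_smul, m, m, h.b_pt_inj, map_mul, map_div₀, σ2, σ2]
    field_simp
  rcases triv_or σ2 with v | v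
  · simp only [v] at e k
    exact ⟨l, fun ⟨c, hc⟩ => k c hc.symm, e⟩
  · exact (v.exists_norm_eq (a := -l) (by rw [map_neg, RingHom.coe_coe, l1])).elim fun c hc => (k c hc).elim

theorem LT.an_a (h : S.LT Δ) {μ s : G} (hμ : S.AN Δ x y μ) (hs : s ∈ St G Δ) (sx : s • x = x)
    (sy : s • y = y) (s2 : s * s ∈ W G Δ) (hc : s * μ * s⁻¹ * μ⁻¹ ∈ W G Δ) :
    s ∈ W G Δ ∨ Inv s (S.UD Δ x) := by
  obtain ⟨F, _, _, E, π, H, rfl, rfl, -⟩ := h.exists_lc hμ.hx hμ.hy hμ.ne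
  obtain ⟨m, m0, e'⟩ := H.an hμ
  refine (H.b_inv0 hs sx sy s2).imp_right fun k => k.elim And.right fun ⟨l, σ, l1, u, e⟩ => (m0 ?_).elim
  have l0 := left_ne_zero_of_mul_eq_one l1
  have := (b_comm_W_iff hs hμ.st).1 hc _ (H.b_E_mem (pt 1))
  rw [e' 1 one_ne_zero, e, e, map_one, mul_one, div_one, e' l l0, H.b_pt_inj, eq_div_iff l0] at this
  exact isSquare_tw H.two u l1 (by rw [map_neg]; linear_combination -this)

theorem LT.an_b (h : S.LT Δ) (h4 : Δ.ncard % 4 = 2) {μ b : G} (hμ : S.AN Δ x y μ)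
    (hb : b ∈ S.UD Δ x) (b1 : b ≠ 1) : μ • b • y ≠ b • y := by
  obtain ⟨F, _, _, E, π, H, rfl, rfl, n⟩ := h.exists_lc hμ.hx hμ.hy hμ.ne
  obtain ⟨m, m0, e⟩ := H.an hμ
  obtain ⟨c, rfl⟩ := H.ud b hb
  have c0 := H.b_up_ne.1 b1
  rw [H.b_up_pt, zero_add, e c c0, Ne, H.b_pt_inj, div_eq_iff c0]
  rintro rfl
  rw [← neg_one_mul] at m0
  exact m0 ((FiniteField.isSquare_neg_one_iff.2 (by omega)).mul (IsSquare.mul_self c))

theorem LT.an_c (h : S.LT Δ) {μ b : G} (hμ : S.AN Δ x y μ) (hb : b ∈ S.UD Δ x) (b1 : b ≠ 1) :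
    S.Scal Δ x y (S.mu x y b * μ) := by
  obtain ⟨F, _, _, E, π, H, rfl, rfl, -⟩ := h.exists_lc hμ.hx hμ.hy hμ.ne
  obtain ⟨m, m0, e⟩ := H.an hμ
  obtain ⟨c, rfl⟩ := H.ud b hb
  obtain ⟨m4, m1, m2, m3⟩ := H.b_mu_pt (H.b_up_ne.1 b1)
  have l0 : m ≠ 0 := fun e => m0 (by simp [e])
  refine H.b_scal_of (mul_mem m4 hμ.st) (by rw [mul_smul, hμ.sx, m2]) (k := -c ^ 2 / m) fun s => ?_
  by_cases s0 : s = 0
  · rw [s0, mul_smul, hμ.sy, m1, mul_zero]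
  · rw [mul_smul, e s s0, m3 _ (div_ne_zero l0 s0), div_div_eq_mul_div, div_mul_eq_mul_div]

theorem LT.scal_L (h : S.LT Δ) (hx : x ∈ Δ) (hy : y ∈ Δ) (hxy : y ≠ x) {g : G} (hg : g ∈ S.L Δ)
    (gx : g • x = x) (gy : g • y = y) : S.Scal Δ x y g := by
  obtain ⟨F, _, _, E, π, H, rfl, rfl, -⟩ := h.exists_lc hx hy hxy
  exact (H.b_scal0 hg gx gy).elim fun _ e => H.b_scal_of (L_le_St hg) gx e

theorem Scal.mul {g k : G} (hg : S.Scal Δ x y g) (hk : S.Scal Δ x y k) : S.Scal Δ x y (g * k) :=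
  ⟨mul_mem hg.st hk.st, by rw [mul_smul, hk.fx, hg.fx], by rw [mul_smul, hk.fy, hg.fy], fun l hl lx ly =>
    (b_comm_W_iff (mul_mem hg.st hk.st) (L_le_St hl)).2 fun c hc => by
      rw [mul_smul, mul_smul, (b_comm_W_iff hk.st (L_le_St hl)).1 (hk.comm l hl lx ly) c hc,
        (b_comm_W_iff hg.st (L_le_St hl)).1 (hg.comm l hl lx ly) _ (KS.St.smul_mem hk.st hc)]⟩

theorem Scal.inv {g : G} (hg : S.Scal Δ x y g) : S.Scal Δ x y g⁻¹ :=
  ⟨inv_mem hg.st, by rw [inv_smul_eq_iff, hg.fx], by rw [inv_smul_eq_iff, hg.fy], fun l hl lx ly =>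
    (b_comm_W_iff (inv_mem hg.st) (L_le_St hl)).2 fun c hc => by
      rw [inv_smul_eq_iff, (b_comm_W_iff hg.st (L_le_St hl)).1 (hg.comm l hl lx ly) _
        (KS.St.smul_mem (inv_mem hg.st) hc), smul_inv_smul]⟩

theorem LT.scal_comm (h : S.LT Δ) (hx : x ∈ Δ) (hy : y ∈ Δ) (hxy : y ≠ x) {g k : G}
    (hg : S.Scal Δ x y g) (hk : S.Scal Δ x y k) : g * k * g⁻¹ * k⁻¹ ∈ W G Δ := by
  obtain ⟨F, _, _, E, π, H, rfl, rfl, -⟩ := h.exists_lc hx hy hxy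
  obtain ⟨a, e⟩ := H.b_of_scal hg
  obtain ⟨b, e'⟩ := H.b_of_scal hk
  exact H.b_comm_scal hg.st hk.st hg.fx hk.fx e e'

end Sp

end Cfsg.Agent.HKS
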