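import Mathlib
import Cfsg.Agent.HKS.Basic

/-! Piece SF: the solvable type -/

set_option autoImplicit false
set_option linter.unusedSectionVars false

namespace Cfsg.Agent.HKS

open Subgroup MulAction Cfsg.Agent.TT Cfsg.Agent.Perm.TT Cfsg.Agent.Cl.L2
open Cfsg.Agent.KS (St)
open scoped MatrixGroups Pointwise commutatorElement

variable {G Ω : Type*} [Group G] [MulAction G Ω] [Finite G] [Finite Ω] {S : Sp G Ω}
  {Δ Δ' : Set Ω} {x y : Ω}

namespace Sp.DS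

theorem sf_nt {N : Subgroup G} (h : S.DS Δ N) : Δ.Nontrivial :=
  (Set.one_lt_ncard_iff_nontrivial).1 (by have := h.four; omega)

theorem sf_St {N : Subgroup G} (h : S.DS Δ N) {n : G} (hn : n ∈ N) : n ∈ St G Δ := L_le_St (h.le hn)

theorem sf_inv {N : Subgroup G} (h : S.DS Δ N) {n : G} (hn : n ∈ N) : n⁻¹ = n :=
  inv_eq_of_mul_eq_one_right (h.sq n hn)

theorem sf_comm {N : Subgroup G} (h : S.DS Δ N) {n m : G} (hn : n ∈ N) (hm : m ∈ N) : n * m = m * n := by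
  rw [← h.sf_inv (mul_mem hn hm), mul_inv_rev, h.sf_inv hn, h.sf_inv hm]

theorem sf_ext {N : Subgroup G} (h : S.DS Δ N) (hx : x ∈ Δ) {n m : G} (hn : n ∈ N) (hm : m ∈ N)
    (e : n • x = m • x) : n = m :=
  (inv_mul_eq_one.1 (h.free _ (mul_mem (inv_mem hm) hn) x hx (by rw [mul_smul, e, inv_smul_smul]))).symm

theorem sf_card {N : Subgroup G} (h : S.DS Δ N) (hx : x ∈ Δ) {C : Subgroup G} (hC : C ≤ N) {A : Set Ω}
    (hA : A ⊆ Δ) (e : ∀ n ∈ N, n • x ∈ A ↔ n ∈ C) : Nat.card C = A.ncard := by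
  rw [← Nat.card_coe_set_eq]
  refine Nat.card_congr (Equiv.ofBijective (fun n => ⟨(n : G) • x, (e _ (hC n.2)).2 n.2⟩) ⟨fun n m k => ?_, fun c => ?_⟩)
  · exact Subtype.ext (h.sf_ext hx (hC n.2) (hC m.2) (congrArg Subtype.val k))
  · obtain ⟨n, hn, k⟩ := h.trans x hx c (hA c.2)
    exact ⟨⟨n, (e n hn).1 (k ▸ c.2)⟩, Subtype.ext k⟩

theorem card {N : Subgroup G} (h : S.DS Δ N) : Nat.card N = Δ.ncard := by
  obtain ⟨x, hx⟩ := h.sf_nt.nonempty
  exact h.sf_card hx le_rfl subset_rfl fun n hn => iff_of_true (KS.St.smul_mem (h.sf_St hn) hx) hn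

theorem pow {N : Subgroup G} (h : S.DS Δ N) : ∃ d : ℕ, 2 ≤ d ∧ Δ.ncard = 2 ^ d := by
  have hp : IsPGroup 2 N := fun n => ⟨1, Subtype.ext (by simpa [pow_two] using h.sq n n.2)⟩
  obtain ⟨d, hd⟩ := IsPGroup.iff_card.1 hp
  rw [h.card] at hd
  refine ⟨d, ?_, hd⟩
  have h4 := h.four
  rw [hd] at h4
  exact (Nat.pow_le_pow_iff_right (a := 2) (by norm_num)).1 h4

theorem sf_dec {N : Subgroup G} (h : S.DS Δ N) (hx : x ∈ Δ) {g : G} (hg : g ∈ S.L Δ) :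
    ∃ n ∈ N, ∃ u ∈ S.UD Δ x, g = n * u := by
  let K : Subgroup G :=
    { carrier := {g | ∃ n ∈ N, ∃ u ∈ S.UD Δ x, g = n * u}
      one_mem' := ⟨1, one_mem _, 1, one_mem _, (mul_one _).symm⟩
      mul_mem' := by
        rintro _ _ ⟨n, hn, u, hu, rfl⟩ ⟨m, hm, v, hv, rfl⟩
        exact ⟨_, mul_mem hn (h.norm u (mem_UD.1 hu).2 m hm), _, mul_mem hu hv, by group⟩
      inv_mem' := by
        rintro _ ⟨n, hn, u, hu, rfl⟩
        exact ⟨_, h.norm _ (inv_mem (mem_UD.1 hu).2) _ (inv_mem hn), _, inv_mem hu, by group⟩ }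
  refine (L_le (K := K) fun c hc v hv => ?_) hg
  obtain ⟨n, hn, k⟩ := h.trans c hc x hx
  have h1 : n * v * n⁻¹ ∈ S.UD Δ x := by
    have := (conj_mem_UD_smul (g := n)).2 hv
    rwa [smul_eq_of_St (h.sf_St hn), k] at this
  exact ⟨_, mul_mem (inv_mem hn) (h.norm _ (mem_UD.1 h1).2 n hn), _, h1, by group⟩

theorem fix2 {N : Subgroup G} (h : S.DS Δ N) {g : G} (hg : g ∈ S.L Δ) (hx : x ∈ Δ) (hy : y ∈ Δ)
    (hxy : y ≠ x) (gx : g • x = x) (gy : g • y = y) : g = 1 := by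
  have _ := hy
  obtain ⟨n, hn, u, hu, rfl⟩ := h.sf_dec hx hg
  rw [mul_smul, S.fix x u (mem_UD.1 hu).1] at gx
  rw [h.free n hn x hx gx, one_mul] at gy ⊢
  exact S.free x y hxy u (mem_UD.1 hu).1 gy

theorem conjN {N : Subgroup G} (h : S.DS Δ N) (hx : x ∈ Δ) {a b : G} (ha : a ∈ N) (hb : b ∈ N)
    (a1 : a ≠ 1) (b1 : b ≠ 1) : ∃ u ∈ S.UD Δ x, u * a * u⁻¹ = b := by
  obtain ⟨u, hu, e⟩ := h.cl.exists_UD hx (KS.St.smul_mem (h.sf_St ha) hx) (KS.St.smul_mem (h.sf_St hb) hx)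
    (fun e => a1 (h.free a ha x hx e)) fun e => b1 (h.free b hb x hx e)
  refine ⟨u, hu, h.sf_ext hx (h.norm u (mem_UD.1 hu).2 a ha) hb ?_⟩
  rw [mul_smul, mul_smul, S.fix x _ (inv_mem (mem_UD.1 hu).1), e]

theorem sf_fix {N : Subgroup G} (h : S.DS Δ N) {g : G} (hg : g ∈ St G Δ) (hx : x ∈ Δ) (gx : g • x = x) :
    Nat.card ↥(N ⊓ centralizer {g}) = (Δ ∩ fixedBy Ω g).ncard := by
  refine h.sf_card hx inf_le_left Set.inter_subset_left fun n hn => ⟨fun k => ⟨hn, ?_⟩, fun k => ⟨?_, ?_⟩⟩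
  · refine mem_centralizer_singleton_iff.2 (mul_inv_eq_iff_eq_mul.1 (h.sf_ext hx (h.norm g hg n hn) hn ?_)).symm
    rw [mul_smul, mul_smul, inv_smul_eq_iff.2 gx.symm]
    exact k.2
  · exact KS.St.smul_mem (h.sf_St hn) hx
  · rw [mem_fixedBy, ← mul_smul, ← mem_centralizer_singleton_iff.1 k.2, mul_smul, gx]

theorem sf_core {N : Subgroup G} (h : S.DS Δ N) {g : G} (hg : g ∈ St G Δ) (h2 : g * g ∈ W G Δ)
    (hx : x ∈ Δ) (gx : g • x = x) (hw : g ∉ W G Δ) : Nat.card ↥(N ⊓ centralizer {g}) ^ 2 = Nat.card N ∧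
      ∀ n ∈ N, n * g = g * n → ∃ m ∈ N, n = m * (g * m * g⁻¹) := by
  let φ : N →* G := MonoidHom.mk' (fun n => (n : G) * (g * n * g⁻¹)) fun n m => by
    simp only [coe_mul]
    calc _ = (n : G) * (m * (g * n * g⁻¹)) * (g * m * g⁻¹) := by group
      _ = _ := by rw [h.sf_comm m.2 (h.norm g hg n n.2)]; group
  have hk : φ.ker = (N ⊓ centralizer {g}).subgroupOf N := by
    ext n
    rw [MonoidHom.mem_ker, mem_subgroupOf, mem_inf, mem_centralizer_singleton_iff]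
    change (n : G) * (g * n * g⁻¹) = 1 ↔ _
    rw [mul_eq_one_iff_inv_eq, h.sf_inv n.2, eq_mul_inv_iff_mul_eq]
    exact ⟨fun k => ⟨n.2, k⟩, fun k => k.2⟩
  have hr : φ.range ≤ N ⊓ centralizer {g} := by
    rintro _ ⟨n, rfl⟩
    refine ⟨mul_mem n.2 (h.norm g hg n n.2), mem_centralizer_singleton_iff.2 ?_⟩
    change (n : G) * (g * n * g⁻¹) * g = g * (n * (g * n * g⁻¹))
    have c := (commute_L_W h.sf_nt (h.le n.2) h2).eq
    calc _ = (n : G) * (g * n * g⁻¹) * g := rfl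
      _ = g * n * g⁻¹ * (n * (g * g)) * g⁻¹ := by rw [h.sf_comm n.2 (h.norm g hg n n.2)]; group
      _ = _ := by rw [c]; group
  have h1 : Nat.card N = Nat.card ↥(N ⊓ centralizer {g}) * Nat.card φ.range := by
    rw [← Nat.card_congr (subgroupOfEquivOfLe (inf_le_left : N ⊓ centralizer {g} ≤ N)).toEquiv, ← hk,
      ← φ.ker.card_mul_index, index_ker]
  have h3 := card_le_of_le hr
  obtain ⟨y, hy, yx, gy⟩ := exists_snd_fix (by
    obtain ⟨d, hd, e⟩ := h.pow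
    rw [e]; exact (Nat.even_pow.2 ⟨even_two, by omega⟩)) hg h2 hx gx
  obtain ⟨u, hu, hc⟩ : ∃ u ∈ S.UD Δ x, ¬ Commute u g := by
    by_contra hc
    push Not at hc
    exact hw (h.cl.mem_W hx hy yx gx gy hc)
  have h4 : Nat.card ↥(N ⊓ centralizer {g}) * Nat.card ↥(N ⊓ centralizer {g}) ≤ Nat.card N := by
    let f : ↥(N ⊓ centralizer {g}) × ↥(N ⊓ centralizer {g}) → N := fun p =>
      ⟨p.1 * (u * p.2 * u⁻¹), mul_mem p.1.2.1 (h.norm u (mem_UD.1 hu).2 _ p.2.2.1)⟩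
    rw [← Nat.card_prod]
    refine Nat.card_le_card_of_injective f fun p q e => ?_
    have e1 : (p.1 : G) * (u * p.2 * u⁻¹) = q.1 * (u * q.2 * u⁻¹) := congrArg Subtype.val e
    have e2 : ((q.1⁻¹ * p.1 : ↥(N ⊓ centralizer {g})) : G) = u * (q.2 * p.2⁻¹ : ↥(N ⊓ centralizer {g})) * u⁻¹ := by
      simp only [coe_mul, coe_inv]
      calc _ = (q.1 : G)⁻¹ * (p.1 * (u * p.2 * u⁻¹)) * (u * p.2 * u⁻¹)⁻¹ := by group
        _ = _ := by rw [e1]; group
    generalize ha : q.1⁻¹ * p.1 = a at e2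
    generalize hb : q.2 * p.2⁻¹ = b at e2
    have c1 : Commute (a : G) g := mem_centralizer_singleton_iff.1 a.2.2
    have c2 : Commute (a : G) (u * g * u⁻¹) := by
      rw [e2]; exact (show Commute (b : G) g from mem_centralizer_singleton_iff.1 b.2.2).conj u
    have m : u * (g * u⁻¹ * g⁻¹) ∈ S.U x := mul_mem (mem_UD.1 hu).1 (conj_fix gx (inv_mem (mem_UD.1 hu).1))
    have a1 : (a : G) = 1 := by
      by_contra a1
      refine hc (commutatorElement_eq_one_iff_commute.1 ?_)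
      have := S.free x _ (fun e => a1 (h.free _ a.2.1 x hx e)) _ m (by
        rw [← mul_smul, show u * (g * u⁻¹ * g⁻¹) = u * g * u⁻¹ * g⁻¹ by group, ← (c2.mul_right c1.inv_right).eq,
          mul_smul, show u * g * u⁻¹ * g⁻¹ = u * (g * u⁻¹ * g⁻¹) by group, S.fix x _ m])
      rw [commutatorElement_def, ← this]; group
    have b1 : (b : G) = 1 := by rw [a1] at e2; exact conj_eq_one_iff.1 e2.symm
    exact Prod.ext (inv_mul_eq_one.1 (ha.trans (Subtype.ext a1))).symm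
      (mul_inv_eq_one.1 (hb.trans (Subtype.ext b1))).symm
  have h5 : Nat.card ↥(N ⊓ centralizer {g}) ≤ Nat.card φ.range :=
    Nat.le_of_mul_le_mul_left (h1 ▸ h4) Nat.card_pos
  refine ⟨by rw [pow_two]; nth_rw 2 [le_antisymm h5 h3]; exact h1.symm, fun n hn e => ?_⟩
  obtain ⟨m, hm⟩ : n ∈ φ.range := (eq_of_le_of_card_ge hr h5).ge ⟨hn, mem_centralizer_singleton_iff.2 e⟩
  exact ⟨m, m.2, hm.symm⟩

theorem tri {N : Subgroup G} (h : S.DS Δ N) {g : G} (hg : g ∈ St G Δ) (h2 : g * g ∈ W G Δ)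
    (hx : x ∈ Δ) (gx : g • x = x) : g ∈ W G Δ ∨ (Δ ∩ fixedBy Ω g).ncard ^ 2 = Δ.ncard := by
  refine or_iff_not_imp_left.2 fun hw => ?_
  rw [← h.sf_fix hg hx gx, ← h.card]
  exact (h.sf_core hg h2 hx gx hw).1

theorem fpf {N : Subgroup G} (h : S.DS Δ N) {g : G} (hg : g ∈ St G Δ) (h2 : g * g ∈ W G Δ)
    (hf : ∀ c ∈ Δ, g • c ≠ c) : ∃ n ∈ N, ∃ w ∈ W G Δ, g = n * w := by
  obtain ⟨x, hx⟩ := h.sf_nt.nonempty
  obtain ⟨n, hn, e⟩ := h.trans _ (KS.St.smul_mem hg hx) x hx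
  rw [← mul_smul] at e
  refine ⟨n, hn, n * g, by_contra fun hw => ?_, by rw [← mul_assoc, h.sq n hn, one_mul]⟩
  have e1 : n * (g * n * g⁻¹) = 1 := h.free _ (mul_mem hn (h.norm g hg n hn)) x hx (by
    conv_lhs => rw [← mem_W.1 h2 x hx, ← mul_smul, show n * (g * n * g⁻¹) * (g * g) = n * g * (n * g) by group,
      mul_smul, e, e])
  have e2 : n * g = g * n := by
    rw [mul_eq_one_iff_inv_eq, h.sf_inv hn, eq_mul_inv_iff_mul_eq] at e1; exact e1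
  have e3 : n * g * (n * g) = g * g := by
    calc _ = n * (g * n * g⁻¹) * (g * g) := by group
      _ = _ := by rw [e1, one_mul]
  obtain ⟨m, hm, k⟩ := (h.sf_core (mul_mem (h.sf_St hn) hg) (e3 ▸ h2) hx e hw).2 n hn (by rw [mul_assoc, e2])
  refine hf _ (KS.St.smul_mem (h.sf_St hm) hx) ?_
  have e4 : g * m = m * (n * g) := by
    calc g * m = n * n * g * m := by rw [h.sq n hn, one_mul]
      _ = m * (n * g * m * (n * g)⁻¹) * (n * g) * m := by rw [← k]; group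
      _ = m * (n * g) * (m * m) := by group
      _ = _ := by rw [h.sq m hm, mul_one]
  rw [← mul_smul, e4, mul_smul, e]

theorem cen {N : Subgroup G} (h : S.DS Δ N) {g : G} (hg : g ∈ St G Δ)
    (hc : ∀ n ∈ N, Commute g n) : ∃ n ∈ N, ∃ w ∈ W G Δ, g = n * w := by
  obtain ⟨x, hx⟩ := h.sf_nt.nonempty
  obtain ⟨n, hn, e⟩ := h.trans _ (KS.St.smul_mem hg hx) x hx
  rw [← mul_smul] at e
  refine ⟨n, hn, n * g, mem_W.2 fun c hcΔ => ?_, by rw [← mul_assoc, h.sq n hn, one_mul]⟩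
  obtain ⟨m, hm, rfl⟩ := h.trans x hx c hcΔ
  rw [← mul_smul, mul_assoc, (hc m hm).eq, ← mul_assoc, h.sf_comm hn hm, mul_assoc, mul_smul, e]

theorem sf_UD {N : Subgroup G} (h : S.DS Δ N) {g : G} (hg : g ∈ St G Δ) (h2 : g * g = 1)
    (hx : x ∈ Δ) (gx : g • x = x) (hw : g ∉ W G Δ) :
    (Nat.card ↥(S.UD Δ x ⊓ centralizer {g}) + 1) ^ 2 = Δ.ncard := by
  have h2' : g * g ∈ W G Δ := h2 ▸ one_mem _
  obtain ⟨y, hy, yx, gy⟩ := exists_snd_fix (by
    obtain ⟨d, hd, e⟩ := h.pow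
    rw [e]; exact (Nat.even_pow.2 ⟨even_two, by omega⟩)) hg h2' hx gx
  have e : S.UD Δ x ⊓ centralizer {g} = S.UD (Δ ∩ fixedBy Ω g) x := by
    ext u
    rw [mem_UD_inter h.cl hx hy yx gx gy, mem_inf, mem_centralizer_singleton_iff]; rfl
  rw [e, (h.cl.inter (cl_fix g)).card_UD ⟨hx, gx⟩ ⟨y, ⟨hy, gy⟩, x, ⟨hx, gx⟩, yx⟩]
  exact (h.tri hg h2' hx gx).resolve_left hw

theorem big {N : Subgroup G} (h : S.DS Δ N) (h8 : 8 ≤ Δ.ncard) {E : Subgroup G} (hE : E ≤ St G Δ)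
    (h2 : ∀ e ∈ E, e * e = 1) (hc : Δ.ncard * Nat.card ↥(E ⊓ W G Δ) ≤ Nat.card E) {g : G}
    (hg : g ∈ E) : ∃ n ∈ N, ∃ w ∈ W G Δ, g = n * w := by
  by_cases hw : g ∈ W G Δ
  · exact ⟨1, one_mem _, g, hw, (one_mul g).symm⟩
  refine h.fpf (hE hg) (h2 g hg ▸ one_mem _) fun c hcΔ gc => ?_
  have cm : ∀ a ∈ E, ∀ b ∈ E, a * b = b * a := fun a ha b hb => by
    rw [← inv_eq_of_mul_eq_one_right (h2 _ (mul_mem ha hb)), mul_inv_rev, inv_eq_of_mul_eq_one_right (h2 a ha),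
      inv_eq_of_mul_eq_one_right (h2 b hb)]
  have h1 := (h.tri (hE hg) (h2 g hg ▸ one_mem _) hcΔ gc).resolve_left hw
  obtain ⟨r, hr⟩ : ∃ r, r = (Δ ∩ fixedBy Ω g).ncard := ⟨_, rfl⟩
  have h3 : Nat.card E ≤ r * Nat.card ↥(E ⊓ stabilizer G c) := by
    have e1 := (stabilizer E c).card_mul_index
    rw [index_stabilizer, mul_comm] at e1
    have e2 : Nat.card (stabilizer E c) = Nat.card ↥(E ⊓ stabilizer G c) := by
      rw [← Nat.card_congr (subgroupOfEquivOfLe (inf_le_left : E ⊓ stabilizer G c ≤ E)).toEquiv, inf_subgroupOf_left]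
      rfl
    rw [← e1, e2, hr]
    refine Nat.mul_le_mul_right _ (Set.ncard_le_ncard ?_)
    rintro _ ⟨e, rfl⟩
    refine ⟨KS.St.smul_mem (hE e.2) hcΔ, ?_⟩
    change g • (e : G) • c = (e : G) • c
    rw [← mul_smul, cm g hg e e.2, mul_smul, gc]
  rw [← hr] at h1
  have r3 : 3 ≤ r := by nlinarith
  have h4 : 3 * Nat.card ↥(E ⊓ W G Δ) ≤ Nat.card ↥(E ⊓ stabilizer G c) := by
    refine le_trans (Nat.mul_le_mul_right _ r3) (Nat.le_of_mul_le_mul_left (c := r) ?_ (by omega))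
    rw [← mul_assoc, ← pow_two, h1]; exact hc.trans h3
  obtain ⟨s, hs, s1, s2⟩ : ∃ s ∈ E ⊓ stabilizer G c, s ∉ W G Δ ∧ s * g ∉ W G Δ := by
    by_contra hn
    push Not at hn
    classical
    let f : ↥(E ⊓ stabilizer G c) → ↥(E ⊓ W G Δ) × Bool := fun s =>
      if k : (s : G) ∈ W G Δ then (⟨s, s.2.1, k⟩, false) else (⟨s * g, mul_mem s.2.1 hg, hn s s.2 k⟩, true)
    have h5 := Nat.card_le_card_of_injective f fun a b e => by
      by_cases ka : (a : G) ∈ W G Δ <;> by_cases kb : (b : G) ∈ W G Δ <;> simp only [f, ka, kb, dif_pos, dif_neg,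
        not_false_eq_true, Prod.mk.injEq, and_true] at e
      · have e' := congrArg Subtype.val e
        exact Subtype.ext e'
      · exact absurd e.2 (by decide)
      · exact absurd e.2 (by decide)
      · exact Subtype.ext (mul_right_cancel (congrArg Subtype.val e))
    rw [Nat.card_prod, Nat.card_eq_fintype_card (α := Bool), Fintype.card_bool] at h5
    have : 0 < Nat.card ↥(E ⊓ W G Δ) := Nat.card_pos
    omega
  have sc : s • c = c := hs.2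
  have k1 := h.sf_UD (hE hs.1) (h2 s hs.1) hcΔ sc s1
  have k2 := h.sf_UD (hE hg) (h2 g hg) hcΔ gc hw
  have k3 := h.sf_UD (hE (mul_mem hs.1 hg)) (h2 _ (mul_mem hs.1 hg)) hcΔ (by rw [mul_smul, gc, sc]) s2
  have k4 := h.cl.card_UD hcΔ h.sf_nt
  obtain ⟨d, hd, e⟩ := h.pow
  have ev : Even Δ.ncard := by rw [e]; exact (Nat.even_pow.2 ⟨even_two, by omega⟩)
  have k5 := wiel (O := S.UD Δ c) (by rw [← k4] at ev; exact Nat.not_even_iff_odd.1 (Nat.even_add_one.1 ev))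
    (h2 s hs.1) (h2 g hg) (cm s hs.1 g hg) (fun u hu => conj_mem_UD (hE hs.1) sc hu)
    fun u hu => conj_mem_UD (hE hg) gc hu
  rw [← h1] at k1 k2 k3 k4 ev
  obtain ⟨k, rfl⟩ : ∃ k, r = k + 1 := ⟨r - 1, by omega⟩
  rw [Nat.pow_left_injective two_ne_zero k1 |> Nat.succ_injective, Nat.pow_left_injective two_ne_zero k2 |> Nat.succ_injective,
    Nat.pow_left_injective two_ne_zero k3 |> Nat.succ_injective,
    show Nat.card (S.UD Δ c) = k * (k + 2) by nlinarith] at k5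
  generalize Nat.card ↥(S.UD Δ c ⊓ centralizer {s} ⊓ centralizer {g}) = m at k5
  have k6 : (k + 2) * m ^ 2 = k * k := Nat.eq_of_mul_eq_mul_left (show 0 < k by omega) (by rw [← mul_assoc, k5]; ring)
  have k7 : k + 2 ∣ 4 := by
    have : (k + 2) * (m ^ 2 + 4) = (k + 2) * (k + 2) + 4 := by rw [mul_add, k6]; ring
    exact (Nat.dvd_add_right (Dvd.intro _ rfl)).1 (Dvd.intro _ this)
  have k8 := Nat.le_of_dvd (by norm_num) k7
  obtain rfl : k = 2 := by omega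
  revert ev; decide

theorem unique {N N' : Subgroup G} (h : S.DS Δ N) (h' : S.DS Δ N') : N = N' := by
  have key : ∀ {N N' : Subgroup G}, S.DS Δ N → S.DS Δ N' → N' ≤ N := fun {N N'} h h' n' hn' => by
    by_cases e : n' = 1
    · exact e ▸ one_mem _
    obtain ⟨n, hn, w, hw, k⟩ := h.fpf (h'.sf_St hn') (h'.sq n' hn' ▸ one_mem _) fun c hc k => e (h'.free n' hn' c hc k)
    obtain ⟨x, hx, y, hy, xy⟩ := h.sf_nt
    have : w = 1 := h.fix2 (by rw [show w = n⁻¹ * n' by rw [k]; group]; exact mul_mem (inv_mem (h.le hn)) (h'.le hn'))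
      hx hy xy.symm (mem_W.1 hw x hx) (mem_W.1 hw y hy)
    rw [k, this, mul_one]; exact hn
  exact le_antisymm (key h' h) (key h h')

end Sp.DS

end Cfsg.Agent.HKS
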