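import Mathlib
import Cfsg.Agent.HKS.Ctx
import Cfsg.Agent.HKS.LFA
import Cfsg.Agent.HKS.LFB
import Cfsg.Agent.HKS.SF

/-! Piece B1: an involution of Ree type, the centralizer -/

set_option autoImplicit false
set_option linter.unusedSectionVars false

namespace Cfsg.Agent.HKS

open Subgroup MulAction Cfsg.Agent.TT Cfsg.Agent.Perm.TT Cfsg.Agent.Cl.L2
open Cfsg.Agent.KS (St)
open scoped MatrixGroups Pointwise commutatorElement

variable {G Ω : Type*} [Group G] [MulAction G Ω] [Finite G] [Finite Ω] {S : Sp G Ω}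
  {Δ Δ' : Set Ω} {x y : Ω}

namespace B1

open Cfsg.Agent.Inv.Fz

variable {q : ℕ} {A : Subgroup G}

theorem four (h : S.DR Δ q A) : 4 ≤ Δ.ncard := by
  have := h.card8
  omega

theorem nt (h : S.DR Δ q A) : Δ.Nontrivial :=
  Set.one_lt_ncard_iff_nontrivial.1 (by have := four h; omega)

theorem notW (h : S.DR Δ q A) {a : G} (ha : a ∈ A) (hw : a ∈ W G Δ) : a = 1 := by
  have h1 : orderOf a ∣ 2 := orderOf_dvd_of_pow_eq_one (by rw [pow_two, h.sq a ha])
  have h2 : orderOf a ∣ Nat.card ↥(S.L Δ ⊓ W G Δ) := orderOf_dvd_natCard _ ⟨h.le ha, hw⟩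
  exact orderOf_eq_one_iff.1 (Nat.eq_one_of_dvd_coprimes (Nat.coprime_two_left.2 h.odd) h1 h2)

theorem pg (h : S.DR Δ q A) : IsPGroup 2 A := IsPGroup.of_card (n := 3) h.card

theorem comm (h : S.DR Δ q A) {a b : G} (ha : a ∈ A) (hb : b ∈ A) : Commute a b := by
  have i : ∀ c ∈ A, c⁻¹ = c := fun c hc => inv_eq_of_mul_eq_one_right (h.sq c hc)
  have := i _ (A.mul_mem ha hb)
  rw [mul_inv_rev, i a ha, i b hb] at this
  exact this.symm

theorem dec (h : S.DR Δ q A) {T : Subgroup G} (hT : IsPGroup 2 T) (hle : T ≤ St G Δ) (hA : A ≤ T)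
    {g : G} (hg : g ∈ T) : ∃ a ∈ A, ∃ r ∈ T ⊓ W G Δ, g = a * r := by
  let f : A × ↥(T ⊓ W G Δ) → T := fun p => ⟨p.1 * p.2, T.mul_mem (hA p.1.2) p.2.2.1⟩
  have inj : Function.Injective f := by
    rintro ⟨a, r⟩ ⟨b, s⟩ e
    have e' : (a : G) * r = b * s := congrArg Subtype.val e
    have k : (b : G)⁻¹ * a = 1 := notW h (A.mul_mem (A.inv_mem b.2) a.2) (by
      rw [show (b : G)⁻¹ * a = s * (r : G)⁻¹ by
        rw [inv_mul_eq_iff_eq_mul, ← mul_assoc, ← e', mul_inv_cancel_right]]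
      exact (W G Δ).mul_mem s.2.2 ((W G Δ).inv_mem r.2.2))
    obtain rfl : b = a := Subtype.ext (inv_mul_eq_one.1 k)
    rw [Subtype.ext (mul_left_cancel e' : (r : G) = s)]
  obtain ⟨⟨a, r⟩, e⟩ := (inj.bijective_of_nat_card_le (by
    rw [Nat.card_prod, h.card]; exact (h.syl T hle hT).1)).2 ⟨g, hg⟩
  exact ⟨a, a.2, r, r.2, (congrArg Subtype.val e).symm⟩

/-- An involution of Ree type with the largest axis is the only involution of its kernel which
commutes with it. -/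
theorem uniq (h : S.Ctx) (hU : S.NoU) {t : G} (ht : orderOf t = 2) (hd : S.DR (fixedBy Ω t) q A)
    (mx : ∀ s : G, orderOf s = 2 → ∀ q' A', S.DR (fixedBy Ω s) q' A' →
      (fixedBy Ω s).ncard ≤ (fixedBy Ω t).ncard)
    {s : G} (hw : s ∈ W G (fixedBy Ω t)) (s2 : s * s = 1) (hc : Commute s t) : s = 1 ∨ s = t := by
  by_contra k
  push Not at k
  have hs : orderOf s = 2 := orderOf_eq_prime (by rw [pow_two, s2]) k.1
  have sub : fixedBy Ω t ⊆ fixedBy Ω s := fun c hc => mem_W.1 hw c hc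
  obtain ⟨x, hx⟩ := (nt hd).nonempty
  obtain ⟨y, hV⟩ := h.exists_V4 ht hs hc.symm k.2.symm hx (sub hx)
  have lt : (fixedBy Ω t).ncard < (fixedBy Ω s).ncard :=
    lt_of_not_ge fun e => h.rank1 hV sub (Or.inl e)
  have h4 := four hd
  obtain ⟨a, ha, a1⟩ : ∃ a ∈ A, a ≠ 1 := by
    have : Nontrivial A := Finite.one_lt_card_iff_nontrivial.1 (by rw [hd.card]; norm_num)
    exact (nontrivial_iff_exists_ne_one A).1 this
  have aW : a ∉ W G (fixedBy Ω t) := fun e => a1 (notW hd ha e)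
  have aL : a ∈ S.L (fixedBy Ω s) := (Sp.cl_fix s).L_mono (nt hd) sub (hd.le ha)
  have fx := hd.fix a (Sp.L_le_St (hd.le ha)) (by rw [hd.sq a ha]; exact one_mem _) aW
  have h3 : 2 < (fixedBy Ω s ∩ fixedBy Ω a).ncard := by
    have := Set.ncard_le_ncard (Set.inter_subset_inter_left (fixedBy Ω a) sub)
    have := hd.q8
    omega
  rcases h.ty_fix hs (by omega) with ⟨-, N, hN⟩ | hL | ⟨q', hq⟩ | ⟨q', A', hq⟩
  · obtain ⟨b, hb, c, hc, ne⟩ := Set.one_lt_ncard_iff_nontrivial.1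
      (by omega : 1 < (fixedBy Ω s ∩ fixedBy Ω a).ncard)
    exact a1 (hN.fix2 aL hc.1 hb.1 ne hc.2 hb.2)
  · exact aW (mem_W.2 fun c hc => mem_W.1 ((h.lt hL).three aL h3) c (sub hc))
  · exact hU s hs q' hq
  · exact absurd (mx s hs q' A' hq) (by omega)

theorem pg_zpowers {w : G} {k : ℕ} (hw : w ^ 2 ^ k = 1) : IsPGroup 2 (zpowers w) := by
  rintro ⟨_, i, rfl⟩
  exact ⟨k, Subtype.ext (by
    simp only [SubgroupClass.coe_pow]
    rw [← zpow_natCast, ← zpow_mul, mul_comm, zpow_mul, zpow_natCast, hw, one_zpow]; rfl)⟩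

end B1

open B1 Cfsg.Agent.Inv.Fz in
theorem Sp.Ctx.b1 (h : S.Ctx) (hU : S.NoU) (hR : ¬ S.NoR) :
    ∃ (t t' : G) (q : ℕ) (A : Subgroup G), orderOf t = 2 ∧ S.DR (fixedBy Ω t) q A ∧
      ¬ 32 ∣ Nat.card (centralizer ({t} : Set G)) ∧ IsConj t t' ∧ t' ≠ t ∧ t' ∈ A ⊔ zpowers t := by
  have : Fact (Nat.Prime 2) := ⟨Nat.prime_two⟩
  have ne : {t : G | orderOf t = 2 ∧ ∃ q A, S.DR (fixedBy Ω t) q A}.Nonempty := by
    by_contra k
    exact hR fun t ht q A hd => k ⟨t, ht, q, A, hd⟩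
  obtain ⟨t, ⟨ht, q, A, hd⟩, mx⟩ := Set.exists_max_image _ (fun t : G => (fixedBy Ω t).ncard)
    (Set.toFinite _) ne
  have un : ∀ s ∈ W G (fixedBy Ω t), s * s = 1 → Commute s t → s = 1 ∨ s = t := fun s =>
    uniq h hU ht hd fun s hs q' A' hq => mx s ⟨hs, q', A', hq⟩
  have t2 : t * t = 1 := by rw [← pow_two, ← ht, pow_orderOf_eq_one]
  have tW := self_mem_W (Ω := Ω) t
  have cw : ∀ a ∈ A, ∀ w ∈ W G (fixedBy Ω t), Commute a w := fun a ha w hw =>
    Sp.commute_L_W (nt hd) (hd.le ha) hw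
  have mc : ∀ {g z : G}, g ∈ centralizer ({z} : Set G) ↔ Commute g z := mem_centralizer_singleton_iff
  have EC : A ⊔ zpowers t ≤ centralizer {t} :=
    sup_le (fun a ha => mc.2 (cw a ha t tW)) (zpowers_le.2 (mc.2 (Commute.refl t)))
  have tp : IsPGroup 2 (zpowers t) := pg_zpowers (k := 1) (by rw [pow_one, pow_two, t2])
  have Ep : IsPGroup 2 ↥(A ⊔ zpowers t) := IsPGroup.to_sup_of_normal_left' (pg hd) tp
    (zpowers_le.2 (mem_normalizer_of_conj_mem fun a ha => by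
      rw [← (cw a ha t tW).eq, mul_inv_cancel_right]; exact ha))
  obtain ⟨T, sy, ET⟩ := exists_isSylIn Ep EC
  have AT : A ≤ T := le_sup_left.trans ET
  have tT : t ∈ T := ET (mem_sup_right (mem_zpowers t))
  have TS : T ≤ St G (fixedBy Ω t) := fun g hg => mem_St_fix (mc.1 (sy.le hg))
  have dc := fun g (hg : g ∈ T) => dec hd sy.isPGroup TS AT hg
  have sq : ∀ g ∈ T, ∃ a ∈ A, ∃ r ∈ T ⊓ W G (fixedBy Ω t), g = a * r ∧ g * g = r * r := fun g hg => by
    obtain ⟨a, ha, r, hr, rfl⟩ := dc g hg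
    refine ⟨a, ha, r, hr, rfl, ?_⟩
    rw [← pow_two, (cw a ha r hr.2).mul_pow, pow_two, pow_two, hd.sq a ha, one_mul]
  obtain ⟨t₁, c1, n1, m1⟩ := h.zstar ht
  have o1 : t₁ * t₁ = 1 := by
    obtain ⟨g, rfl⟩ := isConj_iff.1 c1
    rw [conj_mul, t2, mul_one, mul_inv_cancel]
  obtain ⟨c, hc, cT⟩ := sy.exists_cj_le (pg_zpowers (w := t₁) (k := 1) (by rw [pow_one, pow_two, o1]))
    (zpowers_le.2 (mc.2 m1))
  obtain ⟨t', c', n', T'⟩ : ∃ t', IsConj t t' ∧ t' ≠ t ∧ t' ∈ T :=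
    ⟨c * t₁ * c⁻¹, c1.trans (isConj_iff.2 ⟨c, rfl⟩), fun e => n1 (by
      have := (mc.1 hc).eq
      rw [mul_inv_eq_iff_eq_mul, ← this] at e
      exact mul_left_cancel e), cj_le_iff.1 cT _ (mem_zpowers _)⟩
  obtain ⟨g, hg⟩ := isConj_iff.1 c'
  have o' : t' * t' = 1 := by rw [← hg, conj_mul, t2, mul_one, mul_inv_cancel]
  have one' : t' ≠ 1 := fun e => by
    rw [e, mul_inv_eq_one, mul_eq_left] at hg
    rw [hg, orderOf_one] at ht
    exact absurd ht (by norm_num)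
  obtain ⟨a, ha, r, hr, e, e2⟩ := sq t' T'
  have r1 := un r hr.2 (e2 ▸ o') (mc.1 (sy.le hr.1))
  have cen : T ≤ centralizer {t'} := fun k hk => mc.2 (by
    obtain ⟨b, hb, s, hs, rfl⟩ := dc k hk
    rw [e]
    refine Commute.mul_right ((comm hd hb ha).mul_left (cw a ha s hs.2).symm) ?_
    rcases r1 with rfl | rfl
    · exact Commute.one_right _
    · exact mc.1 (sy.le hk))
  have sy' : IsSylIn 2 T (centralizer {t'}) := by
    have := sy.cj g
    rw [cj_centralizer_singleton, hg] at this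
    exact this.of_card_ge sy.isPGroup cen (Inv.Fz.card_cj g T).le
  have R2 : ∀ r ∈ T ⊓ W G (fixedBy Ω t), r = 1 ∨ r = t := by
    by_contra k
    push Not at k
    obtain ⟨w, hw, w2, -⟩ := exists_w1 (R := T ⊓ W G (fixedBy Ω t)) sy.isPGroup inf_le_left
      (fun g hg r hr => ⟨T.mul_mem (T.mul_mem hg hr.1) (T.inv_mem hg), conj_mem_W (TS hg) hr.2⟩) ht
      ⟨tT, tW⟩ (fun r hr r2 => un r hr.2 r2 (mc.1 (sy.le hr.1))) k
    have w3 : g * w * g⁻¹ * (g * w * g⁻¹) = t' := by rw [conj_mul, w2, hg]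
    generalize g * w * g⁻¹ = v at w3
    obtain ⟨c, hc, cT⟩ := sy'.exists_cj_le (pg_zpowers (w := v) (k := 2) (by
      rw [show 2 ^ 2 = 2 * 2 from rfl, pow_mul, pow_two v, w3, pow_two, o']))
      (zpowers_le.2 (mc.2 (w3 ▸ (Commute.refl v).mul_right (Commute.refl v))))
    obtain ⟨_, -, s, hs, -, e3⟩ := sq _ (cj_le_iff.1 cT _ (mem_zpowers v))
    rw [conj_mul, w3, (mc.1 hc).eq, mul_inv_cancel_right] at e3
    rcases un t' (e3 ▸ (W G _).mul_mem hs.2 hs.2) o' (mc.1 (sy.le T')) with k | k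
    exacts [one' k, n' k]
  refine ⟨t, t', q, A, ht, hd, fun dv => ?_, c', n', e ▸ mul_mem_sup ha ?_⟩
  · have c2 : Nat.card ↥(T ⊓ W G (fixedBy Ω t)) ≤ 2 := by
      rw [← ht, ← Nat.card_zpowers]
      refine card_le_of_le fun r hr => ?_
      rcases R2 r hr with rfl | rfl
      exacts [one_mem _, mem_zpowers _]
    have c3 := (hd.syl T TS sy.isPGroup).1
    rw [← card_mul_relIndex sy.le] at dv
    have := Nat.le_of_dvd Nat.card_pos ((Nat.Coprime.pow_left 5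
      ((Nat.Prime.coprime_iff_not_dvd Nat.prime_two).2 sy.not_dvd_relIndex)).dvd_of_dvd_mul_right dv)
    omega
  · rcases r1 with rfl | rfl
    exacts [one_mem _, mem_zpowers _]

end Cfsg.Agent.HKS
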