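import Mathlib
import Cfsg.Agent.HKS.Ctx
import Cfsg.Agent.HKS.LFA
import Cfsg.Agent.HKS.LFB
import Cfsg.Agent.HKS.SF
import Cfsg.Agent.FG.ClassCount
import Cfsg.Agent.CIT.Defs

/-! Piece B2: an involution of Ree type, fusion -/

set_option autoImplicit false

namespace Cfsg.Agent.HKS

open Subgroup MulAction Cfsg.Agent.TT Cfsg.Agent.Perm.TT Cfsg.Agent.Cl.L2
open Cfsg.Agent.KS (St)
open scoped MatrixGroups Pointwise commutatorElement

section Grp

open Cfsg.Agent.Inv.Fz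

variable {K : Type*} [Group K] [Finite K]

theorem b2_central {P : Subgroup K} (hP : IsPGroup 2 P) (hne : P ≠ ⊥) :
    ∃ z ∈ P, orderOf z = 2 ∧ ∀ g ∈ P, Commute g z := by
  have := (nontrivial_iff_ne_bot P).mpr hne
  have := hP.center_nontrivial
  obtain ⟨a, ha⟩ := exists_ne (1 : center P)
  obtain ⟨k, hk⟩ := hP a
  obtain ⟨n, hn⟩ := CIT.exists_pow_involution (a := (a : P)) (fun e => ha (Subtype.ext e)) hk
  refine ⟨((a : P) ^ n : P), ((a : P) ^ n).2, by rw [orderOf_coe, hn], fun y hy => ?_⟩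
  exact congrArg Subtype.val (mem_center_iff.mp (pow_mem a.2 n) ⟨y, hy⟩)

omit [Finite K] in
theorem b2_mem {A : Subgroup K} {t g : K} (ht : orderOf t = 2) (hc : ∀ a ∈ A, Commute a t)
    (hg : g ∈ A ⊔ zpowers t) : ∃ a ∈ A, g = a ∨ g = t * a := by
  have t2 := mul_self_two ht
  let E : Subgroup K :=
    { carrier := {g | ∃ a ∈ A, g = a ∨ g = t * a}
      one_mem' := ⟨1, one_mem _, Or.inl rfl⟩
      mul_mem' := by
        rintro _ _ ⟨a, ha, rfl | rfl⟩ ⟨b, hb, rfl | rfl⟩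
        · exact ⟨_, mul_mem ha hb, Or.inl rfl⟩
        · exact ⟨_, mul_mem ha hb, Or.inr (by rw [← mul_assoc, (hc _ ha).eq, mul_assoc])⟩
        · exact ⟨_, mul_mem ha hb, Or.inr (mul_assoc _ _ _)⟩
        · refine ⟨_, mul_mem ha hb, Or.inl ?_⟩
          rw [← (hc _ ha).eq, mul_assoc, ← mul_assoc t, t2, one_mul]
      inv_mem' := by
        rintro _ ⟨a, ha, rfl | rfl⟩
        · exact ⟨_, inv_mem ha, Or.inl rfl⟩
        · exact ⟨_, inv_mem ha, Or.inr (by rw [mul_inv_rev, inv_two ht, (hc _ (inv_mem ha)).eq])⟩ }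
  exact (sup_le (fun a ha => ⟨a, ha, Or.inl rfl⟩)
    (zpowers_le.2 ⟨1, one_mem _, Or.inr (mul_one t).symm⟩) : A ⊔ zpowers t ≤ E) hg

theorem b2_pair {α : Type*} (u v : α) : ({u, v} : Set α).ncard ≤ 2 :=
  (Set.ncard_insert_le _ _).trans (by rw [Set.ncard_singleton])

omit [Finite K] in
theorem b2_third {A : Subgroup K} (h8 : Nat.card A = 8) (u v : K) : ∃ b ∈ A, b ≠ u ∧ b ≠ v := by
  by_contra hn
  push Not at hn
  have h1 : (A : Set K) ⊆ {u, v} := fun b hb => by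
    by_cases e : b = u
    · exact Or.inl e
    · exact Or.inr (hn b hb e)
  have h2 := (Set.ncard_le_ncard h1).trans (b2_pair u v)
  rw [← Nat.card_coe_set_eq, SetLike.coe_sort_coe, h8] at h2
  omega

theorem b2_grp {A : Subgroup K} {t t' : K} (ht : orderOf t = 2) (h8 : Nat.card A = 8)
    (sq : ∀ a ∈ A, a * a = 1) (hc : ∀ a ∈ A, Commute a t) (tA : t ∉ A)
    (tr : ∀ a ∈ A, ∀ b ∈ A, a ≠ 1 → b ≠ 1 → ∃ σ, Commute σ t ∧ σ * a * σ⁻¹ = b)
    (h32 : ¬ 32 ∣ Nat.card (centralizer ({t} : Set K))) (hcj : IsConj t t') (hne : t' ≠ t)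
    (hE : t' ∈ A ⊔ zpowers t) : ES K ∨ ∃ P : Sylow 2 K, ∃ z ∈ A, z ≠ 1 ∧
      (∀ g ∈ (P : Subgroup K), Commute g z) ∧ t ∈ (P : Subgroup K) ∧ IsConj t (t * z) ∧
      ∃ a ∈ A, a ≠ 1 ∧ a ≠ z ∧ ∃ g ∈ (P : Subgroup K), g * t * g⁻¹ = t * a := by
  have t2 := mul_self_two ht
  have t1 := ne_one_two ht
  have memE := fun g => b2_mem (g := g) ht hc
  generalize hEd : A ⊔ zpowers t = E at hE memE
  have AE : A ≤ E := hEd ▸ le_sup_left
  have tE : t ∈ E := hEd ▸ mem_sup_right (mem_zpowers t)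
  have cE : Nat.card E = 16 := by
    rw [← card_mul_relIndex AE, h8, relIndex_eq_two_iff_exists_notMem_and'.2 ⟨t, tE, tA, ?_⟩]
    intro b hb
    obtain ⟨a, ha, rfl | rfl⟩ := memE b hb
    · exact Or.inr ha
    · left; rwa [← mul_assoc, t2, one_mul]
  have sqE : ∀ e ∈ E, e * e = 1 := fun e he => by
    obtain ⟨a, ha, rfl | rfl⟩ := memE e he
    · exact sq _ ha
    · rw [mul_assoc, ← mul_assoc a, (hc a ha).eq, mul_assoc, sq a ha, mul_one, t2]
  have cmE : ∀ e ∈ E, ∀ f ∈ E, e * f = f * e := fun e he f hf => by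
    rw [← inv_eq_of_mul_eq_one_right (sqE _ (mul_mem he hf)), mul_inv_rev,
      inv_eq_of_mul_eq_one_right (sqE e he), inv_eq_of_mul_eq_one_right (sqE f hf)]
  have pE : IsPGroup 2 E := .of_card (n := 4) cE
  have leC : ∀ d ∈ E, E ≤ centralizer {d} := fun d hd e he =>
    mem_centralizer_singleton_iff.2 (cmE e he d hd)
  have syl : ∀ d ∈ E, IsConj t d → IsSylIn 2 E (centralizer {d}) := fun d hd hdc => by
    refine isSylIn_of_not_dvd (leC d hd) pE fun h2 => h32 ?_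
    obtain ⟨g, rfl⟩ := isConj_iff.1 hdc
    rw [← Inv.Fz.card_cj g, cj_centralizer_singleton, ← card_mul_relIndex (leC _ hd), cE]
    exact mul_dvd_mul_left 16 h2
  have trans : ∀ d ∈ E, IsConj t d → ∃ g ∈ normalizer (E : Set K), g * t * g⁻¹ = d :=
    fun d hd hdc => by
      have h1 := syl d hd hdc
      obtain ⟨g, rfl⟩ := isConj_iff.1 hdc
      have h2 := (syl t tE (IsConj.refl t)).cj g
      rw [cj_centralizer_singleton] at h2
      obtain ⟨c, hc, e⟩ := h1.exists_cj_eq h2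
      refine ⟨c * g, cj_eq_iff.1 (by rw [← Inv.Fz.cj_cj, e]), ?_⟩
      rw [mul_inv_rev, ← mul_assoc, mul_assoc c, mul_assoc c,
        mem_centralizer_singleton_iff.1 hc, mul_inv_cancel_right]
  have fus : ∀ a ∈ A, ∀ b ∈ A, a ≠ 1 → b ≠ 1 → IsConj a b ∧ IsConj (t * a) (t * b) :=
    fun a ha b hb a1 b1 => by
      obtain ⟨σ, h1, e⟩ := tr a ha b hb a1 b1
      exact ⟨isConj_iff.2 ⟨σ, e⟩, isConj_iff.2 ⟨σ, by rw [← mul_assoc, h1.eq, ← e]; group⟩⟩
  obtain ⟨X, hX, EX⟩ := exists_isSylIn pE (le_normalizer (H := E))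
  obtain ⟨P, XP⟩ := hX.isPGroup.exists_le_sylow
  have EP := EX.trans XP
  by_cases PE : (P : Subgroup K) ≤ E
  · exact Or.inl ⟨P, fun g hg => sqE g (PE hg)⟩
  obtain ⟨z, zP, z2, zc⟩ := b2_central P.isPGroup' fun e => PE (e ▸ bot_le)
  have infE : ∀ Y : Subgroup K, IsPGroup 2 Y → E ≤ Y → centralizer {t} ⊓ Y = E := fun Y hY h1 =>
    (syl t tE (IsConj.refl t)).eq_of_le hY.to_inf_right inf_le_left (le_inf (leC t tE) h1)
  have zE : z ∈ E := infE _ P.isPGroup' EP ▸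
    ⟨mem_centralizer_singleton_iff.2 (zc t (EP tE)).symm, zP⟩
  have zD : ¬ IsConj t z := fun hz => PE ((syl z zE hz).eq_of_le P.isPGroup'
    (fun g hg => mem_centralizer_singleton_iff.2 (zc g hg)) EP).le
  have ne1 : ∀ d, IsConj t d → d ≠ 1 := fun d hd e => t1 (isConj_one_left.1 (e ▸ hd))
  obtain ⟨a₀, ha₀, rfl | rfl⟩ := memE z zE
  · have nA : ∀ b ∈ A, ¬ IsConj t b := fun b hb h1 =>
      zD (h1.trans (fus b hb z ha₀ (ne1 b h1) (ne_one_two z2)).1)
    have tD : ∀ b ∈ A, IsConj t (t * b) := fun b hb => by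
      by_cases b1 : b = 1
      · rw [b1, mul_one]
      obtain ⟨a, ha, rfl | rfl⟩ := memE t' hE
      · exact absurd hcj (nA _ ha)
      · exact hcj.trans (fus a ha b hb (fun e => hne (by rw [e, mul_one])) b1).2
    have orb : ∀ g ∈ normalizer (E : Set K), ∃ a ∈ A, g * t * g⁻¹ = t * a := fun g hg => by
      obtain ⟨a, ha, e | e⟩ := memE _ ((mem_normalizer_iff.1 hg t).1 tE)
      · exact absurd (isConj_iff.2 ⟨g, e⟩) (nA a ha)
      · exact ⟨a, ha, e⟩
    have h1 : (centralizer {t}).relIndex (normalizer (E : Set K)) = 8 := by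
      have : {y | ∃ h ∈ normalizer (E : Set K), h * t * h⁻¹ = y} = (fun a => t * a) '' A := by
        ext y
        constructor
        · rintro ⟨g, hg, rfl⟩
          obtain ⟨a, ha, e⟩ := orb g hg
          exact ⟨a, ha, e.symm⟩
        · rintro ⟨a, ha, rfl⟩
          exact trans _ (mul_mem tE (AE ha)) (tD a ha)
      rw [← FG.ncard_conj_orbit_subgroup, this, Set.ncard_image_of_injective _ (mul_right_injective t),
        ← Nat.card_coe_set_eq, SetLike.coe_sort_coe, h8]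
    have h2 : 2 ^ 7 ∣ Nat.card X := by
      have h3 : 2 ^ 7 ∣ Nat.card (normalizer (E : Set K)) := by
        rw [← card_mul_relIndex (inf_le_right (a := centralizer {t})), inf_relIndex_right, h1]
        exact mul_dvd_mul_right (cE ▸ card_dvd_of_le (le_inf (leC t tE) le_normalizer)) 8
      rw [← card_mul_relIndex hX.le] at h3
      exact (Nat.Coprime.pow_left 7 ((Nat.prime_two.coprime_iff_not_dvd).2
        hX.not_dvd_relIndex)).dvd_of_dvd_mul_right h3
    obtain ⟨g, hg, g1, g2⟩ : ∃ g ∈ X, g * t * g⁻¹ ≠ t ∧ g * t * g⁻¹ ≠ t * z := by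
      by_contra hn
      push Not at hn
      have h3 : {y | ∃ h ∈ X, h * t * h⁻¹ = y} ⊆ {t, t * z} := by
        rintro _ ⟨g, hg, rfl⟩
        by_cases e : g * t * g⁻¹ = t
        · exact Or.inl e
        · exact Or.inr (hn g hg e)
      have h4 := (Set.ncard_le_ncard h3).trans (b2_pair _ _)
      rw [FG.ncard_conj_orbit_subgroup] at h4
      have h5 := Nat.le_of_dvd Nat.card_pos h2
      rw [← card_mul_relIndex (inf_le_right (a := centralizer {t})), inf_relIndex_right,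
        infE X hX.isPGroup EX, cE] at h5
      omega
    obtain ⟨a, ha, e⟩ := orb g (hX.le hg)
    exact Or.inr ⟨P, z, ha₀, ne_one_two z2, zc, EP tE, tD z ha₀, a, ha,
      fun e' => g1 (by rw [e, e', mul_one]), fun e' => g2 (by rw [e, e']), g, XP hg, e⟩
  · exfalso
    have nA : ∀ b ∈ A, b ≠ 1 → ¬ IsConj t (t * b) := fun b hb b1 h1 =>
      zD (h1.trans (fus b hb a₀ ha₀ b1 fun e => zD (by rw [e, mul_one])).2)
    obtain ⟨a, ha, rfl | rfl⟩ := memE t' hE
    swap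
    · exact nA a ha (fun e => hne (by rw [e, mul_one])) hcj
    have aD : ∀ b ∈ A, b ≠ 1 → IsConj t b := fun b hb b1 =>
      hcj.trans (fus _ ha b hb (ne1 _ hcj) b1).1
    obtain ⟨g, hg, e⟩ := trans _ hE hcj
    have key : ∀ b ∈ A, b ≠ 1 → g * b * g⁻¹ = t := fun b hb b1 => by
      obtain ⟨c, hc', e' | e'⟩ := memE _ ((mem_normalizer_iff.1 hg b).1 (AE hb))
      · have e2 : g * (t * b) * g⁻¹ = t' * c := by rw [← e, ← e']; group
        have n1 : t' * c ≠ 1 := fun e3 => tA (by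
          rw [e3, conj_eq_one_iff, mul_eq_one_iff_eq_inv] at e2
          exact e2 ▸ inv_mem hb)
        exact absurd ((aD _ (mul_mem ha hc') n1).trans (isConj_iff.2 ⟨g, e2⟩).symm) (nA b hb b1)
      · by_cases c1 : c = 1
        · rw [e', c1, mul_one]
        · exact absurd ((aD b hb b1).trans (isConj_iff.2 ⟨g, e'⟩)) (nA c hc' c1)
    obtain ⟨b, hb, b1, b2⟩ := b2_third h8 1 t'
    have := (key b hb b1).trans (key _ ha (ne1 _ hcj)).symm
    exact b2 (by simpa using this)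

end Grp

variable {G Ω : Type*} [Group G] [MulAction G Ω] [Finite G] [Finite Ω] {S : Sp G Ω}
  {Δ Δ' : Set Ω} {x y : Ω}

theorem Sp.Ctx.b2 (h : S.Ctx) (hU : S.NoU) {t t' : G} {q : ℕ} {A : Subgroup G}
    (ht : orderOf t = 2) (hR : S.DR (fixedBy Ω t) q A)
    (h32 : ¬ 32 ∣ Nat.card (centralizer ({t} : Set G))) (hc : IsConj t t') (hne : t' ≠ t)
    (hE : t' ∈ A ⊔ zpowers t) : ES G := by
  have h8 := hR.card8
  have q8 := hR.q8
  have hΔ : (fixedBy Ω t).Nontrivial := by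
    rw [← Set.one_lt_ncard_iff_nontrivial]; omega
  have Lt : ∀ l ∈ S.L (fixedBy Ω t), Commute l t := fun l hl => commute_L_W hΔ hl (self_mem_W t)
  have nW : ∀ a ∈ A, a ≠ 1 → a ∉ W G (fixedBy Ω t) := fun a ha a1 hw => by
    have h1 := orderOf_dvd_natCard (S.L (fixedBy Ω t) ⊓ W G (fixedBy Ω t)) ⟨hR.le ha, hw⟩
    rw [two_of (hR.sq a ha) a1] at h1
    exact Nat.not_even_iff_odd.2 hR.odd (even_iff_two_dvd.2 h1)
  rcases b2_grp ht hR.card hR.sq (fun a ha => Lt a (hR.le ha))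
    (fun e => nW t e (ne_one_two ht) (self_mem_W t))
    (fun a ha b hb a1 b1 => by
      obtain ⟨σ, h1, -, e⟩ := hR.tr a ha b hb a1 b1
      exact ⟨σ, Lt σ h1, e⟩) h32 hc hne hE with hes | ⟨P, z, zA, z1, zc, tP, tz, a, aA, a1, az, g, gP, e⟩
  · exact hes
  exfalso
  have z2 := two_of (hR.sq z zA) z1
  have zt := Lt z (hR.le zA)
  have hΓ := hR.fix z (mem_St_fix zt) (by rw [hR.sq z zA]; exact one_mem _) (nW z zA z1)
  have hΓ' : (fixedBy Ω z ∩ fixedBy Ω t).ncard = q + 1 := by rw [Set.inter_comm, hΓ]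
  obtain ⟨c, ct, cz⟩ : (fixedBy Ω t ∩ fixedBy Ω z).Nonempty := by
    rw [← Set.ncard_pos]; omega
  have PS : (P : Subgroup G) ≤ St G (fixedBy Ω z) := fun g hg => mem_St_fix (zc g hg)
  have aW : a ∉ W G (fixedBy Ω z) := fun hw =>
    hR.four z zA a aA z1 a1 az.symm c ct cz (mem_W.1 hw c cz)
  have tW : t ∉ W G (fixedBy Ω z) := fun hw => aW (by
    have := mul_mem (inv_mem hw) (conj_mem_W (PS gP) hw)
    rwa [e, inv_mul_cancel_left] at this)
  have t2 : t * t ∈ W G (fixedBy Ω z) := by rw [mul_self_two ht]; exact one_mem _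
  have hle := Set.ncard_le_ncard (Set.inter_subset_left (s := fixedBy Ω z) (t := fixedBy Ω t))
  rcases h.ty_fix z2 (by omega) with ⟨-, N, hN⟩ | hL | ⟨q', hq⟩ | ⟨q', A', hR'⟩
  · rcases hN.tri (PS tP) t2 cz ct with e1 | e1
    · exact tW e1
    obtain ⟨d, -, hd⟩ := hN.pow
    rw [hΓ', hd] at e1
    obtain ⟨k, -, hk⟩ := (Nat.dvd_prime_pow Nat.prime_two).1
      (show q + 1 ∣ 2 ^ d from e1 ▸ dvd_pow_self _ two_ne_zero)
    have q3 : q = 3 := by
      rcases Nat.lt_or_ge k 3 with h1 | h1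
      · interval_cases k <;> omega
      · have := pow_dvd_pow 2 h1
        omega
    subst q3
    obtain ⟨y, hV⟩ := h.exists_V4 ht z2 zt.symm (fun e => nW z zA z1 (e ▸ self_mem_W t)) ct cz
    have hw := S.wielandt h.even hV
    rw [hΓ, ncard_fix_isConj tz, hR.three rfl, hd, ← e1] at hw
    have hn : Nat.card Ω = 1216 := by omega
    obtain ⟨c', -, h1⟩ := big_stab P.isPGroup' PS (j := 4) (by rw [hd, ← e1]; decide)
    obtain ⟨m, hm⟩ := (P.isPGroup'.to_inf_left (K := stabilizer G c')).exists_card_eq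
    have := h.two.isPretransitive
    have h2 : 2 ^ (m + 6) ∣ Nat.card G := by
      rw [← (stabilizer G c').card_mul_index, index_stabilizer_of_transitive, hn, pow_add]
      exact mul_dvd_mul (hm ▸ card_dvd_of_le inf_le_right) (by decide)
    have h3 := Nat.le_of_dvd Nat.card_pos (P.pow_dvd_card_of_pow_dvd_card h2)
    rw [hm] at h1
    have := Nat.two_pow_pos m
    rw [pow_add] at h3
    omega
  · rcases (h.lt hL).tri (PS tP) t2 cz ct with e1 | ⟨e1, -⟩ | ⟨r, -, e1, e2⟩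
    · exact tW e1
    · omega
    · have p1 := h.par ht
      have p2 := h.par z2
      obtain rfl : r = q := by omega
      obtain ⟨k, rfl⟩ : ∃ k, r = 8 * k + 3 := ⟨r / 8, by omega⟩
      have : (8 * k + 3) ^ 2 + 1 = 4 * (16 * k ^ 2 + 12 * k + 2) + 2 := by ring
      omega
  · exact hU z z2 q' hq
  · have := (hR'.syl _ PS P.isPGroup').2 g gP t tP
    rw [e, ← (Lt a (hR.le aA)).eq, mul_inv_cancel_right] at this
    exact aW this

end Cfsg.Agent.HKS
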