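import Mathlib
import Cfsg.Agent.HKS.Ctx
import Cfsg.Agent.HKS.LFA
import Cfsg.Agent.HKS.LFB
import Cfsg.Agent.HKS.SF

/-! Piece C1a: solvable type, first numerical case -/

set_option autoImplicit false

namespace Cfsg.Agent.HKS

open Subgroup MulAction Cfsg.Agent.TT Cfsg.Agent.Perm.TT Cfsg.Agent.Cl.L2
open Cfsg.Agent.KS (St)
open scoped MatrixGroups Pointwise commutatorElement

variable {G Ω : Type*} [Group G] [MulAction G Ω] [Finite G] [Finite Ω] {S : Sp G Ω}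
  {Δ Δ' : Set Ω} {x y : Ω}

namespace C1a

omit [Finite G] in
theorem sq {t : G} (ht : orderOf t = 2) : t * t = 1 := by rw [← pow_two, ← ht, pow_orderOf_eq_one]

omit [Finite G] in
theorem ord {t : G} (h : t * t = 1) (h1 : t ≠ 1) : orderOf t = 2 := orderOf_eq_prime (by rw [pow_two, h]) h1

theorem sq_mod (r : ℕ) : (r ^ 2 + 1) % 4 ≠ 0 := by
  have : r % 4 < 4 := Nat.mod_lt _ (by norm_num)
  rw [Nat.add_mod, Nat.pow_mod]
  interval_cases r % 4 <;> norm_num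

theorem card_conj {a b : G} (h : IsConj a b) : (fixedBy Ω b).ncard = (fixedBy Ω a).ncard := by
  obtain ⟨g, rfl⟩ := isConj_iff.1 h
  rw [fix_conj, Set.ncard_smul_set]

theorem eq_pow {m d : ℕ} (h : m ^ 2 = 2 ^ d) : ∃ e, m = 2 ^ e :=
  let ⟨e, _, h⟩ := (Nat.dvd_prime_pow Nat.prime_two).1 (h ▸ Dvd.intro_left m (pow_two m).symm : m ∣ 2 ^ d)
  ⟨e, h⟩

theorem four_le {m d : ℕ} (h : m ^ 2 = 2 ^ d) (h8 : 8 ≤ m ^ 2) : 4 ≤ m ∧ Even m := by
  obtain ⟨e, rfl⟩ := eq_pow h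
  rcases e with _ | _ | e
  · norm_num at h8
  · norm_num at h8
  · have := Nat.one_le_two_pow (n := e)
    refine ⟨by rw [pow_succ, pow_succ]; omega, ⟨2 ^ (e + 1), by ring⟩⟩

theorem two_part {e f A B : ℕ} (hA : Odd A) (hB : Odd B) (h : 2 ^ e * A = 2 ^ f * B) : e = f := by
  have k : ∀ {e f A B : ℕ}, Odd B → 2 ^ e * A = 2 ^ f * B → e ≤ f := fun hB h =>
    (Nat.pow_dvd_pow_iff_le_right one_lt_two).1
      ((Nat.Coprime.pow_left _ (Nat.coprime_two_left.2 hB)).dvd_of_dvd_mul_right ⟨_, h.symm⟩)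
  exact le_antisymm (k hB h) (k hA h.symm)

theorem not_pp {m p f : ℕ} (h4 : 4 ≤ m) (he : Even m) (hp : p.Prime) : (m + 1) ^ 2 * (m - 1) ≠ p ^ f := by
  intro h
  have k : ∀ a, 1 < a → a ∣ p ^ f → p ∣ a := fun a h1 h2 => by
    obtain ⟨i, -, rfl⟩ := (Nat.dvd_prime_pow hp).1 h2
    exact dvd_pow_self p (by rintro rfl; simp at h1)
  have h1 := k (m + 1) (by omega) (h ▸ (dvd_pow_self _ two_ne_zero).mul_right _)
  have h2 := k (m - 1) (by omega) (h ▸ dvd_mul_left _ _)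
  have h3 : p ∣ 2 := by
    have := Nat.dvd_sub h1 h2
    rwa [show m + 1 - (m - 1) = 2 by omega] at this
  rw [(Nat.prime_dvd_prime_iff_eq hp Nat.prime_two).1 h3] at h1
  obtain ⟨k, rfl⟩ := he
  omega

theorem arith {e s : ℕ} (he : 4 ≤ 2 ^ e) (hs : 4 ≤ 2 ^ s) :
    (2 ^ e + 1) ^ 2 * (2 ^ e - 1) ≠ (2 ^ s + 1) ^ 3 * (2 ^ s - 1) := by
  intro h
  obtain ⟨e, rfl⟩ : ∃ k, e = k + 1 := ⟨e - 1, by rcases e with _ | e <;> simp at he ⊢⟩
  obtain ⟨s, rfl⟩ : ∃ k, s = k + 1 := ⟨s - 1, by rcases s with _ | s <;> simp at hs ⊢⟩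
  obtain ⟨a, ha⟩ : ∃ a, 2 ^ e = a + 1 := ⟨2 ^ e - 1, by have := Nat.one_le_two_pow (n := e); omega⟩
  obtain ⟨b, hb⟩ : ∃ b, 2 ^ s = b + 1 := ⟨2 ^ s - 1, by have := Nat.one_le_two_pow (n := s); omega⟩
  have h1 : 2 ^ (e + 1) * (2 * (2 * a ^ 2 + 5 * a + 2) + 1) =
      2 ^ (s + 2) * (2 * (2 * b ^ 3 + 8 * b ^ 2 + 10 * b + 3) + 1) := by
    rw [pow_succ 2 e, pow_succ 2 s, ha, hb, show (a + 1) * 2 - 1 = 2 * a + 1 by omega,
      show (b + 1) * 2 - 1 = 2 * b + 1 by omega] at h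
    rw [pow_succ 2 (s + 1), pow_succ 2 e, pow_succ 2 s, ha, hb]
    linarith
  have h2 := two_part ⟨_, rfl⟩ ⟨_, rfl⟩ h1
  obtain rfl : e = s + 1 := by omega
  have h3 := Nat.eq_of_mul_eq_mul_left (by positivity) h1
  rw [pow_succ, hb] at ha hs
  obtain rfl : a = 2 * b + 1 := by omega
  have h4 : (b + 1) * (b + 1) * (b + 1) = (b + 1) * (3 * (b + 1) + 1) := by linarith
  rw [mul_assoc] at h4
  have h5 := Nat.eq_of_mul_eq_mul_left (by omega) h4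
  have h6 : b + 1 ∣ 1 := (Nat.dvd_add_right (dvd_mul_left _ _)).1 (h5 ▸ dvd_mul_left _ _)
  have := Nat.le_of_dvd one_pos h6
  omega

omit [Finite G] in
theorem exists_two {K : Subgroup G} (h : 4 ≤ Nat.card K) : ∃ a ∈ K, ∃ b ∈ K, a ≠ 1 ∧ b ≠ 1 ∧ a ≠ b := by
  classical
  by_contra! k
  have : Finite K := Nat.finite_of_card_ne_zero (by omega)
  have : Nontrivial K := Finite.one_lt_card_iff_nontrivial.1 (by omega)
  obtain ⟨a, ha⟩ := exists_ne (1 : K)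
  have h1 : (Set.univ : Set K) ⊆ {1, a} := fun b _ => (em (b = 1)).imp id fun hb =>
    Subtype.ext (k b b.2 a a.2 (fun e => hb (Subtype.ext e)) fun e => ha (Subtype.ext e))
  have h2 := (Set.ncard_le_ncard h1).trans (Set.ncard_insert_le _ _)
  rw [Set.ncard_univ, Set.ncard_singleton] at h2
  omega

end C1a

open C1a

theorem Sp.Ctx.cs_r1 (h : S.Ctx) {Q : ℕ} (hc : S.CS Q) {t : G} (ht : orderOf t = 2)
    (hne : (fixedBy Ω t).Nonempty) (hQ : Q ≤ (fixedBy Ω t).ncard) :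
    ∀ w ∈ W G (fixedBy Ω t), w * w = 1 → Commute w t → w = 1 ∨ w = t := by
  intro w hw h2 hcm
  by_contra! k
  obtain ⟨x, hx⟩ := hne
  have w2 := ord h2 k.1
  have sub : fixedBy Ω t ⊆ fixedBy Ω w := mem_W.1 hw
  obtain ⟨y, hV⟩ := h.exists_V4 ht w2 hcm.symm k.2.symm hx (sub hx)
  have lt : (fixedBy Ω t).ncard < (fixedBy Ω w).ncard := not_le.1 fun e => h.rank1 hV sub (Or.inl e)
  have p1 := h.par ht
  have p2 := h.par w2
  rw [hc.n4] at p1 p2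
  rcases hc.ty w w2 ⟨x, sub hx⟩ with ⟨-, h3, -⟩ | h3
  · omega
  rcases (h.lt h3).tri (mem_St_fix hcm.symm) (by rw [sq ht]; exact one_mem _) (sub hx) hx with
    h4 | ⟨h4, -⟩ | ⟨r, -, h4, -⟩
  · exact lt.not_ge (Set.ncard_le_ncard (mem_W.1 h4))
  · rw [Set.inter_eq_right.2 sub] at h4
    omega
  · exact sq_mod r (h4 ▸ p2.symm)

/-- A four-group with a fixed point all of whose involutions are conjugate. -/
theorem Sp.Ctx.cs_four (h : S.Ctx) {Q : ℕ} (hc : S.CS Q) {a b : G} (hV : V4 x y a b)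
    (h1 : IsConj a b) (h2 : IsConj a (a * b)) :
    (∃ p f : ℕ, p.Prime ∧ Nat.card Ω - 1 = p ^ f) ∨ ∃ r : ℕ, 4 ≤ r ∧ Even r ∧
      (fixedBy Ω a).ncard = r ^ 2 ∧ Nat.card Ω - 1 = (r + 1) ^ 3 * (r - 1) ∧
        ∃ N, S.DS (fixedBy Ω a) N := by
  have nW : b ∉ W G (fixedBy Ω a) := fun e => h.rank1 hV (mem_W.1 e) (Or.inl (card_conj h1).le)
  have w := S.wielandt h.even hV
  rw [card_conj h1, card_conj h2] at w
  have st : b ∈ St G (fixedBy Ω a) := mem_St_fix hV.comm.symm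
  have b2 : b * b ∈ W G (fixedBy Ω a) := by rw [sq hV.s2]; exact one_mem _
  rcases hc.ty a hV.t2 ⟨x, hV.tx⟩ with ⟨h8, -, N, hN⟩ | h3
  · have h4 := (hN.tri st b2 hV.tx hV.sx).resolve_left nW
    obtain ⟨d, -, hd⟩ := hN.pow
    generalize (fixedBy Ω a ∩ fixedBy Ω b).ncard = r at h4 w
    obtain ⟨r4, re⟩ := four_le (h4.trans hd) (h4 ▸ h8)
    refine Or.inr ⟨r, r4, re, h4.symm, ?_, N, hN⟩
    obtain ⟨k, rfl⟩ : ∃ k, r = k + 1 := ⟨r - 1, by omega⟩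
    rw [← h4, show (k + 1) ^ 2 - 1 = k * (k + 2) by rw [Nat.sub_eq_iff_eq_add (Nat.one_le_pow _ _ (by omega))]; ring,
      Nat.add_sub_cancel] at w
    refine Nat.eq_of_mul_eq_mul_right (pow_pos (show 0 < k by omega) 2) ?_
    rw [w, Nat.add_sub_cancel]; ring
  · have p := h.par hV.t2
    rw [hc.n4] at p
    rcases ((h.lt h3).tri st b2 hV.tx hV.sx).resolve_left nW with ⟨h4, -⟩ | ⟨r, -, h4, -⟩
    · obtain ⟨p, f, hp, -, -, e, -⟩ := (h.lt h3).pp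
      rw [h4, e] at w
      refine Or.inl ⟨p, f + f + f, hp, ?_⟩
      simpa [pow_add] using w
    · exact absurd (h4 ▸ p.symm) (sq_mod r)

theorem Sp.Ctx.c1a (h : S.Ctx) {m : ℕ} (hc : S.CS (m ^ 2)) {t : G} {N : Subgroup G}
    (hd : S.DS (fixedBy Ω t) N) (hm : (fixedBy Ω t).ncard = m ^ 2) (h4 : 4 ≤ m)
    (hn : Nat.card Ω - 1 = (m + 1) ^ 2 * (m - 1)) : False := by
  obtain ⟨d, -, hd2⟩ := hd.pow
  obtain ⟨e, he⟩ := eq_pow (hm.symm.trans hd2)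
  have ev : Even m := (four_le (hm.symm.trans hd2) (by nlinarith)).2
  obtain ⟨c, -, h1⟩ := big_stab (Δ := (Set.univ : Set Ω)) (IsPGroup.of_card (hd.card.trans hd2))
    (fun _ _ _ => by simp) (j := e) (by
      obtain ⟨k, hk⟩ := ev
      obtain ⟨k, rfl⟩ : ∃ j, k = j + 1 := ⟨k - 1, by omega⟩
      have h2 : Nat.card Ω = m * (2 * (2 * k ^ 2 + 5 * k + 2) + 1) := by
        have := h.four
        rw [hk, show k + 1 + (k + 1) - 1 = 2 * k + 1 by omega, Nat.sub_eq_iff_eq_add (by omega)] at hn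
        rw [hn, hk]; ring
      rw [Set.ncard_univ, h2, he, pow_succ, Nat.mul_dvd_mul_iff_left (by positivity)]
      omega)
  rw [hd.card, hm, ← he, pow_two] at h1
  obtain ⟨a, ha, b, hb, a1, b1, ab⟩ := exists_two (h4.trans (Nat.le_of_mul_le_mul_left h1 (by omega)))
  obtain ⟨y, hV⟩ := h.exists_V4 (ord (hd.sq a ha.1) a1) (ord (hd.sq b hb.1) b1) (hd.sf_comm ha.1 hb.1) ab ha.2 hb.2
  obtain ⟨z, hz, -⟩ := hd.sf_nt
  have cj : ∀ u ∈ N, u ≠ 1 → IsConj a u := fun u hu u1 =>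
    let ⟨v, _, e⟩ := hd.conjN hz ha.1 hu a1 u1
    isConj_iff.2 ⟨v, e⟩
  rcases h.cs_four hc hV (cj b hb.1 b1) (cj _ (mul_mem ha.1 hb.1) fun e => by
    have := hV.mul.s2
    rw [e, orderOf_one] at this
    omega) with ⟨p, f, hp, e1⟩ | ⟨r, r4, -, e1, e2, N', hN'⟩
  · exact not_pp h4 ev hp (hn.symm.trans e1)
  · obtain ⟨d', -, hd'⟩ := hN'.pow
    obtain ⟨s, rfl⟩ := eq_pow (e1.symm.trans hd')
    subst he
    exact arith h4 r4 (hn.symm.trans e2)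

end Cfsg.Agent.HKS
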