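import Mathlib
import Cfsg.Agent.HKS.C1a

/-! Piece C1b: solvable type, second numerical case -/

set_option autoImplicit false

namespace Cfsg.Agent.HKS

open Subgroup MulAction Cfsg.Agent.TT Cfsg.Agent.Perm.TT Cfsg.Agent.Cl.L2
open Cfsg.Agent.KS (St)
open scoped MatrixGroups Pointwise commutatorElement

variable {G Ω : Type*} [Group G] [MulAction G Ω] [Finite G] [Finite Ω] {S : Sp G Ω}
  {Δ Δ' : Set Ω} {x y : Ω}

namespace C1b

theorem two_el {K : Subgroup G} (h : 2 < Nat.card K) :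
    ∃ a ∈ K, ∃ b ∈ K, a ≠ 1 ∧ b ≠ 1 ∧ a ≠ b := by
  classical
  by_contra hn
  push Not at hn
  by_cases h1 : ∃ a ∈ K, a ≠ 1
  · obtain ⟨a, ha, a1⟩ := h1
    have hs : (K : Set G) ⊆ {1, a} := by
      intro b hb
      by_cases b1 : b = 1
      · exact Or.inl b1
      · exact Or.inr (hn a ha b hb a1 b1).symm
    have h2 := Set.ncard_le_ncard hs
    have h3 : ({1, a} : Set G).ncard ≤ 2 := by
      rw [Set.ncard_pair (Ne.symm a1)]
    have h4 : Nat.card K = (K : Set G).ncard := (Nat.card_coe_set_eq (K : Set G))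
    omega
  · push Not at h1
    have : K = ⊥ := (eq_bot_iff_forall K).2 h1
    rw [this, card_bot] at h
    omega

theorem card_le_two {K : Subgroup G} {a : G} (h : ∀ b ∈ K, b = 1 ∨ b = a) : Nat.card K ≤ 2 := by
  by_contra hn
  obtain ⟨b, hb, c, hc, b1, c1, bc⟩ := two_el (K := K) (by omega)
  rcases h b hb with e | e
  · exact b1 e
  rcases h c hc with e' | e'
  · exact c1 e'
  exact bc (e.trans e'.symm)

theorem ord2 {a : G} (h : a * a = 1) (h1 : a ≠ 1) : orderOf a = 2 :=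
  orderOf_eq_prime (by rw [pow_two, h]) h1

/-- The group `N⟨t⟩`. -/
def EE (N : Subgroup G) (t : G) (ht : t * t = 1) (hc : ∀ n ∈ N, Commute n t) : Subgroup G where
  carrier := {g | g ∈ N ∨ g * t ∈ N}
  one_mem' := Or.inl N.one_mem
  mul_mem' := by
    have key : ∀ g, g * t ∈ N → Commute g t := fun g hg => by
      have h1 := hc _ hg
      have : g = g * t * t := by rw [mul_assoc, ht, mul_one]
      rw [this]
      exact h1.mul_left (Commute.refl t)
    rintro a b (ha | ha) (hb | hb)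
    · exact Or.inl (N.mul_mem ha hb)
    · exact Or.inr (by rw [mul_assoc]; exact N.mul_mem ha hb)
    · refine Or.inr ?_
      have : a * b * t = a * t * b := by rw [mul_assoc, (hc b hb).eq, mul_assoc]
      rw [this]; exact N.mul_mem ha hb
    · refine Or.inl ?_
      have : a * b = a * t * (b * t) := by
        rw [(key b hb).eq, mul_assoc, ← mul_assoc t, ht, one_mul]
      rw [this]; exact N.mul_mem ha hb
  inv_mem' := by
    have key : ∀ g, g * t ∈ N → Commute g t := fun g hg => by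
      have h1 := hc _ hg
      have : g = g * t * t := by rw [mul_assoc, ht, mul_one]
      rw [this]
      exact h1.mul_left (Commute.refl t)
    rintro a (ha | ha)
    · exact Or.inl (N.inv_mem ha)
    · refine Or.inr ?_
      have h1 : t⁻¹ = t := inv_eq_of_mul_eq_one_right ht
      have : a⁻¹ * t = (a * t)⁻¹ := by
        rw [(key a ha).eq, mul_inv_rev, h1]
      rw [this]; exact N.inv_mem ha

theorem not_pp {m p f : ℕ} (h4 : 4 ≤ m) (he : 2 ∣ m) (hp : p.Prime)
    (e : (m + 1) ^ 3 * (m - 1) = p ^ f) : False := by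
  have h1 : m + 1 ∣ p ^ f := e ▸ Dvd.dvd.mul_right (dvd_pow_self _ (by norm_num)) _
  have h2 : m - 1 ∣ p ^ f := e ▸ Dvd.intro_left _ rfl
  obtain ⟨i, -, hi⟩ := (Nat.dvd_prime_pow hp).1 h1
  obtain ⟨j, -, hj⟩ := (Nat.dvd_prime_pow hp).1 h2
  have i0 : i ≠ 0 := by rintro rfl; simp at hi; omega
  have j0 : j ≠ 0 := by rintro rfl; simp at hj; omega
  have d1 : p ∣ m + 1 := hi ▸ dvd_pow_self p i0
  have d2 : p ∣ m - 1 := hj ▸ dvd_pow_self p j0
  have d3 : p ∣ 2 := by
    have := Nat.dvd_sub d1 d2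
    rwa [show m + 1 - (m - 1) = 2 by omega] at this
  have : p = 2 := (Nat.prime_dvd_prime_iff_eq hp Nat.prime_two).1 d3
  subst this
  omega

theorem mono {m r : ℕ} (h4 : 4 ≤ m) (h4' : 4 ≤ r)
    (e : (m + 1) ^ 3 * (m - 1) = (r + 1) ^ 3 * (r - 1)) : r = m := by
  have key : ∀ a b : ℕ, 4 ≤ a → a < b → (a + 1) ^ 3 * (a - 1) < (b + 1) ^ 3 * (b - 1) := by
    intro a b ha hab
    exact Nat.mul_lt_mul'' (Nat.pow_lt_pow_left (by omega) (by norm_num)) (by omega)
  rcases lt_trichotomy r m with h | h | h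
  · have := key r m h4' h; omega
  · exact h
  · have := key m r h4 h; omega

theorem not_dvd {m e n : ℕ} (he : m = 2 ^ e) (h4 : 4 ≤ m) (hn : n - 1 = (m + 1) ^ 3 * (m - 1))
    (h1 : 1 ≤ n) : ¬ 2 ^ (e + 1 + 1) ∣ n := by
  have e0 : e ≠ 0 := by rintro rfl; simp at he; omega
  have h2 : 2 ∣ m := he ▸ dvd_pow_self 2 e0
  obtain ⟨k, hk⟩ := h2
  obtain ⟨j, rfl⟩ : ∃ j, k = j + 1 := ⟨k - 1, by omega⟩
  have h3 : m - 1 = 2 * j + 1 := by omega
  have h5 : n = m * 2 * (2 * (2 * j ^ 3 + 8 * j ^ 2 + 10 * j + 3) + 1) := by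
    have : n = (m + 1) ^ 3 * (m - 1) + 1 := by omega
    rw [this, h3, hk]; ring
  rw [pow_succ, pow_succ, ← he, h5]
  intro hd
  have := Nat.dvd_of_mul_dvd_mul_left (by omega) hd
  omega

end C1b

open C1b in
/-- The final contradiction. -/
theorem Sp.Ctx.c1b_end (h : S.Ctx) {m : ℕ} (hc : S.CS (m ^ 2)) (h4 : 4 ≤ m) {E N' : Subgroup G}
    (h2 : ∀ e ∈ E, e * e = 1) (hE : 2 * m ^ 2 ≤ Nat.card E) {a b : G} (ha : a ∈ E) (hb : b ∈ E)
    (a1 : a ≠ 1) (b1 : b ≠ 1) (ab : a ≠ b) {c : Ω} (ac : a • c = c) (bc : b • c = c)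
    (hd : S.DS (fixedBy Ω a) N') (hm : (fixedBy Ω a).ncard = m ^ 2) : False := by
  have comm : ∀ e ∈ E, ∀ e' ∈ E, Commute e e' := fun e he e' he' => by
    have i1 : e⁻¹ = e := inv_eq_of_mul_eq_one_right (h2 e he)
    have i2 : e'⁻¹ = e' := inv_eq_of_mul_eq_one_right (h2 e' he')
    have i3 : (e * e')⁻¹ = e * e' := inv_eq_of_mul_eq_one_right (h2 _ (E.mul_mem he he'))
    rw [mul_inv_rev, i1, i2] at i3
    exact i3.symm
  have r1 := h.cs_r1 hc (ord2 (h2 a ha) a1) ⟨c, ac⟩ hm.ge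
  have hle : Nat.card ↥(E ⊓ W G (fixedBy Ω a)) ≤ 2 :=
    card_le_two (a := a) fun w hw => r1 w hw.2 (h2 w hw.1) (comm w hw.1 a ha)
  have h8 : 8 ≤ (fixedBy Ω a).ncard := by rw [hm]; nlinarith
  obtain ⟨n, hn, w, hw, e⟩ := hd.big h8 (E := E) (fun g hg => mem_St_fix (comm g hg a ha)) h2
    (by rw [hm]; nlinarith) hb
  have wc : w • c = c := mem_W.1 hw c ac
  have n1 : n = 1 := hd.free n hn c ac (by rw [e, mul_smul, wc] at bc; exact bc)
  rw [n1, one_mul] at e
  rcases r1 b (e ▸ hw) (h2 b hb) (comm b hb a ha) with e1 | e1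
  · exact b1 e1
  · exact ab e1.symm

open C1b in
/-- A four-group inside `N` with a fixed point. -/
theorem Sp.Ctx.c1b_N (h : S.Ctx) {m : ℕ} (hc : S.CS (m ^ 2)) {N : Subgroup G}
    (hd : S.DS Δ N) (h4 : 4 ≤ m) (he : 2 ∣ m) (hn : Nat.card Ω - 1 = (m + 1) ^ 3 * (m - 1))
    {a b : G} (ha : a ∈ N) (hb : b ∈ N) (a1 : a ≠ 1) (b1 : b ≠ 1) (ab : a ≠ b) {c : Ω}
    (ac : a • c = c) (bc : b • c = c) :
    (fixedBy Ω a).ncard = m ^ 2 ∧ ∃ N', S.DS (fixedBy Ω a) N' := by
  obtain ⟨y, hV⟩ := h.exists_V4 (ord2 (hd.sq a ha) a1) (ord2 (hd.sq b hb) b1) (hd.sf_comm ha hb)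
    ab ac bc
  obtain ⟨z, hz, -⟩ := hd.sf_nt
  have ab1 : a * b ≠ 1 := fun e => ab (by
    have := eq_inv_of_mul_eq_one_left e
    rwa [hd.sf_inv hb] at this)
  obtain ⟨u, -, hu⟩ := hd.conjN hz ha hb a1 b1
  obtain ⟨v, -, hv⟩ := hd.conjN hz ha (N.mul_mem ha hb) a1 ab1
  rcases h.cs_four hc hV (isConj_iff.2 ⟨u, hu⟩) (isConj_iff.2 ⟨v, hv⟩) with
    ⟨p, f, hp, e⟩ | ⟨r, r4, -, hr, e, hN⟩
  · exact (not_pp h4 he hp (hn.symm.trans e)).elim
  · obtain rfl := mono h4 r4 (hn.symm.trans e)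
    exact ⟨hr, hN⟩

/-- Degree 376: an involution with a fixed point has 4 or 16 fixed points. -/
theorem Sp.Ctx.c1b_376 (h : S.Ctx) (hc : S.CS (4 ^ 2)) (hn : Nat.card Ω - 1 = 375) {a : G}
    (h2 : orderOf a = 2) {c : Ω} (ac : a • c = c) :
    (fixedBy Ω a).ncard = 4 ∨
      ((fixedBy Ω a).ncard = 16 ∧ ∃ N', S.DS (fixedBy Ω a) N') := by
  obtain ⟨y, hy, ay⟩ := h.two_le h2 ac
  have hnt : (fixedBy Ω a).Nontrivial := ⟨y, ay, c, ac, hy⟩
  have hdv := (Sp.cl_fix (S := S) a).pred_dvd Sp.cl_univ hnt (Set.subset_univ _)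
  rw [Set.ncard_univ, hn] at hdv
  have hp := h.par h2
  rw [hc.n4] at hp
  rcases hc.ty a h2 ⟨c, ac⟩ with ⟨h8, h16, N', hd⟩ | hL
  · refine Or.inr ⟨?_, N', hd⟩
    generalize (fixedBy Ω a).ncard = k at *
    have : k = 8 ∨ k = 12 ∨ k = 16 := by omega
    rcases this with rfl | rfl | rfl
    · norm_num at hdv
    · norm_num at hdv
    · rfl
  · obtain ⟨p, f, pp, p2, f0, e, -⟩ := (h.lt hL).pp
    left
    rw [e] at hdv hp ⊢
    rw [Nat.add_sub_cancel] at hdv
    have hm : p ^ f ∈ Nat.divisors 375 := Nat.mem_divisors.2 ⟨hdv, by norm_num⟩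
    have hd : Nat.divisors 375 = {1, 3, 5, 15, 25, 75, 125, 375} := by decide +kernel
    rw [hd] at hm
    have key : ∀ k, p ^ f = k → 3 ∣ k → 5 ∣ k → False := by
      rintro k rfl d3 d5
      have e3 := (Nat.prime_dvd_prime_iff_eq Nat.prime_three pp).1 (Nat.prime_three.dvd_of_dvd_pow d3)
      have e5 := (Nat.prime_dvd_prime_iff_eq Nat.prime_five pp).1 (Nat.prime_five.dvd_of_dvd_pow d5)
      omega
    simp only [Finset.mem_insert, Finset.mem_singleton] at hm
    rcases hm with e | e | e | e | e | e | e | e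
    · omega
    · omega
    · omega
    · exact (key _ e (by norm_num) (by norm_num)).elim
    · omega
    · exact (key _ e (by norm_num) (by norm_num)).elim
    · omega
    · exact (key _ e (by norm_num) (by norm_num)).elim

open C1b in
theorem Sp.Ctx.c1b (h : S.Ctx) {m : ℕ} (hc : S.CS (m ^ 2)) {t : G} {N : Subgroup G}
    (ht : orderOf t = 2) (hd : S.DS (fixedBy Ω t) N) (hm : (fixedBy Ω t).ncard = m ^ 2)
    (h4 : 4 ≤ m) (hn : Nat.card Ω - 1 = (m + 1) ^ 3 * (m - 1)) : False := by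
  have tt : t * t = 1 := by rw [← pow_two, ← ht, pow_orderOf_eq_one]
  have t1 : t ≠ 1 := by rintro rfl; simp at ht
  have ct : ∀ n ∈ N, Commute n t := fun n hn =>
    Sp.commute_L_W hd.sf_nt (hd.le hn) (self_mem_W t)
  obtain ⟨z, hz, -⟩ := hd.sf_nt
  have tN : t ∉ N := fun e => t1 (hd.free t e z hz hz)
  set E := EE N t tt ct with hE
  have memE : ∀ {g}, g ∈ E ↔ g ∈ N ∨ g * t ∈ N := Iff.rfl
  have NE : N ≤ E := fun g hg => memE.2 (Or.inl hg)
  have E2 : ∀ e ∈ E, e * e = 1 := by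
    intro e he
    rcases memE.1 he with h1 | h1
    · exact hd.sq e h1
    · have h2 := hd.sq _ h1
      have h3 : e = e * t * t := by rw [mul_assoc, tt, mul_one]
      rw [h3]
      calc e * t * t * (e * t * t) = e * t * (t * (e * t)) * t := by simp only [mul_assoc]
        _ = e * t * (e * t) * (t * t) := by rw [← (ct _ h1).eq]; simp only [mul_assoc]
        _ = 1 := by rw [h2, tt, mul_one]
  have cN : Nat.card N = m ^ 2 := hd.card.trans hm
  have cE : 2 * m ^ 2 ≤ Nat.card E := by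
    obtain ⟨k, hk⟩ := card_dvd_of_le NE
    have hpos : 0 < Nat.card E := Nat.card_pos
    have k1 : k ≠ 1 := by
      rintro rfl
      have : N = E := eq_of_le_of_card_ge NE (by omega)
      exact tN (this ▸ memE.2 (Or.inr (tt ▸ N.one_mem)))
    have k0 : k ≠ 0 := by rintro rfl; omega
    rw [hk, cN, mul_comm]
    exact Nat.mul_le_mul_left _ (by omega)
  obtain ⟨d, -, hd2⟩ := hd.pow
  obtain ⟨e, -, he⟩ := (Nat.dvd_prime_pow Nat.prime_two).1
    (show m ∣ 2 ^ d by rw [← hd2, hm]; exact dvd_pow_self m (by norm_num))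
  have e0 : e ≠ 0 := by rintro rfl; simp at he; omega
  have m2 : 2 ∣ m := he ▸ dvd_pow_self 2 e0
  have nd : ¬ 2 ^ (e + 1 + 1) ∣ (Set.univ : Set Ω).ncard := by
    rw [Set.ncard_univ]
    exact not_dvd he h4 hn (by have := h.four; omega)
  have pE : IsPGroup 2 E := fun g => ⟨1, Subtype.ext (by
    have := E2 g g.2
    simpa [pow_two] using this)⟩
  have stu : ∀ K : Subgroup G, K ≤ St G (Set.univ : Set Ω) := fun K g _ =>
    Sp.L_le_St (S := S) (by rw [h.gen]; trivial)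
  -- the case of a four-group inside `N`
  have caseN : ∀ a ∈ N, ∀ b ∈ N, a ≠ 1 → b ≠ 1 → a ≠ b → ∀ c : Ω, a • c = c → b • c = c →
      False := by
    intro a ha b hb a1 b1 ab c ac bc
    obtain ⟨h1, N', h2⟩ := h.c1b_N hc hd h4 m2 hn ha hb a1 b1 ab ac bc
    exact h.c1b_end hc h4 E2 cE (NE ha) (NE hb) a1 b1 ab ac bc h2 h1
  by_cases h8 : 8 ≤ m
  · obtain ⟨c, -, hc'⟩ := big_stab (pE.to_le NE) (stu N) nd
    rw [cN, pow_succ 2, ← he] at hc'
    obtain ⟨a, ha, b, hb, a1, b1, ab⟩ := two_el (K := N ⊓ stabilizer G c) (by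
      by_contra hlt
      have : m * 2 * Nat.card ↥(N ⊓ stabilizer G c) ≤ m * 2 * 2 :=
        Nat.mul_le_mul_left _ (by omega)
      nlinarith)
    exact caseN a ha.1 b hb.1 a1 b1 ab c ha.2 hb.2
  · have m4 : m = 4 := by
      have e3 : e < 3 := by
        by_contra h3
        have : 2 ^ 3 ≤ 2 ^ e := Nat.pow_le_pow_right (by norm_num) (by omega)
        omega
      interval_cases e <;> omega
    obtain ⟨c, -, hc'⟩ := big_stab pE (stu E) nd
    rw [pow_succ, ← he] at hc'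
    subst m4
    have hn' : Nat.card Ω - 1 = 375 := by rw [hn]; norm_num
    -- the mixed case
    have caseM : ∀ a ∈ N, ∀ b, b * t ∈ N → a ≠ 1 → a • c = c → b • c = c → False := by
      intro a ha b hb a1 ac bc
      have bE : b ∈ E := memE.2 (Or.inr hb)
      have bN : b ∉ N := fun e' => tN (by
        have := N.mul_mem (N.inv_mem e') hb
        rwa [inv_mul_cancel_left] at this)
      have b1 : b ≠ 1 := fun e' => bN (e' ▸ N.one_mem)
      have ab : a ≠ b := fun e' => bN (e' ▸ ha)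
      have tc : t • c ≠ c := fun e' => a1 (hd.free a ha c e' ac)
      have bt : b = b * t * t := by rw [mul_assoc, tt, mul_one]
      have n1 : b * t ≠ 1 := fun e' => tc (by
        rw [bt, e', one_mul] at bc; exact bc)
      have n2 : a * (b * t) ≠ 1 := fun e' => tc (by
        have : (a * b) • c = c := by rw [mul_smul, bc, ac]
        rwa [bt, ← mul_assoc, e', one_mul] at this)
      have a2 := ord2 (hd.sq a ha) a1
      have b2 := ord2 (E2 b bE) b1
      have cab : Commute a b := by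
        rw [bt]; exact (Commute.mul_right (hd.sf_comm ha hb) (ct a ha))
      obtain ⟨y, hV⟩ := h.exists_V4 a2 b2 cab ab ac bc
      obtain ⟨u, hu, hu'⟩ := hd.conjN hz hb (N.mul_mem ha hb) n1 n2
      have ut : Commute u t := Sp.commute_L_W hd.sf_nt (Sp.UD_le_L hz hu) (self_mem_W t)
      have cj : u * b * u⁻¹ = a * b := by
        calc u * b * u⁻¹ = u * (b * t * t) * u⁻¹ := by rw [← bt]
          _ = u * (b * t) * (t * u⁻¹) := by simp only [mul_assoc]
          _ = u * (b * t) * u⁻¹ * t := by rw [← ut.inv_left.eq]; simp only [mul_assoc]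
          _ = a * b := by rw [hu', mul_assoc, mul_assoc, tt, mul_one]
      have kk : (fixedBy Ω (a * b)).ncard = (fixedBy Ω b).ncard := by
        rw [← cj, fix_conj, Set.ncard_smul_set]
      have wi := S.wielandt h.even hV
      rw [hn', kk] at wi
      rcases h.c1b_376 hc hn' a2 ac with h1 | ⟨h1, N', h2⟩
      · rw [h1] at wi
        generalize ((fixedBy Ω a ∩ fixedBy Ω b).ncard - 1) ^ 2 = k at wi
        rcases h.c1b_376 hc hn' b2 bc with h2 | ⟨h2, -⟩ <;> rw [h2] at wi <;> omega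
      · exact h.c1b_end hc h4 E2 cE (NE ha) bE a1 b1 ab ac bc h2 h1
    obtain ⟨a, ha, b, hb, a1, b1, ab⟩ := two_el (K := E ⊓ stabilizer G c) (by omega)
    rcases memE.1 ha.1 with h1 | h1 <;> rcases memE.1 hb.1 with h2 | h2
    · exact caseN a h1 b h2 a1 b1 ab c ha.2 hb.2
    · exact caseM a h1 b h2 a1 ha.2 hb.2
    · exact caseM b h2 a h1 b1 hb.2 ha.2
    · have h3 : a⁻¹ * b ∈ N := by
        have h5 := N.mul_mem (N.inv_mem h1) h2
        have h6 := ct _ h5
        have : a⁻¹ * b = t * ((a * t)⁻¹ * (b * t)) * t⁻¹ := by group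
        rw [this, ← h6.eq, mul_inv_cancel_right]
        exact h5
      refine caseM _ h3 b h2 (fun e' => ab (inv_mul_eq_one.1 e')) ?_ hb.2
      exact (stabilizer G c).mul_mem ((stabilizer G c).inv_mem ha.2) hb.2

end Cfsg.Agent.HKS
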