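import Mathlib
import Cfsg.Agent.HKS.Ctx
import Cfsg.Agent.HKS.SF

/-! Piece C2a: solvable type, the group `N × ⟨t⟩` -/

set_option autoImplicit false
set_option linter.unusedSectionVars false

namespace Cfsg.Agent.HKS

open Subgroup MulAction Cfsg.Agent.TT Cfsg.Agent.Perm.TT Cfsg.Agent.Cl.L2
open Cfsg.Agent.KS (St)
open scoped MatrixGroups Pointwise commutatorElement

variable {G Ω : Type*} [Group G] [MulAction G Ω] [Finite G] [Finite Ω] {S : Sp G Ω}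
  {Δ Δ' : Set Ω} {x y : Ω}

theorem c2a_cover {ι : Type*} [Finite ι] (d : ι → G) {Q : ℕ} (hd : ∀ i, (fixedBy Ω (d i)).ncard = Q)
    (ex : ∀ c : Ω, ∃ i, d i • c = c) (un : ∀ (c : Ω) i j, d i • c = c → d j • c = c → i = j) :
    Nat.card Ω = Nat.card ι * Q := by
  have := Fintype.ofFinite ι
  rw [← Nat.card_congr (Equiv.ofBijective (fun p : Σ i, fixedBy Ω (d i) => (p.2 : Ω)) ⟨?_, fun c => ?_⟩),
    Nat.card_sigma, Finset.sum_congr rfl fun i _ => (Nat.card_coe_set_eq _).trans (hd i), Finset.sum_const,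
    Finset.card_univ, Nat.card_eq_fintype_card, smul_eq_mul]
  · rintro ⟨i, a, ha⟩ ⟨j, b, hb⟩ (rfl : a = b)
    obtain rfl := un a i j ha hb
    rfl
  · obtain ⟨i, hi⟩ := ex c
    exact ⟨⟨i, c, hi⟩, rfl⟩

namespace Sp.C2

variable {t : G} {N : Subgroup G}

theorem conj (hc : S.C2 t N) (g : G) : S.C2 (g * t * g⁻¹) (N.map (MulAut.conj g).toMonoidHom) := by
  refine ⟨(Basic.ord g t).trans hc.two, fix_conj (Ω := Ω) g t ▸ hc.ds.smul g, fun w hw h1 h2 => ?_,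
    fun t' h1 h2 h3 c k1 k2 => ?_, ?_⟩
  · obtain ⟨w, rfl⟩ := Basic.cs g w
    rw [fix_conj, conj_mem_W_smul] at hw
    rw [conj_mul, conj_eq_one_iff] at h1
    exact (hc.r1 w hw h1 (Basic.cm.1 h2)).imp conj_eq_one_iff.2 fun e => by rw [e]
  · obtain ⟨t', rfl⟩ := Basic.cs g t'
    obtain ⟨c, rfl⟩ := MulAction.surjective g c
    rw [Basic.sm, smul_left_cancel_iff] at k1 k2
    exact hc.nc t' (((isConj_iff.2 ⟨g, rfl⟩).trans h1).trans (isConj_iff.2 ⟨g, rfl⟩).symm)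
      (fun e => h2 (by rw [e])) (Basic.cm.1 h3) c k1 k2
  · rw [fix_conj, Set.ncard_smul_set]; exact hc.big

theorem c2a_t2 (hc : S.C2 t N) : t * t = 1 := mul_self_two hc.two

theorem c2a_t1 (hc : S.C2 t N) : t ≠ 1 := fun e => by have := hc.two; rw [e, orderOf_one] at this; omega

theorem c2a_W (hc : S.C2 t N) {n w : G} (hn : n ∈ N) (hw : w ∈ W G (fixedBy Ω t)) : Commute n w :=
  commute_L_W hc.ds.sf_nt (hc.ds.le hn) hw

theorem c2a_t (hc : S.C2 t N) {n : G} (hn : n ∈ N) : Commute n t := hc.c2a_W hn (self_mem_W t)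

theorem c2a_nmem (hc : S.C2 t N) : t ∉ N := fun k => by
  obtain ⟨x, hx⟩ := hc.ds.sf_nt.nonempty
  exact hc.c2a_t1 (hc.ds.free t k x hx hx)

theorem c2a_mem (hc : S.C2 t N) {e : G} : e ∈ N ⊔ zpowers t ↔ ∃ n ∈ N, e = n ∨ e = n * t := by
  refine ⟨fun he => ?_, ?_⟩
  · let K : Subgroup G :=
      { carrier := {e | ∃ n ∈ N, e = n ∨ e = n * t}
        one_mem' := ⟨1, one_mem _, Or.inl rfl⟩
        mul_mem' := by
          rintro _ _ ⟨n, hn, rfl | rfl⟩ ⟨m, hm, rfl | rfl⟩ <;> refine ⟨_, mul_mem hn hm, ?_⟩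
          · exact Or.inl rfl
          · exact Or.inr (mul_assoc _ _ _).symm
          · exact Or.inr (by rw [mul_assoc, ← (hc.c2a_t hm).eq, mul_assoc])
          · exact Or.inl (by rw [(hc.c2a_t hm).eq, mul_assoc, ← mul_assoc t, hc.c2a_t2, one_mul])
        inv_mem' := by
          rintro _ ⟨n, hn, rfl | rfl⟩ <;> refine ⟨_, inv_mem hn, ?_⟩
          · exact Or.inl rfl
          · exact Or.inr (by rw [(hc.c2a_t hn).eq, mul_inv_rev, inv_eq_of_mul_eq_one_right hc.c2a_t2]) }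
    exact (sup_le (fun n hn => ⟨n, hn, Or.inl rfl⟩)
      (zpowers_le.2 ⟨1, one_mem _, Or.inr (one_mul t).symm⟩) : _ ≤ K) he
  · rintro ⟨n, hn, rfl | rfl⟩
    · exact mem_sup_left hn
    · exact mul_mem_sup hn (mem_zpowers t)

theorem c2a_sq (hc : S.C2 t N) {e : G} (he : e ∈ N ⊔ zpowers t) : e * e = 1 := by
  obtain ⟨n, hn, rfl | rfl⟩ := hc.c2a_mem.1 he
  · exact hc.ds.sq _ hn
  · rw [← pow_two, (hc.c2a_t hn).mul_pow, pow_two, pow_two, hc.ds.sq n hn, hc.c2a_t2, mul_one]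

theorem c2a_comm (hc : S.C2 t N) {a b : G} (ha : a ∈ N ⊔ zpowers t) (hb : b ∈ N ⊔ zpowers t) : Commute a b := by
  change a * b = b * a
  rw [← inv_eq_of_mul_eq_one_right (hc.c2a_sq (mul_mem ha hb)), mul_inv_rev,
    inv_eq_of_mul_eq_one_right (hc.c2a_sq ha), inv_eq_of_mul_eq_one_right (hc.c2a_sq hb)]

theorem c2a_dec (hc : S.C2 t N) {e : G} (h1 : e * e = 1) (h2 : Commute e t)
    (h : ∃ n ∈ N, ∃ w ∈ W G (fixedBy Ω t), e = n * w) : e ∈ N ⊔ zpowers t := by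
  obtain ⟨n, hn, w, hw, rfl⟩ := h
  rw [← pow_two, (hc.c2a_W hn hw).mul_pow, pow_two, pow_two, hc.ds.sq n hn, one_mul] at h1
  have := (hc.c2a_t hn).inv_left.mul_left h2
  rw [inv_mul_cancel_left] at this
  exact hc.c2a_mem.2 ⟨n, hn, (hc.r1 w hw h1 this).imp (fun e => by rw [e, mul_one]) fun e => by rw [e]⟩

theorem mem_E (h : S.Ctx) (hc : S.C2 t N) {t' : G} (h1 : IsConj t t') (h2 : Commute t' t) :
    t' ∈ N ⊔ zpowers t := by
  have _ := h
  by_cases e : t' = t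
  · exact e ▸ mem_sup_right (mem_zpowers _)
  obtain ⟨g, rfl⟩ := isConj_iff.1 h1
  have h3 := (hc.conj g).c2a_t2
  exact hc.c2a_dec h3 h2 (hc.ds.fpf (mem_St_fix h2) (h3 ▸ one_mem _) (hc.nc _ h1 e h2))

theorem c2a_le (h : S.Ctx) (hc : S.C2 t N) {g : G} (h2 : Commute (g * t * g⁻¹) t) {e : G}
    (he : e ∈ N ⊔ zpowers t) : e ∈ N.map (MulAut.conj g).toMonoidHom ⊔ zpowers (g * t * g⁻¹) := by
  have hc' := hc.conj g
  have h3 := hc.mem_E h (isConj_iff.2 ⟨g, rfl⟩) h2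
  refine hc'.c2a_dec (hc.c2a_sq he) (hc.c2a_comm he h3) ?_
  rcases hc'.big with h8 | h4
  · refine hc'.ds.big h8 (fun a ha => mem_St_fix (hc.c2a_comm ha h3)) (fun a => hc.c2a_sq) ?_ he
    have k1 : Nat.card ↥((N ⊔ zpowers t) ⊓ W G (fixedBy Ω (g * t * g⁻¹))) ≤ 2 := by
      rw [← hc'.two, ← Nat.card_zpowers]
      refine card_le_of_le fun a ha => ?_
      rcases hc'.r1 a ha.2 (hc.c2a_sq ha.1) (hc.c2a_comm ha.1 h3) with rfl | rfl
      exacts [one_mem _, mem_zpowers _]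
    have k2 : Nat.card N * 2 ≤ Nat.card ↥(N ⊔ zpowers t) := by
      obtain ⟨m, hm⟩ := card_dvd_of_le (le_sup_left : N ≤ N ⊔ zpowers t)
      have k3 : ¬ Nat.card ↥(N ⊔ zpowers t) ≤ Nat.card N := fun k =>
        hc.c2a_nmem ((eq_of_le_of_card_ge le_sup_left k).ge (mem_sup_right (mem_zpowers t)))
      rw [hm] at k3 ⊢
      refine Nat.mul_le_mul_left _ (by_contra fun k => k3 ?_)
      exact (Nat.mul_le_mul_left _ (show m ≤ 1 by omega)).trans (mul_one _).le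
    rw [fix_conj, Set.ncard_smul_set, ← hc.ds.card, ← fix_conj]
    exact (Nat.mul_le_mul_left _ k1).trans k2
  · by_cases hw : e ∈ W G (fixedBy Ω (g * t * g⁻¹))
    · exact ⟨1, one_mem _, e, hw, (one_mul e).symm⟩
    refine hc'.ds.fpf (mem_St_fix (hc.c2a_comm he h3)) (hc.c2a_sq he ▸ one_mem _) fun c k1 k2 => ?_
    exact h4 e _ (orderOf_eq_prime (by rw [pow_two, hc.c2a_sq he]) fun k => hw (k ▸ one_mem _)) hc'.two
      (hc.c2a_comm he h3) (fun k => hw (k ▸ self_mem_W e)) c k2 k1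

theorem norm_E (h : S.Ctx) (hc : S.C2 t N) {g : G} (h2 : Commute (g * t * g⁻¹) t) :
    g ∈ normalizer ((N ⊔ zpowers t : Subgroup G) : Set G) := by
  rw [← inv_mem_iff]
  refine mem_normalizer_fintype fun e he => ?_
  obtain ⟨_, ⟨n, hn, rfl⟩, e1 | e1⟩ := (hc.conj g).c2a_mem.1 (hc.c2a_le h h2 he) <;> rw [e1] <;>
    refine hc.c2a_mem.2 ⟨n, hn, ?_⟩
  · exact Or.inl (by simp [mul_assoc])
  · exact Or.inr (by simp [mul_assoc])

theorem c2a_root (h : S.Ctx) (hc : S.C2 t N) {r : G} (hr : r ∈ W G (fixedBy Ω t)) : r * r ≠ t := fun e => by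
  obtain ⟨t', h1, h2, h3⟩ := h.zstar hc.two
  obtain ⟨g, rfl⟩ := isConj_iff.1 h1
  have hc' := hc.conj g
  have k : ∀ a ∈ N ⊔ zpowers t, Commute r a := fun a ha => by
    have k : Commute r t := e ▸ (Commute.refl r).mul_right (Commute.refl r)
    obtain ⟨n, hn, rfl | rfl⟩ := hc.c2a_mem.1 ha
    exacts [(hc.c2a_W hn hr).symm, (hc.c2a_W hn hr).symm.mul_right k]
  obtain ⟨n, hn, w, hw, rfl⟩ := hc'.ds.cen (mem_St_fix (k _ (hc.mem_E h h1 h3))) (by
    rintro _ ⟨n, hn, rfl⟩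
    exact k _ ((mem_normalizer_iff.1 (hc.norm_E h h3) n).1 (mem_sup_left hn)))
  rw [← pow_two, (hc'.c2a_W hn hw).mul_pow, pow_two, pow_two, hc'.ds.sq n hn, one_mul] at e
  obtain ⟨c, k1⟩ := hc'.ds.sf_nt.nonempty
  exact hc.nc _ h1 h2 h3 c (e ▸ mem_W.1 (mul_mem hw hw) c k1) k1

theorem two_el (h : S.Ctx) (hc : S.C2 t N) {r : G} (hr : r ∈ W G (fixedBy Ω t)) (h1 : Commute r t)
    (h2 : El2 r) : r = 1 ∨ r = t := by
  obtain ⟨k, hk⟩ := h2
  induction k generalizing r with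
  | zero => exact Or.inl (by simpa using hk)
  | succ k ih =>
    refine hc.r1 r hr ((ih (mul_mem hr hr) (h1.mul_left h1) ?_).resolve_right (hc.c2a_root h hr)) h1
    rw [← pow_two, ← pow_mul, ← pow_succ', hk]

theorem c2a_cov (h : S.Ctx) (hc : S.C2 t N) (c : Ω) : ∃ d ∈ N ⊔ zpowers t, IsConj t d ∧ d • c = c := by
  classical
  obtain ⟨x, hx, y, hy, xy⟩ := hc.ds.sf_nt
  have hD : ∀ g : G, ∀ d ∈ {d | IsConj t d}, g * d * g⁻¹ ∈ {d | IsConj t d} := fun g d hd =>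
    IsConj.trans hd (isConj_iff.2 ⟨g, rfl⟩)
  obtain ⟨d, h1, h2, h3⟩ := h.cover hD hc.two (IsConj.refl t) xy.symm (by
    set X := {d ∈ {d | IsConj t d} | d • x = x ∧ d • y = y}
    have h2 : ∀ d ∈ X, t * d * t⁻¹ ∈ X := fun d hd => ⟨hD _ _ hd.1, by
      rw [mul_smul, mul_smul, inv_smul_eq_iff.2 (show t • x = x from hx).symm, hd.2.1]; exact hx, by
      rw [mul_smul, mul_smul, inv_smul_eq_iff.2 (show t • y = y from hy).symm, hd.2.2]; exact hy⟩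
    have := Fintype.ofFinite X
    have hi : Function.Involutive fun d : X => (⟨_, h2 d d.2⟩ : X) := fun d => Subtype.ext (by
      calc t * (t * d * t⁻¹) * t⁻¹ = (t * t) * d * (t * t)⁻¹ := by group
        _ = d := by rw [hc.c2a_t2]; group)
    by_contra ho
    obtain ⟨d, hd, d1⟩ := Equiv.Perm.exists_fixed_point_of_prime' (p := 2) (n := 1) (σ := hi.toPerm)
      (by rw [← Nat.card_eq_fintype_card]; exact (Nat.not_odd_iff_even.1 ho).two_dvd)
      (Equiv.ext fun d => hi d) (a := ⟨t, IsConj.refl t, hx, hy⟩) (Subtype.ext (mul_inv_cancel_right t t))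
    exact hc.nc d d.2.1 (fun e => d1 (Subtype.ext e)) (mul_inv_eq_iff_eq_mul.1 (congrArg Subtype.val hd)).symm
      x hx d.2.2.1) c
  exact ⟨d, hc.mem_E h h1 h2, h1, h3⟩

theorem c2a_cls (hc : S.C2 t N) {a n m : G} (ha : a = 1 ∨ a = t) (hn : n ∈ N) (hm : m ∈ N) (n1 : n ≠ 1)
    (m1 : m ≠ 1) : IsConj (n * a) (m * a) := by
  obtain ⟨x, hx⟩ := hc.ds.sf_nt.nonempty
  obtain ⟨u, hu, rfl⟩ := hc.ds.conjN hx hn hm n1 m1
  have : Commute u a := by
    rcases ha with rfl | rfl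
    exacts [Commute.one_right u, commute_L_W hc.ds.sf_nt (UD_le_L hx hu) (self_mem_W _)]
  exact isConj_iff.2 ⟨u, by rw [mul_assoc, mul_assoc, ← this.inv_left.eq]; group⟩

theorem c2a_count (h : S.Ctx) (hc : S.C2 t N) {a : G} (ha : a = 1 ∨ a = t)
    (h1 : ∀ n ∈ N, n ≠ 1 → IsConj t (n * a))
    (h2 : ∀ d ∈ N ⊔ zpowers t, IsConj t d → d = t ∨ ∃ n ∈ N, n ≠ 1 ∧ d = n * a) :
    Nat.card Ω = (fixedBy Ω t).ncard ^ 2 := by
  classical
  let d : N → G := fun n => if n = 1 then t else n * a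
  have k1 : ∀ n, IsConj t (d n) := fun n => by
    by_cases e : n = 1
    · simp only [d, if_pos e]; exact IsConj.refl t
    · simp only [d, if_neg e]; exact h1 n n.2 fun k => e (Subtype.ext k)
  have k2 : ∀ n, d n ∈ N ⊔ zpowers t := fun n => by
    by_cases e : n = 1
    · simp only [d, if_pos e]; exact mem_sup_right (mem_zpowers t)
    · simp only [d, if_neg e]; exact hc.c2a_mem.2 ⟨n, n.2, ha.imp (fun e => by rw [e, mul_one]) fun e => by rw [e]⟩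
  have k3 : ∀ n : N, n ≠ 1 → (n : G) * a ≠ t := fun n e k => by
    rcases ha with rfl | rfl
    · exact hc.c2a_nmem (k ▸ mul_mem n.2 (one_mem _))
    · exact e (Subtype.ext (mul_eq_right.1 k))
  rw [pow_two, c2a_cover d (Q := (fixedBy Ω t).ncard) (fun n => ?_) (fun c => ?_) fun c n m e1 e2 => ?_,
    hc.ds.card]
  · obtain ⟨g, e⟩ := isConj_iff.1 (k1 n)
    rw [← e, fix_conj, Set.ncard_smul_set]
  · obtain ⟨e, he, h3, h4⟩ := hc.c2a_cov h c
    rcases h2 e he h3 with rfl | ⟨n, hn, n1, rfl⟩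
    · exact ⟨1, by simp only [d, if_pos]; exact h4⟩
    · exact ⟨⟨n, hn⟩, by simp only [d, if_neg fun k : (⟨n, hn⟩ : N) = 1 => n1 (congrArg Subtype.val k)]; exact h4⟩
  · have e : d m = d n := by
      by_contra e
      obtain ⟨g, k⟩ := isConj_iff.1 (k1 n)
      exact (hc.conj g).nc (d m) (k ▸ (k1 n).symm.trans (k1 m)) (k ▸ e) (k ▸ hc.c2a_comm (k2 m) (k2 n)) c
        (k ▸ e1) e2
    by_cases n1 : n = 1 <;> by_cases m1 : m = 1 <;> simp only [d, n1, m1, if_pos, if_neg, not_false_eq_true] at e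
    · rw [n1, m1]
    · exact (k3 m m1 e).elim
    · exact (k3 n n1 e.symm).elim
    · exact Subtype.ext (mul_right_cancel e).symm

theorem card (h : S.Ctx) (hc : S.C2 t N) : Nat.card Ω = (fixedBy Ω t).ncard ^ 2 ∨
    ∀ e ∈ N ⊔ zpowers t, e ≠ 1 → IsConj t e := by
  have key : ∀ d ∈ N ⊔ zpowers t, d ≠ 1 → d = t ∨ (∃ n ∈ N, n ≠ 1 ∧ d = n * 1) ∨ ∃ n ∈ N, n ≠ 1 ∧ d = n * t :=
    fun d hd d1 => by
      obtain ⟨n, hn, rfl | rfl⟩ := hc.c2a_mem.1 hd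
      · exact Or.inr (Or.inl ⟨d, hn, d1, (mul_one d).symm⟩)
      · exact or_iff_not_imp_left.2 fun k => Or.inr ⟨n, hn, fun e => k (by rw [e, one_mul]), rfl⟩
  have ne : ∀ {d}, IsConj t d → d ≠ 1 := fun k e => hc.c2a_t1 (isConj_one_left.1 (by rwa [e] at k))
  have al : ∀ {a n : G}, a = 1 ∨ a = t → n ∈ N → n ≠ 1 → IsConj t (n * a) → ∀ m ∈ N, m ≠ 1 → IsConj t (m * a) :=
    fun ha hn n1 k m hm m1 => k.trans (hc.c2a_cls ha hn hm n1 m1)
  by_cases p1 : ∀ m ∈ N, m ≠ 1 → IsConj t (m * 1) <;> by_cases p2 : ∀ m ∈ N, m ≠ 1 → IsConj t (m * t)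
  · refine Or.inr fun e he e1 => ?_
    rcases key e he e1 with rfl | ⟨n, hn, n1, rfl⟩ | ⟨n, hn, n1, rfl⟩
    exacts [IsConj.refl _, p1 n hn n1, p2 n hn n1]
  · refine Or.inl (hc.c2a_count h (Or.inl rfl) p1 fun d hd k => (key d hd (ne k)).imp_right fun k1 =>
      k1.resolve_right ?_)
    rintro ⟨n, hn, n1, rfl⟩
    exact p2 (al (Or.inr rfl) hn n1 k)
  · refine Or.inl (hc.c2a_count h (Or.inr rfl) p2 fun d hd k => (key d hd (ne k)).imp_right fun k1 =>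
      k1.resolve_left ?_)
    rintro ⟨n, hn, n1, rfl⟩
    exact p1 (al (Or.inl rfl) hn n1 k)
  · obtain ⟨t', h1, h2, h3⟩ := h.zstar hc.two
    rcases key t' (hc.mem_E h h1 h3) (ne h1) with e | ⟨n, hn, n1, rfl⟩ | ⟨n, hn, n1, rfl⟩
    exacts [(h2 e).elim, (p1 (al (Or.inl rfl) hn n1 h1)).elim, (p2 (al (Or.inr rfl) hn n1 h1)).elim]

end Sp.C2

end Cfsg.Agent.HKS
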