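import Mathlib
import Cfsg.Agent.HKS.Ctx
import Cfsg.Agent.HKS.SF

/-! Piece C2b: the affine plane -/

set_option autoImplicit false

namespace Cfsg.Agent.HKS

open Subgroup MulAction Cfsg.Agent.TT Cfsg.Agent.Perm.TT Cfsg.Agent.Cl.L2
open Cfsg.Agent.KS (St)
open scoped MatrixGroups Pointwise commutatorElement

variable {G Ω : Type*} [Group G] [MulAction G Ω] [Finite G] [Finite Ω] {S : Sp G Ω}
  {Δ Δ' : Set Ω} {x y : Ω}

namespace C2b

/-- The lines: the images of `Δ`. -/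
def Ln (G : Type*) {Ω : Type*} [Group G] [MulAction G Ω] (Δ l : Set Ω) : Prop :=
  ∃ g : G, l = g • Δ

/-- The numerical hypotheses. -/
structure Pl {G Ω : Type*} [Group G] [MulAction G Ω] (S : Sp G Ω) (Δ : Set Ω) : Prop where
  cl : S.Cl Δ
  four : 4 ≤ Δ.ncard
  ev : Even Δ.ncard
  card : Nat.card Ω = Δ.ncard ^ 2
  two : Two G Ω

omit [Finite G] [Finite Ω] in
theorem Ln.smul {l : Set Ω} (hl : Ln G Δ l) (g : G) : Ln G Δ (g • l) := by
  obtain ⟨k, rfl⟩ := hl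
  exact ⟨g * k, by rw [mul_smul]⟩

omit [Finite G] [Finite Ω] in
theorem Ln.self : Ln G Δ Δ := ⟨1, by rw [one_smul]⟩

omit [Finite G] [Finite Ω] in
theorem Ln.ncard {l : Set Ω} (hl : Ln G Δ l) : l.ncard = Δ.ncard := by
  obtain ⟨k, rfl⟩ := hl
  exact Set.ncard_smul_set k Δ

theorem Pl.cl' (h : Pl S Δ) {l : Set Ω} (hl : Ln G Δ l) : S.Cl l := by
  obtain ⟨k, rfl⟩ := hl
  exact h.cl.smul k

omit [Finite G] in
theorem Pl.nt (h : Pl S Δ) {l : Set Ω} (hl : Ln G Δ l) : l.Nontrivial := by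
  rw [← Set.one_lt_ncard_iff_nontrivial, hl.ncard]
  have := h.four
  omega

theorem Pl.card_UD (h : Pl S Δ) {l : Set Ω} (hl : Ln G Δ l) {p : Ω} (hp : p ∈ l) :
    Nat.card (S.UD l p) + 1 = Δ.ncard := by
  rw [(h.cl' hl).card_UD hp (h.nt hl), hl.ncard]

theorem Pl.hall (h : Pl S Δ) {l : Set Ω} (hl : Ln G Δ l) {p : Ω} (hp : p ∈ l) {u : G}
    (hu : u ∈ S.U p) (e : u ^ (Δ.ncard - 1) = 1) : u ∈ S.UD l p := by
  obtain ⟨q, -, hq⟩ := (h.nt hl).exists_ne p
  have h1 := h.card_UD hl hp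
  have h2 := S.card_U hq
  have h4 := h.four
  have h5 : Nat.card (S.UD l p) = Δ.ncard - 1 := by omega
  refine nil_hall (S.nil p) (A := S.UD l p) inf_le_left (m := Δ.ncard + 1) ?_ ?_ hu (by rwa [h5])
  · rw [h5]
    have h3 := h.card
    obtain ⟨n, hn⟩ : ∃ n, Δ.ncard = n + 1 := ⟨Δ.ncard - 1, by omega⟩
    rw [hn] at h3 ⊢
    simp only [Nat.add_sub_cancel]
    nlinarith
  · rw [h5]
    obtain ⟨n, hn⟩ : ∃ n, Δ.ncard = n + 1 := ⟨Δ.ncard - 1, by omega⟩
    have hev := h.ev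
    rw [hn] at hev ⊢
    simp only [Nat.add_sub_cancel]
    have ho : Odd n := by
      rw [Nat.even_add_one, Nat.not_even_iff_odd] at hev
      exact hev
    rw [show n + 1 + 1 = 2 + n by ring, Nat.coprime_add_self_right]
    exact (Nat.coprime_two_right).2 ho

theorem Pl.pow (h : Pl S Δ) {l : Set Ω} (hl : Ln G Δ l) {p : Ω} (hp : p ∈ l) {u : G}
    (hu : u ∈ S.UD l p) : u ^ (Δ.ncard - 1) = 1 := by
  have h1 := h.card_UD hl hp
  have h5 : Δ.ncard - 1 = Nat.card (S.UD l p) := by omega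
  rw [h5]
  exact congrArg Subtype.val (pow_card_eq_one' (G := S.UD l p) (x := ⟨u, hu⟩))

/-- The root group of a line at `p` stabilizes all lines through `p`. -/
theorem Pl.all (h : Pl S Δ) {l m : Set Ω} (hl : Ln G Δ l) (hm : Ln G Δ m) {p : Ω} (hp : p ∈ l)
    (hq : p ∈ m) {u : G} (hu : u ∈ S.UD l p) : u ∈ St G m :=
  (h.hall hm hq hu.1 (h.pow hl hp hu)).2

theorem Pl.uniq (h : Pl S Δ) {l m : Set Ω} (hl : Ln G Δ l) (hm : Ln G Δ m) {c d : Ω} (hcd : c ≠ d)
    (cl : c ∈ l) (dl : d ∈ l) (cm : c ∈ m) (dm : d ∈ m) : l = m := by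
  obtain ⟨g, rfl⟩ := hl
  obtain ⟨k, rfl⟩ := hm
  obtain ⟨x, hx, y, hy, hxy⟩ := h.nt Ln.self
  rw [Set.mem_smul_set_iff_inv_smul_mem] at cl dl cm dm
  have h4 := h.four
  have key : k⁻¹ * g ∈ St G Δ := by
    refine h.cl.line (by omega) hx hy hxy.symm ?_ cl dl ?_ ?_ ?_
    · intro j jx _ u hu
      refine h.hall Ln.self hx (S.conj_fix jx hu.1) ?_
      rw [conj_pow, h.pow Ln.self hx hu, mul_one, mul_inv_cancel]
    · exact fun e => hcd (MulAction.injective _ e)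
    · rwa [mul_smul, smul_inv_smul]
    · rwa [mul_smul, smul_inv_smul]
  have := smul_eq_of_St key
  rw [mul_smul, inv_smul_eq_iff] at this
  exact this

omit [Finite G] in
theorem Pl.ex (h : Pl S Δ) {c d : Ω} (hcd : c ≠ d) : ∃ l, Ln G Δ l ∧ c ∈ l ∧ d ∈ l := by
  obtain ⟨x, hx, y, hy, hxy⟩ := h.nt Ln.self
  obtain ⟨g, rfl, rfl⟩ := h.two.two hxy hcd
  exact ⟨g • Δ, ⟨g, rfl⟩, Set.smul_mem_smul_set hx, Set.smul_mem_smul_set hy⟩

theorem Pl.playfair (h : Pl S Δ) {l m m' : Set Ω} (hl : Ln G Δ l) (hm : Ln G Δ m)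
    (hm' : Ln G Δ m') {p : Ω} (pm : p ∈ m) (pm' : p ∈ m') (d1 : Disjoint m l)
    (d2 : Disjoint m' l) : m = m' := by
  classical
  by_contra hne
  obtain ⟨d, hd, dp⟩ := (h.nt hm).exists_ne p
  obtain ⟨d', hd', dp'⟩ := (h.nt hm').exists_ne p
  have pl : p ∉ l := Set.disjoint_left.1 d1 pm
  have dl : d ∉ l := Set.disjoint_left.1 d1 hd
  have dl' : d' ∉ l := Set.disjoint_left.1 d2 hd'
  have dd : d ≠ d' := by
    rintro rfl
    exact hne (h.uniq hm hm' dp hd pm hd' pm')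
  set T : Set Ω := insert d (insert d' l) with hT
  have cT : T.ncard = Δ.ncard + 2 := by
    rw [hT, Set.ncard_insert_of_notMem (by simp [dd, dl]), Set.ncard_insert_of_notMem dl',
      hl.ncard]
  have Tp : ∀ q ∈ T, q ≠ p := by
    rintro q (rfl | rfl | hq)
    · exact dp
    · exact dp'
    · rintro rfl
      exact pl hq
  -- two points of `T` on a line through `p` coincide
  have key : ∀ n, Ln G Δ n → p ∈ n → ∀ q ∈ T, ∀ q' ∈ T, q ∈ n → q' ∈ n → q = q' := by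
    have k1 : ∀ n, Ln G Δ n → p ∈ n → d ∈ n → n = m := fun n hn a b =>
      h.uniq hn hm dp b a hd pm
    have k2 : ∀ n, Ln G Δ n → p ∈ n → d' ∈ n → n = m' := fun n hn a b =>
      h.uniq hn hm' dp' b a hd' pm'
    intro n hn pn q hq q' hq' a b
    by_contra hqq
    rcases hq with rfl | rfl | hq <;> rcases hq' with rfl | rfl | hq'
    · exact hqq rfl
    · exact hne ((k1 n hn pn a).symm.trans (k2 n hn pn b))
    · exact Set.disjoint_left.1 d1 (k1 n hn pn a ▸ b) hq'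
    · exact hne ((k1 n hn pn b).symm.trans (k2 n hn pn a))
    · exact hqq rfl
    · exact Set.disjoint_left.1 d2 (k2 n hn pn a ▸ b) hq'
    · exact Set.disjoint_left.1 d1 (k1 n hn pn b ▸ a) hq
    · exact Set.disjoint_left.1 d2 (k2 n hn pn b ▸ a) hq
    · exact pl (h.uniq hn hl hqq a b hq hq' ▸ pn)
  have inj : Function.Injective (fun z : S.UD m p × T => (z.1 : G) • (z.2 : Ω)) := by
    rintro ⟨⟨a, ha⟩, ⟨q, hq⟩⟩ ⟨⟨a', ha'⟩, ⟨q', hq'⟩⟩ e
    simp only at e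
    obtain ⟨n, hn, pn, qn⟩ := h.ex (Tp q hq).symm
    have e1 : (a'⁻¹ * a) • q = q' := by rw [mul_smul, e, inv_smul_smul]
    have hb : a'⁻¹ * a ∈ S.UD m p := mul_mem (inv_mem ha') ha
    have q'n : q' ∈ n := e1 ▸ ((h.all hm hn pm pn hb) q).2 qn
    have e2 := key n hn pn q hq q' hq' qn q'n
    subst e2
    have e3 := S.free p q (Tp q hq) _ hb.1 e1
    rw [inv_mul_eq_one] at e3
    subst e3
    rfl
  have hle := Nat.card_le_card_of_injective _ inj
  rw [Nat.card_prod, Nat.card_coe_set_eq, cT, h.card] at hle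
  have h1 := h.card_UD hm pm
  have h4 := h.four
  rw [← h1] at hle h4
  nlinarith

/-- The elements mapping every line to a parallel line. -/
def Pl.K (h : Pl S Δ) : Subgroup G where
  carrier := {g | ∀ l, Ln G Δ l → g • l = l ∨ Disjoint (g • l) l}
  one_mem' l _ := Or.inl (one_smul _ _)
  mul_mem' {a b} ha hb l hl := by
    rw [mul_smul]
    rcases hb l hl with e | e
    · rw [e]
      exact ha l hl
    · rcases ha _ (hl.smul b) with e' | e'
      · rw [e']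
        exact Or.inr e
      · by_contra hc
        rw [not_or, Set.not_disjoint_iff] at hc
        obtain ⟨h1, p, p1, p2⟩ := hc
        exact h1 (h.playfair (hl.smul b) ((hl.smul b).smul a) hl p1 p2 e' e.symm)
  inv_mem' {a} ha l hl := by
    rcases ha _ (hl.smul a⁻¹) with e | e
    · rw [smul_inv_smul] at e
      exact Or.inl e.symm
    · rw [smul_inv_smul] at e
      exact Or.inr e.symm

theorem Pl.normal (h : Pl S Δ) : h.K.Normal := by
  refine ⟨fun k hk g l hl => ?_⟩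
  rcases hk _ (hl.smul g⁻¹) with e | e
  · left
    rw [mul_smul, mul_smul, e, smul_inv_smul]
  · right
    rw [mul_smul, mul_smul]
    have := (Set.disjoint_smul_set (a := g)).2 e
    rwa [smul_inv_smul] at this

theorem Pl.le_K (h : Pl S Δ) (hx : x ∈ Δ) : S.UD Δ x ≤ h.K := by
  intro a ha l hl
  by_cases xl : x ∈ l
  · exact Or.inl (smul_eq_of_St (h.all Ln.self hl hx xl ha))
  · by_cases a1 : a = 1
    · exact Or.inl (by rw [a1, one_smul])
    refine Or.inr (Set.disjoint_left.2 ?_)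
    rintro _ ⟨d, hd, rfl⟩ hc
    simp only at hc
    have dx : d ≠ x := by
      rintro rfl
      exact xl hd
    obtain ⟨n, hn, xn, dn⟩ := h.ex dx.symm
    have an : a • d ∈ n := ((h.all Ln.self hn hx xn ha) d).2 dn
    have ne : a • d ≠ d := fun e => a1 (S.free x d dx a ha.1 e)
    exact xl (h.uniq hn hl ne an dn hc hd ▸ xn)

end C2b

theorem Sp.Ctx.c2b (h : S.Ctx) {t : G} (ht : orderOf t = 2) (h4 : 4 ≤ (fixedBy Ω t).ncard)
    (hn : Nat.card Ω = (fixedBy Ω t).ncard ^ 2) : False := by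
  have P : C2b.Pl S (fixedBy Ω t) := ⟨S.cl_fix t, h4, h.even_fix ht, hn, h.two⟩
  obtain ⟨x, hx, y, hy, hxy⟩ := P.nt C2b.Ln.self
  obtain ⟨M, hM⟩ := h.exists_MM
  have hK : P.K ≠ ⊥ := by
    intro e
    have h1 := P.card_UD C2b.Ln.self hx
    have h2 : S.UD (fixedBy Ω t) x = ⊥ := le_bot_iff.1 (e ▸ P.le_K hx)
    rw [h2, card_bot] at h1
    omega
  have t2 : t ^ 2 = 1 := ht ▸ pow_orderOf_eq_one t
  have tK : t ∈ P.K := hM.min _ P.normal hK (h.mem_MM hM ⟨1, by rwa [pow_one]⟩)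
  have t1 : t ≠ 1 := by
    rintro rfl
    simp at ht
  obtain ⟨c, hc⟩ := (Set.ne_univ_iff_exists_notMem _).1 (h.fix_ne t1)
  have key : ∀ z ∈ fixedBy Ω t, ∃ l, C2b.Ln G (fixedBy Ω t) l ∧ z ∈ l ∧ c ∈ l ∧ t • c ∈ l := by
    intro z hz
    have zc : z ≠ c := by
      rintro rfl
      exact hc hz
    obtain ⟨l, hl, zl, cl⟩ := P.ex zc
    refine ⟨l, hl, zl, cl, ?_⟩
    rcases tK l hl with e | e
    · exact e ▸ Set.smul_mem_smul_set cl
    · have : z ∈ t • l := by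
        have := Set.smul_mem_smul_set (a := t) zl
        rwa [show t • z = z from hz] at this
      exact absurd zl (Set.disjoint_left.1 e this)
  obtain ⟨l, hl, xl, cl, tl⟩ := key x hx
  obtain ⟨m, hm, ym, cm, tm⟩ := key y hy
  have ne : t • c ≠ c := hc
  have e := P.uniq hl hm ne tl cl tm cm
  subst e
  exact hc (P.uniq hl C2b.Ln.self hxy xl ym hx hy ▸ cl)

end Cfsg.Agent.HKS
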