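import Mathlib
import Cfsg.Agent.HKS.C2a
import Cfsg.Agent.HKS.C2b

/-! Piece C2c: the tournament -/

set_option autoImplicit false
set_option linter.unusedSectionVars false

namespace Cfsg.Agent.HKS

open Subgroup MulAction Cfsg.Agent.TT Cfsg.Agent.Perm.TT Cfsg.Agent.Cl.L2
open Cfsg.Agent.KS (St)
open scoped MatrixGroups Pointwise commutatorElement

variable {G Ω : Type*} [Group G] [MulAction G Ω] [Finite G] [Finite Ω] {S : Sp G Ω}
  {Δ Δ' : Set Ω} {x y : Ω}

namespace C2c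

variable {t : G} {N : Subgroup G}

/-- `a` lies in the hyperplane belonging to the conjugate `d` of `t`. -/
def P (t : G) (N : Subgroup G) (d a : G) : Prop := ∃ g : G, g * t * g⁻¹ = d ∧ g⁻¹ * a * g ∈ N

theorem sq (hc : S.C2 t N) : t * t = 1 := by rw [← pow_two, ← hc.two, pow_orderOf_eq_one]

theorem ne_one (hc : S.C2 t N) : t ≠ 1 := fun e => by simpa [e] using hc.two

theorem comm (hc : S.C2 t N) {n : G} (hn : n ∈ N) : Commute n t :=
  S.commute_L_W hc.ds.sf_nt (hc.ds.le hn) (self_mem_W t)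

theorem not_mem (hc : S.C2 t N) : t ∉ N := fun h => by
  obtain ⟨x, hx, -⟩ := hc.ds.sf_nt
  exact ne_one hc (hc.ds.free t h x hx hx)

theorem mem_E (hc : S.C2 t N) {e : G} : e ∈ N ⊔ zpowers t ↔ e ∈ N ∨ e * t ∈ N := by
  have ti : t⁻¹ = t := inv_eq_of_mul_eq_one_right (sq hc)
  constructor
  · let K : Subgroup G :=
      { carrier := {e | e ∈ N ∨ e * t ∈ N}
        one_mem' := Or.inl N.one_mem
        mul_mem' := by
          rintro a b (ha | ha) (hb | hb)
          · exact Or.inl (mul_mem ha hb)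
          · exact Or.inr (by rw [mul_assoc]; exact mul_mem ha hb)
          · refine Or.inr ?_
            rw [mul_assoc, (comm hc hb).eq, ← mul_assoc]
            exact mul_mem ha hb
          · refine Or.inl ?_
            have : a * b = a * t * (b * t) := by
              rw [mul_assoc, ← (comm hc hb).eq, mul_assoc b, sq hc, mul_one]
            exact this ▸ mul_mem ha hb
        inv_mem' := by
          rintro a (ha | ha)
          · exact Or.inl (inv_mem ha)
          · refine Or.inr ?_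
            have h1 : t * a = a * t := by
              have := (comm hc ha).eq
              rw [mul_assoc, sq hc, mul_one] at this
              calc t * a = t * (t * (a * t)) := by rw [← this]
                _ = a * t := by rw [← mul_assoc, sq hc, one_mul]
            have : a⁻¹ * t = (a * t)⁻¹ := by rw [← h1, mul_inv_rev, ti]
            exact this ▸ inv_mem ha }
    intro he
    refine (sup_le (fun n hn => Or.inl hn) (zpowers_le.2 (Or.inr ?_)) : N ⊔ zpowers t ≤ K) he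
    rw [sq hc]; exact N.one_mem
  · rintro (h | h)
    · exact mem_sup_left h
    · have : e = e * t * t := by rw [mul_assoc, sq hc, mul_one]
      exact this ▸ mul_mem (mem_sup_left h) (mem_sup_right (mem_zpowers t))

theorem comm_E (hc : S.C2 t N) {e : G} (he : e ∈ N ⊔ zpowers t) : Commute e t := by
  rcases (mem_E hc).1 he with h | h
  · exact comm hc h
  · have : e = e * t * t := by rw [mul_assoc, sq hc, mul_one]
    rw [this]
    exact (comm hc h).mul_left (Commute.refl t)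

theorem sq_E (hc : S.C2 t N) {e : G} (he : e ∈ N ⊔ zpowers t) : e * e = 1 := by
  rcases (mem_E hc).1 he with h | h
  · exact hc.ds.sq e h
  · have := hc.ds.sq _ h
    rwa [mul_assoc, ← mul_assoc t, ← (comm_E hc he).eq, mul_assoc e t, sq hc, mul_one] at this

theorem P.all (hc : S.C2 t N) {d a g : G} (h : P t N d a) (e : g * t * g⁻¹ = d) : g⁻¹ * a * g ∈ N := by
  obtain ⟨k, e', hk⟩ := h
  have c : Commute (g⁻¹ * k) t := by
    rw [commute_iff_eq]
    calc g⁻¹ * k * t = g⁻¹ * (k * t * k⁻¹) * k := by group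
      _ = g⁻¹ * (g * t * g⁻¹) * k := by rw [e', e]
      _ = _ := by group
  have := hc.ds.norm _ (mem_St_fix c) _ hk
  convert this using 1
  group

theorem P.conj {d a : G} (h : P t N d a) (k : G) : P t N (k * d * k⁻¹) (k * a * k⁻¹) := by
  obtain ⟨g, e, hg⟩ := h
  refine ⟨k * g, by rw [← e]; group, ?_⟩
  convert hg using 1
  group

theorem P.conj' {d a : G} (h : P t N d a) (k : G) : P t N (k⁻¹ * d * k) (k⁻¹ * a * k) := by
  simpa only [inv_inv] using h.conj k⁻¹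

theorem P_t (hc : S.C2 t N) {a : G} : P t N t a ↔ a ∈ N :=
  ⟨fun h => by simpa using h.all hc (g := 1) (by simp), fun h => ⟨1, by simp, by simpa using h⟩⟩

/-- Transitivity of the normalizer. -/
theorem tr (h : S.Ctx) (hc : S.C2 t N) (ha : ∀ e ∈ N ⊔ zpowers t, e ≠ 1 → IsConj t e) {d : G}
    (hd : d ∈ N ⊔ zpowers t) (d1 : d ≠ 1) :
    ∃ k : G, k * t * k⁻¹ = d ∧ ∀ e ∈ N ⊔ zpowers t, k⁻¹ * e * k ∈ N ⊔ zpowers t := by
  obtain ⟨k, hk⟩ := isConj_iff.1 (ha d hd d1)
  have hn := hc.norm_E h (g := k) (hk ▸ comm_E hc hd)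
  exact ⟨k, hk, fun e he => by simpa only [inv_inv] using (mem_normalizer_iff.1 (inv_mem hn) e).1 he⟩

/-- The relation is not symmetric. -/
theorem not_symm (h : S.Ctx) (hc : S.C2 t N) (ha : ∀ e ∈ N ⊔ zpowers t, e ≠ 1 → IsConj t e)
    (hs : ∀ d ∈ N ⊔ zpowers t, ∀ d' ∈ N ⊔ zpowers t, d ≠ 1 → d' ≠ 1 → P t N d d' → P t N d' d) : False := by
  have tE : t ∈ N ⊔ zpowers t := mem_sup_right (mem_zpowers t)
  obtain ⟨x, hx, y, hy, hxy⟩ := hc.ds.sf_nt
  obtain ⟨a, aN, ea⟩ := hc.ds.trans x hx y hy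
  have a1 : a ≠ 1 := fun e => hxy (by rw [← ea, e, one_smul])
  have aE : a ∈ N ⊔ zpowers t := mem_sup_left aN
  have cE : a * t ∈ N ⊔ zpowers t := mul_mem aE tE
  have cN : a * t ∉ N := fun h' => not_mem hc ((mul_mem_cancel_left aN).1 h')
  have c1 : a * t ≠ 1 := fun e => cN (e ▸ N.one_mem)
  have h1 : P t N a t := hs t tE a aE (ne_one hc) a1 ((P_t hc).2 aN)
  have h2 : ¬ P t N (a * t) t := fun h' => cN ((P_t hc).1 (hs _ cE _ tE c1 (ne_one hc) h'))
  have h3 : ¬ P t N (a * t) a := fun h' => by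
    obtain ⟨g, e, hg⟩ := hs _ cE _ aE c1 a1 h'
    have h4 := h1.all hc e
    have : g⁻¹ * (a * t) * g = t * (g⁻¹ * t * g) := by rw [← e]; group
    rw [this] at hg
    exact not_mem hc ((mul_mem_cancel_right h4).1 hg)
  obtain ⟨g, e, hg⟩ := tr h hc ha cE c1
  have h5 := ((mem_E hc).1 (hg t tE)).resolve_left fun h' => h2 ⟨g, e, h'⟩
  have h6 := ((mem_E hc).1 (hg a aE)).resolve_left fun h' => h3 ⟨g, e, h'⟩
  have h7 : g⁻¹ * a * g * t * (g⁻¹ * t * g * t) = t := by
    calc _ = g⁻¹ * a * g * (t * (g⁻¹ * t * g) * t) := by group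
      _ = g⁻¹ * (a * t) * g := by
        rw [← (comm_E hc (hg t tE)).eq, mul_assoc _ t t, sq hc]; group
      _ = t := by rw [← e]; group
  exact not_mem hc (h7 ▸ mul_mem h6 h5)

/-- No element interchanges `t` with another element of `E`. -/
theorem no_swap_t (h : S.Ctx) (hc : S.C2 t N) (ha : ∀ e ∈ N ⊔ zpowers t, e ≠ 1 → IsConj t e) {g a : G}
    (aE : a ∈ N ⊔ zpowers t) (e1 : g * t * g⁻¹ = a) (e2 : g * a * g⁻¹ = t) : a = t := by
  by_contra ne
  have a1 : a ≠ 1 := fun e => ne_one hc (conj_eq_one_iff.1 (e1.trans e))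
  obtain ⟨x, hx, -⟩ := hc.ds.sf_nt
  have key : ∀ u ∈ S.UD (fixedBy Ω t) x, P t N (u * a * u⁻¹) t ↔ u * a * u⁻¹ ∈ N := fun u hu => by
    have c : u * t * u⁻¹ = t := mul_inv_eq_iff_eq_mul.2
      (S.commute_L_W hc.ds.sf_nt (S.UD_le_L hx hu) (self_mem_W t)).eq
    have f1 : u * g * u⁻¹ * t * (u * g * u⁻¹)⁻¹ = u * a * u⁻¹ := by
      calc _ = u * g * u⁻¹ * (u * t * u⁻¹) * (u * g * u⁻¹)⁻¹ := by rw [c]
        _ = u * (g * t * g⁻¹) * u⁻¹ := by group
        _ = _ := by rw [e1]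
    have f2 : (u * g * u⁻¹)⁻¹ * t * (u * g * u⁻¹) = u * a * u⁻¹ := by
      calc _ = (u * g * u⁻¹)⁻¹ * (u * (g * a * g⁻¹) * u⁻¹) * (u * g * u⁻¹) := by rw [e2, c]
        _ = _ := by group
    exact ⟨fun h' => f2 ▸ h'.all hc f1, fun h' => ⟨_, f1, f2 ▸ h'⟩⟩
  refine not_symm h hc ha fun d hd d' hd' d1 d1' hp => ?_
  by_cases aN : a ∈ N
  · obtain ⟨k, e, hk⟩ := tr h hc ha hd d1
    have b1 : k⁻¹ * d' * k ≠ 1 := fun e' => d1' (conj_eq_one_iff.1 (by simpa only [inv_inv] using e' :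
      k⁻¹ * d' * k⁻¹⁻¹ = 1))
    obtain ⟨u, hu, eu⟩ := hc.ds.conjN hx aN (hp.all hc e) a1 b1
    have := ((key u hu).2 (eu ▸ hp.all hc e)).conj k
    rw [eu, e] at this
    convert this using 1
    group
  · obtain ⟨k, e, hk⟩ := tr h hc ha hd' d1'
    refine ⟨k, e, ?_⟩
    by_contra bN
    have hb : P t N (k⁻¹ * d * k) t := by
      convert hp.conj' k using 1
      rw [← e]; group
    have b2 := ((mem_E hc).1 (hk d hd)).resolve_left bN
    have a2 := ((mem_E hc).1 aE).resolve_left aN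
    have ti : t⁻¹ = t := inv_eq_of_mul_eq_one_right (sq hc)
    by_cases bt : k⁻¹ * d * k * t = 1
    · rw [mul_eq_one_iff_eq_inv, ti] at bt
      rw [bt] at hb
      exact not_mem hc ((P_t hc).1 hb)
    obtain ⟨u, hu, eu⟩ := hc.ds.conjN hx a2 b2 (fun e' => ne (by rwa [mul_eq_one_iff_eq_inv, ti] at e')) bt
    have c := (S.commute_L_W hc.ds.sf_nt (S.UD_le_L hx hu) (self_mem_W t)).inv_left.eq
    have eu' : u * a * u⁻¹ = k⁻¹ * d * k := by
      refine mul_right_cancel (b := t) ?_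
      rw [← eu, mul_assoc, c]; group
    exact bN (eu' ▸ (key u hu).1 (eu' ▸ hb))

theorem no_swap (h : S.Ctx) (hc : S.C2 t N) (ha : ∀ e ∈ N ⊔ zpowers t, e ≠ 1 → IsConj t e) {g d d' : G}
    (hd : d ∈ N ⊔ zpowers t) (hd' : d' ∈ N ⊔ zpowers t) (e1 : g * d * g⁻¹ = d') (e2 : g * d' * g⁻¹ = d) :
    d' = d := by
  by_cases d1 : d = 1
  · rw [← e1, d1]; simp
  obtain ⟨k, e, hk⟩ := tr h hc ha hd d1
  have := no_swap_t h hc ha (g := k⁻¹ * g * k) (hk d' hd') (by rw [← e1, ← e]; group)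
    (by calc _ = k⁻¹ * (g * d' * g⁻¹) * k := by group
          _ = t := by rw [e2, ← e]; group)
  rw [← e, ← this]; group

/-- The 2-elements of the normalizer of `E` centralize `E`. -/
theorem cen (h : S.Ctx) (hc : S.C2 t N) (ha : ∀ e ∈ N ⊔ zpowers t, e ≠ 1 → IsConj t e) (k : ℕ) :
    ∀ g ∈ normalizer ((N ⊔ zpowers t : Subgroup G) : Set G), g ^ 2 ^ k = 1 →
      ∀ e ∈ N ⊔ zpowers t, g * e * g⁻¹ = e := by
  induction k with
  | zero => intro g _ h1 e _; rw [pow_zero, pow_one] at h1; simp [h1]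
  | succ k ih =>
    intro g hg h1 e he
    have := ih (g * g) (mul_mem hg hg) (by rw [← pow_two, ← pow_mul, ← pow_succ', h1]) e he
    exact no_swap h hc ha he ((mem_normalizer_iff.1 hg e).1 he) rfl (Eq.trans (by group) this)

theorem mem_of_norm (h : S.Ctx) (hc : S.C2 t N) (ha : ∀ e ∈ N ⊔ zpowers t, e ≠ 1 → IsConj t e) {g : G}
    (hg : g ∈ normalizer ((N ⊔ zpowers t : Subgroup G) : Set G)) {k : ℕ} (h1 : g ^ 2 ^ k = 1) :
    g ∈ N ⊔ zpowers t := by
  have c : ∀ e ∈ N ⊔ zpowers t, Commute g e := fun e he => mul_inv_eq_iff_eq_mul.1 (cen h hc ha k g hg h1 e he)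
  have ct := c t (mem_sup_right (mem_zpowers t))
  obtain ⟨n, hn, w, hw, e⟩ := hc.ds.cen (mem_St_fix ct) fun n hn => c n (mem_sup_left hn)
  have ew : w = n⁻¹ * g := by rw [e]; group
  have h2 : El2 w := ⟨k + 1, by
    rw [ew, (c n (mem_sup_left hn)).symm.inv_left.mul_pow, pow_succ, pow_mul g, h1, one_pow, mul_one, pow_mul',
      inv_pow, pow_two, hc.ds.sq n hn, inv_one, one_pow]⟩
  rcases hc.two_el h hw (ew ▸ (comm hc hn).inv_left.mul_left ct) h2 with r | r
  · rw [e, r, mul_one]; exact mem_sup_left hn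
  · rw [e, r]; exact mul_mem (mem_sup_left hn) (mem_sup_right (mem_zpowers t))

end C2c

theorem Sp.Ctx.c2 (h : S.Ctx) {t : G} {N : Subgroup G} (hc : S.C2 t N) : ES G := by
  have ha := (hc.card h).resolve_left (h.c2b hc.two hc.ds.four)
  have hE : IsPGroup 2 ↥(N ⊔ zpowers t) := fun e =>
    ⟨1, Subtype.ext (by rw [pow_one, pow_two]; exact C2c.sq_E hc e.2)⟩
  obtain ⟨P, hP⟩ := hE.exists_le_sylow
  refine ⟨P, fun g hg => C2c.sq_E hc ?_⟩
  by_contra hn
  have := P.isPGroup'.isNilpotent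
  obtain ⟨k, hk, k1, k2⟩ := GT.PG.exists_mem_normalizer_notMem (lt_of_le_of_ne hP fun e => hn (e ▸ hg))
  obtain ⟨j, hj⟩ := P.isPGroup' ⟨k, hk⟩
  exact k1 (C2c.mem_of_norm h hc ha k2 (congrArg Subtype.val hj :))

end Cfsg.Agent.HKS
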