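import Mathlib
import Cfsg.Agent.HKS.C1b
import Cfsg.Agent.HKS.C2c

/-! Piece C0: an involution of solvable type -/

set_option autoImplicit false

namespace Cfsg.Agent.HKS

open Subgroup MulAction Cfsg.Agent.TT Cfsg.Agent.Perm.TT Cfsg.Agent.Cl.L2
open Cfsg.Agent.KS (St)
open scoped MatrixGroups Pointwise commutatorElement

variable {G Ω : Type*} [Group G] [MulAction G Ω] [Finite G] [Finite Ω] {S : Sp G Ω}
  {Δ Δ' : Set Ω} {x y : Ω}

open C1a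

theorem Sp.Ctx.c0_nc (h : S.Ctx) {t : G} {N : Subgroup G} (hc : S.CS (fixedBy Ω t).ncard) (ht : orderOf t = 2)
    (h8 : 8 ≤ (fixedBy Ω t).ncard) (hd : S.DS (fixedBy Ω t) N) {t' : G} (h1 : IsConj t t') (hV : V4 x y t t') :
    False := by
  have nW : t' ∉ W G (fixedBy Ω t) := fun e => h.rank1 hV (mem_W.1 e) (Or.inl (card_conj h1).le)
  have h4 := (hd.tri (mem_St_fix hV.comm.symm) (by rw [sq hV.s2]; exact one_mem _) hV.tx hV.sx).resolve_left nW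
  have w := S.wielandt h.even hV
  rw [card_conj h1] at w
  have hV' := hV.mul
  have e1 : fixedBy Ω (t * t') ∩ fixedBy Ω t = fixedBy Ω t ∩ fixedBy Ω t' := Set.ext fun c => by
    simp only [Set.mem_inter_iff, mem_fixedBy]
    refine ⟨fun k => ⟨k.2, MulAction.injective t ?_⟩, fun k => ⟨by rw [mul_smul, k.2, k.1], k.1⟩⟩
    change t • t' • c = t • c
    rw [← mul_smul, k.1, k.2]
  have st : t ∈ St G (fixedBy Ω (t * t')) := mem_St_fix hV'.comm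
  have t2 : t * t ∈ W G (fixedBy Ω (t * t')) := by rw [sq ht]; exact one_mem _
  obtain ⟨d, -, hd2⟩ := hd.pow
  generalize hm : (fixedBy Ω t ∩ fixedBy Ω t').ncard = m at h4 w
  obtain ⟨m4, -⟩ := four_le (h4.trans hd2) (h4 ▸ h8)
  have e2 : Nat.card Ω - 1 = (m + 1) ^ 2 * ((fixedBy Ω (t * t')).ncard - 1) := by
    obtain ⟨k, rfl⟩ : ∃ k, m = k + 1 := ⟨m - 1, by omega⟩
    rw [← h4, show (k + 1) ^ 2 - 1 = k * (k + 2) by rw [Nat.sub_eq_iff_eq_add (Nat.one_le_pow _ _ (by omega))]; ring,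
      Nat.add_sub_cancel] at w
    refine Nat.eq_of_mul_eq_mul_right (pow_pos (show 0 < k by omega) 2) ?_
    rw [w]; ring
  rw [← h4] at hc
  have c1 : t ∉ W G (fixedBy Ω (t * t')) := fun e => by
    rw [Set.inter_eq_left.2 (show fixedBy Ω (t * t') ⊆ fixedBy Ω t from mem_W.1 e)] at e1
    rw [e1, hm] at e2
    exact h.c1a hc hd h4.symm m4 e2
  rcases hc.ty _ hV'.s2 ⟨x, hV'.sx⟩ with ⟨-, -, N', hN'⟩ | h3
  · have h5 := (hN'.tri st t2 hV'.sx hV.tx).resolve_left c1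
    rw [e1, hm] at h5
    refine h.c1b hc ht hd h4.symm m4 ?_
    rw [e2, ← h5]
    obtain ⟨k, rfl⟩ : ∃ k, m = k + 1 := ⟨m - 1, by omega⟩
    rw [show (k + 1) ^ 2 - 1 = k * (k + 2) by rw [Nat.sub_eq_iff_eq_add (Nat.one_le_pow _ _ (by omega))]; ring,
      Nat.add_sub_cancel]
    ring
  · have p := h.par hV'.s2
    rw [hc.n4] at p
    rcases ((h.lt h3).tri st t2 hV'.sx hV.tx).resolve_left c1 with ⟨h5, -⟩ | ⟨r, -, h5, -⟩
    · rw [e1, hm] at h5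
      omega
    · exact sq_mod r (h5 ▸ p.symm)

theorem Sp.Ctx.c0 (h : S.Ctx) (hU : S.NoU) (hR : S.NoR) (hL : ¬ S.LL) : ES G := by
  have ty : ∀ w : G, orderOf w = 2 → 2 < (fixedBy Ω w).ncard →
      (8 ≤ (fixedBy Ω w).ncard ∧ ∃ N, S.DS (fixedBy Ω w) N) ∨ S.TyL (fixedBy Ω w) := fun w w2 h2 => by
    rcases h.ty_fix w2 h2 with k | k | ⟨q, k⟩ | ⟨q, A, k⟩
    exacts [Or.inl k, Or.inr k, absurd k (hU w w2 q), absurd k (hR w w2 q A)]
  obtain ⟨t, ⟨ht, h8, N, hd⟩, mx⟩ := Set.exists_max_image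
    {w : G | orderOf w = 2 ∧ 8 ≤ (fixedBy Ω w).ncard ∧ ∃ N, S.DS (fixedBy Ω w) N} (fun w => (fixedBy Ω w).ncard)
    (Set.toFinite _) (by
      by_contra k
      exact hL fun w w2 h2 => (ty w w2 h2).resolve_left fun e => k ⟨w, w2, e⟩)
  have n4 : Nat.card Ω % 4 = 0 := by
    obtain ⟨d, h2, e⟩ := hd.pow
    obtain ⟨d, rfl⟩ := Nat.exists_eq_add_of_le h2
    rw [h.par ht, e, pow_add]
    omega
  have hc : S.CS (fixedBy Ω t).ncard := ⟨n4, fun w w2 hne => by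
    have p := h.par w2
    have := (Set.ncard_pos (Set.toFinite _)).2 hne
    exact (ty w w2 (by omega)).imp_left fun k => ⟨k.1, mx w ⟨w2, k⟩, k.2⟩⟩
  refine h.c2 ⟨ht, hd, h.cs_r1 hc ht hd.sf_nt.nonempty le_rfl, fun t' h1 hne hcm c tc t'c => ?_, Or.inl h8⟩
  obtain ⟨g, rfl⟩ := isConj_iff.1 h1
  obtain ⟨y, hV⟩ := h.exists_V4 ht ((Basic.ord g t).trans ht) hcm.symm hne.symm tc t'c
  exact h.c0_nc hc ht h8 hd h1 hV

end Cfsg.Agent.HKS
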