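import Mathlib
import Cfsg.Agent.HKS.Defs
import Cfsg.Agent.S1248
import Cfsg.Agent.Inv.M11D

/-! Piece E2a: small groups of 2-rank two -/

set_option autoImplicit false
set_option linter.unusedSectionVars false

namespace Cfsg.Agent.HKS

open Subgroup MulAction Cfsg.Agent.TT Cfsg.Agent.Perm.TT Cfsg.Agent.Cl.L2
open Cfsg.Agent.KS (St)
open scoped MatrixGroups Pointwise commutatorElement

variable {G Ω : Type*} [Group G] [MulAction G Ω] [Finite G] [Finite Ω] {S : Sp G Ω}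
  {Δ Δ' : Set Ω} {x y : Ω}

section

variable {K : Type*} [Group K] [Finite K] {t r : K} {L₀ : Subgroup K} {q : ℕ}

theorem QD.map (h : QD t r L₀ q) {K' : Type*} [Group K'] (e : K ≃* K') :
    QD (e t) (e r) (L₀.map e.toMonoidHom) q := by
  have hc : Nat.card (L₀.map e.toMonoidHom) = Nat.card L₀ := card_map_of_injective e.injective
  refine ⟨(e.orderOf_eq t).trans h.two, by rw [← map_mul, h.sq], ?_, fun g hg => ?_, ?_, ?_, h.q4, ?_⟩
  · rintro _ ⟨l, hl, rfl⟩; exact (h.le l hl).map e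
  · obtain ⟨g, rfl⟩ := e.surjective g
    rintro _ ⟨l, hl, rfl⟩
    exact ⟨_, h.norm g (e.injective (by rw [map_mul, map_mul]; exact hg)) l hl, by simp⟩
  · rintro _ ⟨l, hl, rfl⟩; exact (h.comm l hl).map e
  · obtain ⟨i, hi, j, hj, h1, h2, h3⟩ := h.quat
    exact ⟨e i, ⟨i, hi, rfl⟩, e j, ⟨j, hj, rfl⟩, by rw [← map_mul, h1], by rw [← map_mul, h2],
      by rw [← map_inv, ← map_inv, ← map_mul, ← map_mul, h3]⟩
  · rw [hc, ← map_commutator]
    exact h.size.imp_right fun k => ⟨k.1, by rw [k.2.1], k.2.2⟩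

theorem QD.subgroupOf (h : QD t r L₀ q) {M : Subgroup K} (ht : t ∈ M) (hr : r ∈ M) (hL : L₀ ≤ M) :
    QD (⟨t, ht⟩ : M) ⟨r, hr⟩ (L₀.subgroupOf M) q := by
  have hc : Nat.card (L₀.subgroupOf M) = Nat.card L₀ := Nat.card_congr (subgroupOfEquivOfLe hL).toEquiv
  refine ⟨(orderOf_mk _ _).trans h.two, Subtype.ext h.sq, fun l hl => Subtype.ext (h.le l hl),
    fun g hg l hl => h.norm g (congrArg Subtype.val hg) l hl, fun l hl => Subtype.ext (h.comm l hl), ?_, h.q4, ?_⟩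
  · obtain ⟨i, hi, j, hj, h1, h2, h3⟩ := h.quat
    exact ⟨⟨i, hL hi⟩, hi, ⟨j, hL hj⟩, hj, Subtype.ext h1, Subtype.ext h2, Subtype.ext h3⟩
  · rw [hc]
    refine h.size.imp_right fun k => ⟨k.1, map_injective M.subtype_injective ?_, k.2.2⟩
    rw [map_commutator, map_subgroupOf_eq_of_le hL, k.2.1]

theorem QD.e2a_t (h : QD t r L₀ q) : t * t = 1 ∧ t ≠ 1 :=
  ⟨by rw [← pow_two, ← h.two, pow_orderOf_eq_one], fun e => by have := h.two; rw [e, orderOf_one] at this; omega⟩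

theorem QD.e2a_r (h : QD t r L₀ q) : orderOf r = 2 ^ 2 :=
  orderOf_eq_prime_pow (by rw [pow_one, pow_two, h.sq]; exact h.e2a_t.2)
    (by rw [show 2 ^ (1 + 1) = 2 * 2 from rfl, pow_mul, pow_two, pow_two, h.sq, h.e2a_t.1])

theorem QD.e2a_syl (h : QD t r L₀ q) : ∃ (P : Sylow 2 K) (i j : K), i ∈ P ∧ j ∈ P ∧ r ∈ P ∧
    ¬ Commute j i ∧ Commute i r ∧ Commute j r ∧ orderOf (i * r) = 2 := by
  obtain ⟨i, hi, j, hj, h1, h2, h3⟩ := h.quat
  have pg : ∀ a : K, a * a = t → IsPGroup 2 (zpowers a) := fun a e => by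
    refine IsPGroup.of_card_dvd_pow (n := 2) ?_
    rw [Nat.card_zpowers]
    exact orderOf_dvd_of_pow_eq_one (by rw [pow_two 2, pow_mul, pow_two, pow_two, e, h.e2a_t.1])
  have nm : ∀ a b : K, a * b * a⁻¹ ∈ zpowers b → a ∈ normalizer (zpowers b : Set K) := fun a b e =>
    mem_normalizer_fintype (by rintro _ ⟨n, rfl⟩; rw [← conj_zpow]; exact zpow_mem e n)
  have c : ∀ a, Commute a r → a ∈ normalizer (zpowers r : Set K) := fun a e =>
    nm a r (by rw [e.eq, mul_inv_cancel_right]; exact mem_zpowers r)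
  have p1 : IsPGroup 2 ↥(zpowers r ⊔ zpowers i) :=
    (pg r h.sq).to_sup_of_normal_left' (pg i h1) (zpowers_le.2 (c i (h.comm i hi)))
  have p2 : IsPGroup 2 ↥((zpowers r ⊔ zpowers i) ⊔ zpowers j) :=
    p1.to_sup_of_normal_left' (pg j h2) (zpowers_le.2 (normalizer_inf_normalizer_le_normalizer_sup _ _
      ⟨c j (h.comm j hj), nm j i (h3 ▸ inv_mem (mem_zpowers i))⟩))
  obtain ⟨P, hP⟩ := p2.exists_le_sylow
  have nc : ¬ Commute j i := fun e => h.e2a_t.2 (by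
    rw [e.eq, mul_inv_cancel_right] at h3
    rw [← h1]; nth_rw 1 [h3]; exact inv_mul_cancel i)
  refine ⟨P, i, j, hP (mem_sup_left (mem_sup_right (mem_zpowers i))), hP (mem_sup_right (mem_zpowers j)),
    hP (mem_sup_left (mem_sup_left (mem_zpowers r))), nc, h.comm i hi, h.comm j hj, orderOf_eq_prime ?_ fun e => ?_⟩
  · rw [(h.comm i hi).mul_pow, pow_two, pow_two, h1, h.sq, h.e2a_t.1]
  · exact nc (eq_inv_of_mul_eq_one_left e ▸ (h.comm j hj).inv_right)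

theorem e2a_step {A B : Subgroup K} (hB : IsPGroup 2 B) (h : A ≤ B) {b : K} (h1 : b ∈ B) (h2 : b ∉ A) {n : ℕ}
    (hn : n ∣ Nat.card A) : 2 * n ∣ Nat.card B := by
  obtain ⟨k, hk⟩ := hB.index (A.subgroupOf B)
  rw [← (A.subgroupOf B).card_mul_index, Nat.card_congr (subgroupOfEquivOfLe h).toEquiv, mul_comm 2]
  refine mul_dvd_mul hn (hk ▸ dvd_pow_self 2 fun e => h2 ?_)
  rw [e, pow_zero, index_eq_one] at hk
  exact (hk.ge (mem_top (⟨b, h1⟩ : B)) :)

theorem QD.sixteen (h : QD t r L₀ q) : 16 ∣ Nat.card K := by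
  obtain ⟨P, i, j, hi, hj, hr, nc, c1, c2, -⟩ := h.e2a_syl
  have k1 : 4 ∣ Nat.card ↥((P : Subgroup K) ⊓ centralizer {i} ⊓ centralizer {j}) := by
    have := orderOf_dvd_natCard (G := K) _ (show r ∈ (P : Subgroup K) ⊓ centralizer {i} ⊓ centralizer {j} from
      ⟨⟨hr, mem_centralizer_singleton_iff.2 c1.symm⟩, mem_centralizer_singleton_iff.2 c2.symm⟩)
    rwa [h.e2a_r] at this
  have k2 := e2a_step P.2.to_inf_left inf_le_left (b := i) ⟨hi, mem_centralizer_singleton_iff.2 rfl⟩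
    (fun k => nc (mem_centralizer_singleton_iff.1 k.2).symm) k1
  exact (e2a_step P.2 inf_le_left hj (fun k => nc (mem_centralizer_singleton_iff.1 k.2)) k2).trans
    (card_subgroup_dvd_card _)

theorem QD.not_m11 (h : QD t r L₀ q) (h2 : Cfsg.PRankLE 2 2 K) : ¬ Cfsg.IsM11 K := by
  have _ := h2
  rintro ⟨hs, hc⟩
  obtain ⟨P, i, j, -, -, -, nc, c1, c2, ho⟩ := h.e2a_syl
  obtain ⟨a, χ, θ, θ', ξ, ζ, η, hT⟩ := Inv.M11.exists_tab2 hc
  have := hT.eq_sq_of_commute hc h.e2a_r ho (c1.symm.mul_right (Commute.refl r))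
  rw [pow_two] at this
  exact nc (mul_right_cancel this ▸ c2)

theorem QD.not_u34 (h : QD t r L₀ q) {F : Type*} [Field F] [Fintype F] (hF : Fintype.card F = 16) :
    IsEmpty (K ≃* Cfsg.PSU 3 F 4) := by
  refine ⟨fun e => ?_⟩
  have := Finite.of_equiv _ e.toEquiv
  obtain ⟨P, i, j, hi, hj, hr, nc, c1, c2, ho⟩ := (h.map e).e2a_syl
  have k : (⟨i * e r, mul_mem hi hr⟩ : (P : Subgroup _)) ∈ center _ :=
    (S1248.result hF P).2.2.1 ▸ subset_closure ((orderOf_mk _ _).trans ho)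
  have k1 : j * (i * e r) = i * e r * j := congrArg Subtype.val (mem_center_iff.1 k ⟨j, hj⟩)
  rw [mul_assoc, ← c2.eq, ← mul_assoc, ← mul_assoc] at k1
  exact nc (mul_right_cancel k1)

end

end Cfsg.Agent.HKS
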