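import Mathlib
import Cfsg.Agent.HKS.LC
import Cfsg.Agent.Cl.PSL2Norm

/-! Piece LFC: the linear type with `q ≡ 3 (mod 4)`, part one -/

set_option autoImplicit false
set_option linter.unusedSectionVars false

namespace Cfsg.Agent.HKS

open Subgroup MulAction Cfsg.Agent.TT Cfsg.Agent.Perm.TT Cfsg.Agent.Cl.L2
open Cfsg.Agent.KS (St)
open scoped MatrixGroups Pointwise commutatorElement

variable {G Ω : Type*} [Group G] [MulAction G Ω] [Finite G] [Finite Ω] {S : Sp G Ω}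
  {Δ Δ' : Set Ω} {x y : Ω}

namespace LFC

section Field

variable {F : Type} [Field F]

theorem nsq [Fintype F] (h4 : Fintype.card F % 4 = 3) : ¬ IsSquare (-1 : F) := by
  rw [FiniteField.isSquare_neg_one_iff]; exact not_not.2 h4

theorem sq_or [Fintype F] (h4 : Fintype.card F % 4 = 3) (b : F) : IsSquare b ∨ IsSquare (-b) := by
  classical
  by_contra h
  rw [not_or] at h
  have h1 := quadraticChar_neg_one_iff_not_isSquare.2 h.1
  have h2 := quadraticChar_neg_one_iff_not_isSquare.2 h.2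
  rw [← neg_one_mul, map_mul, h1, quadraticChar_neg_one_iff_not_isSquare.2 (nsq h4)] at h2
  norm_num at h2

theorem aut_neg [Fintype F] (h4 : Fintype.card F % 4 = 3) (τ : F ≃+* F) {b : F} (e : τ b = -b) : b = 0 := by
  by_contra hb
  have key : ∀ b : F, b ≠ 0 → τ b = -b → ¬ IsSquare b := by
    rintro _ hb e ⟨c, rfl⟩
    have hc : c ≠ 0 := left_ne_zero_of_mul hb
    refine nsq h4 ⟨τ c / c, ?_⟩
    rw [div_mul_div_comm, ← map_mul, e, neg_div, div_self hb]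
  exact (sq_or h4 b).elim (key b hb e) (key (-b) (neg_ne_zero.2 hb) (by rw [map_neg, e]))

theorem aut_eq_one [Fintype F] (h4 : Fintype.card F % 4 = 3) (k : ℕ) :
    ∀ σ : F ≃+* F, (∀ a, σ^[2 ^ k] a = a) → ∀ a, σ a = a := by
  induction k with
  | zero => exact fun σ h => h
  | succ k ih =>
    intro σ h a
    have h2 := ih (σ.trans σ) (fun a => by
      rw [pow_succ', Function.iterate_mul] at h
      exact h a) a
    exact (sub_eq_zero.1 (aut_neg h4 σ (b := a - σ a) (by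
      rw [map_sub, show σ (σ a) = a from h2, neg_sub]))).symm

theorem pm_of_pow [Fintype F] (h4 : Fintype.card F % 4 = 3) (k : ℕ) :
    ∀ l : F, l ^ 2 ^ k = 1 → l = 1 ∨ l = -1 := by
  induction k with
  | zero => exact fun l h => Or.inl (by simpa using h)
  | succ k ih =>
    intro l h
    rw [pow_succ', pow_mul] at h
    exact sq_eq_one_iff.1 ((ih _ h).resolve_right fun e => nsq h4 ⟨l, by rw [← e, sq]⟩)

theorem tau_ne (h2 : (2 : F) ≠ 0) {α : PGL(2, F)} (a1 : α ≠ 1) (a2 : α * α = 1) : tau α ≠ 4 := by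
  rw [(mul_self_eq_one_iff_tau a1).1 a2]; exact (four_ne_zero_of_two h2).symm

/-- A torus has at most one involution. -/
theorem tor_inv (h2 : (2 : F) ≠ 0) {α δ : PGL(2, F)} (a1 : α ≠ 1) (a2 : α * α = 1) (hδ : δ ∈ tor α)
    (d2 : δ * δ = 1) : δ = 1 ∨ δ = α := by
  refine or_iff_not_imp_left.2 fun d1 => ?_
  obtain ⟨A, hA, rfl⟩ := exists_pm α
  obtain ⟨D, hD, rfl⟩ := exists_pm δ
  rw [mul_self_eq_one_iff_tau a1, tau_pm_eq_iff hA, zero_mul, sq_eq_zero_iff] at a2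
  rw [mul_self_eq_one_iff_tau d1, tau_pm_eq_iff hD, zero_mul, sq_eq_zero_iff] at d2
  obtain ⟨u, v, rfl⟩ := (pm_mem_tor' hA a1 hD).1 hδ
  have hu : u = 0 := by
    rw [Matrix.trace_add, Matrix.trace_smul, Matrix.trace_smul, a2, Matrix.trace_one, smul_zero, add_zero,
      Fintype.card_fin, smul_eq_mul] at d2
    exact (mul_eq_zero.1 d2).resolve_right (by exact_mod_cast h2)
  rw [hu, zero_smul, zero_add] at hD ⊢
  exact pm_smul (by rintro rfl; simp at hD) A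

theorem pgl_four (h2 : (2 : F) ≠ 0) {α β γ : PGL(2, F)} (a2 : α * α = 1) (b2 : β * β = 1)
    (ab : α * β = β * α) (a1 : α ≠ 1) (b1 : β ≠ 1) (c1 : α * β ≠ 1) (ga : γ * α = α * γ)
    (gb : γ * β = β * γ) : γ = 1 ∨ γ * α = 1 ∨ γ * β = 1 ∨ γ * (α * β) = 1 := by
  have ht := tau_ne h2 a1 a2
  have hβ : β ∉ tor α := fun h => (tor_inv h2 a1 a2 h b2).elim b1 fun e => c1 (by rw [e, a2])
  have nβ := mem_ntor_of_comm a1 ab.symm
  have key : ∀ δ ∈ tor α, δ * β = β * δ → δ = 1 ∨ δ = α := fun δ hδ e => tor_inv h2 a1 a2 hδ (by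
    have := conj_eq_inv_of_mem_ntor ht nβ hβ hδ
    rw [← e, mul_inv_cancel_right] at this
    exact mul_eq_one_iff_eq_inv.2 this)
  by_cases hγ : γ ∈ tor α
  · exact (key γ hγ gb).imp_right fun e => Or.inl (by rw [e, a2])
  · rcases key _ (mul_mem_tor_of_not_mem ht (mem_ntor_of_comm a1 ga) hγ nβ hβ) (by rw [← mul_assoc, gb]) with e | e
    · exact Or.inr (Or.inr (Or.inl e))
    · exact Or.inr (Or.inr (Or.inr (by rw [ab, ← mul_assoc, e, a2])))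

theorem pgl_g2 (h2 : (2 : F) ≠ 0) {ζ γ κ : PGL(2, F)} (z2 : ζ * ζ = 1) (z1 : ζ ≠ 1) (e : γ * γ = ζ)
    (kz : κ * ζ = ζ * κ) (k2 : κ * κ ≠ 1) : γ * κ = κ * γ := by
  have key : ∀ δ, δ * ζ = ζ * δ → δ * δ ≠ 1 → δ ∈ tor ζ := fun δ h1 h3 => by_contra fun h =>
    h3 (mul_self_of_mem_ntor (tau_ne h2 z1 z2) (mem_ntor_of_comm z1 h1) h)
  exact tor_comm z1 (key γ (by rw [← e, mul_assoc]) (by rwa [e])) (key κ kz k2)

end Field

variable {F : Type} [Field F] {E : P1 F → Ω} {π : SL(2, F) →* G}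

/-- `g` acts on the line as `γ`. -/
def Li (E : P1 F → Ω) (g : G) (γ : PGL(2, F)) : Prop := ∀ p, g • E p = E (γ • p)

theorem Li.mul {g k : G} {γ κ : PGL(2, F)} (h : Li E g γ) (h' : Li E k κ) : Li E (g * k) (γ * κ) :=
  fun p => by rw [mul_smul, mul_smul, h', h]

theorem Li.inv {g : G} {γ : PGL(2, F)} (h : Li E g γ) : Li E g⁻¹ γ⁻¹ :=
  fun p => by rw [inv_smul_eq_iff, h, smul_inv_smul]

theorem Li.mem_W (h : S.LC Δ E π) {g : G} {γ : PGL(2, F)} (hg : Li E g γ) : g ∈ W G Δ ↔ γ = 1 := by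
  rw [HKS.mem_W, ← h.range]
  refine ⟨fun H => ?_, ?_⟩
  · have : ∀ p, γ • p = p := fun p => h.inj ((hg p).symm.trans (H _ ⟨p, rfl⟩))
    exact eq_one_of_fix_std (this _) (this _) (this _)
  · rintro rfl _ ⟨p, rfl⟩
    rw [hg, one_smul]

theorem Li.comm (h : S.LC Δ E π) {g k : G} {γ κ : PGL(2, F)} (hg : Li E g γ) (hk : Li E k κ) :
    g * k * g⁻¹ * k⁻¹ ∈ W G Δ ↔ γ * κ = κ * γ := by
  rw [(((hg.mul hk).mul hg.inv).mul hk.inv).mem_W h, mul_inv_eq_one, mul_inv_eq_iff_eq_mul]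

theorem pi_mem (h : S.LC Δ E π) (M : SL(2, F)) : π M ∈ S.L Δ := h.rng ▸ ⟨M, rfl⟩

theorem li_L (h : S.LC Δ E π) {l : G} (hl : l ∈ S.L Δ) : ∃ γ, Li E l γ := by
  obtain ⟨M, rfl⟩ : l ∈ π.range := h.rng ▸ hl
  exact ⟨_, h.act M⟩

theorem up_smul (h : S.LC Δ E π) (a s : F) : π (up a) • E (pt s) = E (pt (s + a)) := by
  rw [h.act, (pm_smul_pt_eq_pt (by simp)).2]
  simp [up]

theorem up_neg (a : F) : up (-a) = (up a)⁻¹ := eq_inv_of_mul_eq_one_left (Subtype.ext (by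
  rw [Matrix.SpecialLinearGroup.coe_mul]
  ext i j; fin_cases i <;> fin_cases j <;> simp [up, Matrix.mul_apply, Fin.sum_univ_two]))

/-- An element with square determinant lies in `L W`. -/
theorem mem_LW (h : S.LC Δ E π) {g : G} {A : M2 F} (hA : A.det ≠ 0) (hg : Li E g (pm A))
    (hs : IsSquare A.det) : ∃ l ∈ S.L Δ, ∃ w ∈ W G Δ, g = l * w := by
  obtain ⟨c, hc⟩ := hs
  have c0 : c ≠ 0 := left_ne_zero_of_mul (hc ▸ hA)
  let M : SL(2, F) := ⟨c⁻¹ • A, by rw [det_smul_two, hc]; field_simp⟩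
  have hM : Li E (π M) (pm A) := pm_smul (inv_ne_zero c0) A ▸ h.act M
  exact ⟨π M, pi_mem h M, (π M)⁻¹ * g, ((hM.inv.mul hg).mem_W h).2 (inv_mul_cancel _),
    (mul_inv_cancel_left _ _).symm⟩

/-- An element acting as `s ↦ -s` inverts the root group. -/
theorem inv_of_neg (h : S.LC Δ E π) {g : G} (hg : g ∈ St G Δ) (gx : g • E inf = E inf)
    (hs : ∀ s, g • E (pt s) = E (pt (-s))) : Inv g (S.UD Δ (E inf)) := by
  obtain ⟨l, σ, -, h1, h2⟩ := h.semi0 hg gx (by rw [hs, neg_zero])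
  intro u hu
  obtain ⟨a, rfl⟩ := h.ud u hu
  rw [h2, pt_injective (h.inj ((h1 a).symm.trans (hs a))), up_neg, map_inv]

theorem lc3 (h : S.LT Δ) (h4 : Δ.ncard % 4 = 0) (hx : x ∈ Δ) (hy : y ∈ Δ) (hxy : y ≠ x) :
    ∃ (F : Type) (_ : Field F) (_ : Fintype F) (E : P1 F → Ω) (π : SL(2, F) →* G),
      S.LC Δ E π ∧ E inf = x ∧ E (pt 0) = y ∧ Fintype.card F % 4 = 3 := by
  obtain ⟨F, _, _, E, π, h1, h2, h3, h5⟩ := h.exists_lc hx hy hxy
  exact ⟨F, _, _, E, π, h1, h2, h3, by omega⟩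

theorem lc3' (h : S.LT Δ) (h4 : Δ.ncard % 4 = 0) :
    ∃ (F : Type) (_ : Field F) (_ : Fintype F) (E : P1 F → Ω) (π : SL(2, F) →* G),
      S.LC Δ E π ∧ Fintype.card F % 4 = 3 := by
  obtain ⟨K, _, _, E, hE, hr, -⟩ := h.ty
  obtain ⟨F, _, _, E, π, h1, -, -, h5⟩ := lc3 h h4 (hr ▸ ⟨inf, rfl⟩ : E inf ∈ Δ) (hr ▸ ⟨pt 0, rfl⟩ : E (pt 0) ∈ Δ)
    (hE.ne (pt_ne_inf 0))
  exact ⟨F, _, _, E, π, h1, h5⟩

end LFC

namespace Sp.LT

open LFC

/-- 2-elements act linearly. -/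
theorem lin3 {F : Type} [Field F] [Fintype F] {E : P1 F → Ω} {π : SL(2, F) →* G}
    (h : S.LC Δ E π) (h4 : Fintype.card F % 4 = 3) {g : G} (hg : g ∈ St G Δ) {k : ℕ}
    (h2 : g ^ 2 ^ k ∈ W G Δ) : ∃ A : M2 F, A.det ≠ 0 ∧ ∀ p, g • E p = E (pm A • p) := by
  obtain ⟨A, hA, σ, hσ⟩ := h.semi g hg
  have pw : ∀ n : ℕ, ∃ γ : PGL(2, F), g ^ n • E inf = E (γ • inf) ∧
      ∀ s, g ^ n • E (pt s) = E (γ • pt (σ^[n] s)) := fun n => by
    induction n with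
    | zero => exact ⟨1, by simp, by simp⟩
    | succ n ih =>
      obtain ⟨γ, h1, h3⟩ := ih
      refine ⟨pm A * Matrix.ProjGenLinGroup.map σ.toRingHom γ, ?_, fun s => ?_⟩
      · rw [pow_succ', mul_smul, h1, hσ, ptMap_smul, ptMap_inf, mul_smul]
      · rw [pow_succ', mul_smul, h3, hσ, ptMap_smul, ptMap_pt, mul_smul, Function.iterate_succ_apply']
        rfl
  obtain ⟨γ, h1, h3⟩ := pw (2 ^ k)
  have fx : ∀ p, g ^ 2 ^ k • E p = E p := fun p => HKS.mem_W.1 h2 _ (h.range ▸ ⟨p, rfl⟩)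
  have e : γ = 1 := eq_one_of_fix_std (h.inj (h1.symm.trans (fx _)))
    (by have := h.inj ((h3 0).symm.trans (fx _)); rwa [Function.iterate_fixed (map_zero σ)] at this)
    (by have := h.inj ((h3 1).symm.trans (fx _)); rwa [Function.iterate_fixed (map_one σ)] at this)
  have hs := aut_eq_one h4 k σ fun a => by
    have := h.inj ((h3 a).symm.trans (fx _))
    rwa [e, one_smul, pt_inj] at this
  refine ⟨A, hA, fun p => ?_⟩
  rw [hσ]
  rcases eq_inf_or_pt p with rfl | ⟨a, rfl⟩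
  · rw [ptMap_inf]
  · rw [ptMap_pt]; exact congrArg (fun s => E (pm A • pt s)) (hs a)

section

variable {F : Type} [Field F] [Fintype F] {E : P1 F → Ω} {π : SL(2, F) →* G}

theorem lin3_sq (h : S.LC Δ E π) (h4 : Fintype.card F % 4 = 3) {g : G} (hg : g ∈ St G Δ)
    (h2 : g * g ∈ W G Δ) : ∃ A : M2 F, A.det ≠ 0 ∧ Li E g (pm A) :=
  lin3 h h4 hg (k := 1) (by rwa [pow_one, sq])

theorem lin3_el (h : S.LC Δ E π) (h4 : Fintype.card F % 4 = 3) {g : G} (hg : g ∈ St G Δ)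
    (h2 : El2 g) : ∃ A : M2 F, A.det ≠ 0 ∧ Li E g (pm A) :=
  h2.elim fun k hk => lin3 h h4 hg (k := k) (by rw [hk]; exact one_mem _)

end

theorem b1 (h : S.LT Δ) (h4 : Δ.ncard % 4 = 0) {g : G} (hg : g ∈ St G Δ) (h2 : g * g ∈ W G Δ)
    (hf : ∀ c ∈ Δ, g • c ≠ c) : ∃ l ∈ S.L Δ, ∃ w ∈ W G Δ, g = l * w := by
  obtain ⟨F, _, _, E, π, hc, q3⟩ := lc3' h h4
  obtain ⟨A, hA, hl⟩ := lin3_sq hc q3 hg h2
  have nf : ∀ p, pm A • p ≠ p := fun p e => hf (E p) (hc.range ▸ ⟨p, rfl⟩) (by rw [hl, e])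
  have h1 : pm A ≠ 1 := fun e => nf inf (by rw [e, one_smul])
  have h3 := ((hl.mul hl).mem_W hc).1 h2
  rw [mul_self_eq_one_iff_tau h1, tau_pm_eq_iff hA, zero_mul, sq_eq_zero_iff] at h3
  refine mem_LW hc hA hl ((sq_or q3 _).resolve_right ?_)
  rintro ⟨s, hs⟩
  obtain ⟨p, hp⟩ := exists_fix_of_root hA (l := s) (by rw [h3]; linear_combination -hs)
  exact nf p hp

theorem b3 (h : S.LT Δ) (h4 : Δ.ncard % 4 = 0) {g : G} (hg : g ∈ St G Δ) (h2 : El2 g)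
    (hx : x ∈ Δ) (hy : y ∈ Δ) (hxy : y ≠ x) (gx : g • x = x) (gy : g • y = y) :
    g ∈ W G Δ ∨ Inv g (S.UD Δ x) := by
  obtain ⟨F, _, _, E, π, hc, rfl, rfl, q3⟩ := lc3 h h4 hx hy hxy
  obtain ⟨A, hA, hl⟩ := lin3_el hc q3 hg h2
  obtain ⟨a, b, ha, e⟩ := exists_aff (hc.inj ((hl _).symm.trans gx))
  rw [e] at hl
  obtain rfl : b = 0 := by
    have := hc.inj ((hl _).symm.trans gy)
    rwa [aff_smul_pt ha, pt_inj, mul_zero, zero_add] at this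
  have hs : ∀ s, g • E (pt s) = E (pt (a * s)) := fun s => by rw [hl, aff_smul_pt ha, add_zero]
  have pw : ∀ n : ℕ, g ^ n • E (pt 1) = E (pt (a ^ n)) := fun n => by
    induction n with
    | zero => simp
    | succ n ih => rw [pow_succ', mul_smul, ih, hs, pow_succ']
  obtain ⟨k, hk⟩ := h2
  have h1 := pw (2 ^ k)
  rw [hk, one_smul] at h1
  rcases pm_of_pow q3 k a (pt_injective (hc.inj h1)).symm with rfl | rfl
  · exact Or.inl ((hl.mem_W hc).2 aff_one_zero)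
  · exact Or.inr (inv_of_neg hc hg gx fun s => by rw [hs, neg_one_mul])

theorem e1 (h : S.LT Δ) (h4 : Δ.ncard % 4 = 0) {μ : G} (hμ : μ ∈ St G Δ) (h2 : μ * μ ∈ W G Δ)
    (hx : x ∈ Δ) (hy : y ∈ Δ) (hxy : y ≠ x) (sx : μ • x = y) (sy : μ • y = x) :
    ∃ c ∈ S.UD Δ x, c ≠ 1 ∧ (μ • c • y = c • y ∨ μ • c • y = c⁻¹ • y) := by
  obtain ⟨F, _, _, E, π, hc, rfl, rfl, q3⟩ := lc3 h h4 hx hy hxy
  obtain ⟨A, hA, hl⟩ := lin3_sq hc q3 hμ h2
  have h0 := (pm_smul_inf_eq_pt hA).1 (hc.inj ((hl _).symm.trans sx))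
  have h1 := (pm_smul_pt_eq_inf hA).1 (hc.inj ((hl _).symm.trans sy))
  rw [zero_mul] at h0
  rw [mul_zero, zero_add] at h1
  have hd : A 0 1 * A 1 0 ≠ 0 := by
    rwa [Matrix.det_fin_two, h0, zero_mul, zero_sub, neg_ne_zero] at hA
  have hb := left_ne_zero_of_mul hd
  have hc' := right_ne_zero_of_mul hd
  obtain ⟨s, s0, hs⟩ : ∃ s : F, s ≠ 0 ∧ (pm A • pt s = pt s ∨ pm A • pt s = pt (-s)) := by
    simp only [pm_smul_pt_eq_pt hA, h0, h1]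
    rcases sq_or q3 (A 0 1 / A 1 0) with ⟨s, hs⟩ | ⟨s, hs⟩
    · refine ⟨s, left_ne_zero_of_mul (hs ▸ div_ne_zero hb hc'), Or.inl ?_⟩
      rw [div_eq_iff hc'] at hs
      linear_combination hs
    · refine ⟨s, left_ne_zero_of_mul (hs ▸ neg_ne_zero.2 (div_ne_zero hb hc')), Or.inr ?_⟩
      rw [← neg_div, div_eq_iff hc'] at hs
      linear_combination -hs
  refine ⟨π (up s), mem_UD.2 ⟨hc.up_mem s, L_le_St (pi_mem hc _)⟩, fun e => s0 ?_, ?_⟩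
  · have := up_smul hc s 0
    rw [e, one_smul, zero_add] at this
    exact (pt_injective (hc.inj this)).symm
  · rw [← map_inv, ← up_neg, up_smul hc, up_smul hc, zero_add, zero_add, hl]
    exact hs.imp (congrArg E) (congrArg E)

/-- Four-groups are self-centralizing. -/
theorem four_self (h : S.LT Δ) (h4 : Δ.ncard % 4 = 0) {a b g : G} (ha : a ∈ St G Δ)
    (hb : b ∈ St G Δ) (hg : g ∈ St G Δ) (a2 : a * a ∈ W G Δ) (b2 : b * b ∈ W G Δ)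
    (ab : a * b * a⁻¹ * b⁻¹ ∈ W G Δ) (a1 : a ∉ W G Δ) (b1 : b ∉ W G Δ) (c1 : a * b ∉ W G Δ)
    (g2 : El2 g) (ga : g * a * g⁻¹ * a⁻¹ ∈ W G Δ) (gb : g * b * g⁻¹ * b⁻¹ ∈ W G Δ) :
    g ∈ W G Δ ∨ g * a ∈ W G Δ ∨ g * b ∈ W G Δ ∨ g * (a * b) ∈ W G Δ := by
  obtain ⟨F, _, _, E, π, hc, q3⟩ := lc3' h h4
  obtain ⟨A, -, la⟩ := lin3_sq hc q3 ha a2
  obtain ⟨B, -, lb⟩ := lin3_sq hc q3 hb b2
  obtain ⟨C, -, lg⟩ := lin3_el hc q3 hg g2
  rw [lg.mem_W hc, (lg.mul la).mem_W hc, (lg.mul lb).mem_W hc, (lg.mul (la.mul lb)).mem_W hc]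
  exact pgl_four hc.two (((la.mul la).mem_W hc).1 a2) (((lb.mul lb).mem_W hc).1 b2) ((la.comm hc lb).1 ab)
    (mt (la.mem_W hc).2 a1) (mt (lb.mem_W hc).2 b1) (mt ((la.mul lb).mem_W hc).2 c1) ((lg.comm hc la).1 ga)
    ((lg.comm hc lb).1 gb)

theorem g2 (h : S.LT Δ) (h4 : Δ.ncard % 4 = 0) {z g k : G} (hz : z ∈ S.L Δ)
    (z2 : z * z ∈ W G Δ) (z1 : z ∉ W G Δ) (hg : g ∈ St G Δ) (g2 : El2 g)
    (e : g * g * z⁻¹ ∈ W G Δ) (hk : k ∈ S.L Δ) (kz : k * z * k⁻¹ * z⁻¹ ∈ W G Δ)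
    (k2 : k * k ∉ W G Δ) : g * k * g⁻¹ * k⁻¹ ∈ W G Δ := by
  obtain ⟨F, _, _, E, π, hc, q3⟩ := lc3' h h4
  obtain ⟨ζ, lz⟩ := li_L hc hz
  obtain ⟨κ, lk⟩ := li_L hc hk
  obtain ⟨C, -, lg⟩ := lin3_el hc q3 hg g2
  exact (lg.comm hc lk).2 (pgl_g2 hc.two (((lz.mul lz).mem_W hc).1 z2) (mt (lz.mem_W hc).2 z1)
    (mul_inv_eq_one.1 ((((lg.mul lg).mul lz.inv).mem_W hc).1 e)) ((lk.comm hc lz).1 kz)
    (mt ((lk.mul lk).mem_W hc).2 k2))

theorem g3 (h : S.LT Δ) (h4 : Δ.ncard % 4 = 0) {g : G} (hg : g ∈ St G Δ) (g2 : El2 g)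
    (hn : g ∉ S.L Δ ⊔ W G Δ) (hx : x ∈ Δ) (hy : y ∈ Δ) (hxy : y ≠ x) :
    ∃ l ∈ S.L Δ, (l * g) • x = x ∧ (l * g) • y = y ∧ Inv (l * g) (S.UD Δ x) := by
  obtain ⟨F, _, _, E, π, hc, rfl, rfl, q3⟩ := lc3 h h4 hx hy hxy
  obtain ⟨A, hA, hl⟩ := lin3_el hc q3 hg g2
  obtain ⟨c, e⟩ := (sq_or q3 A.det).resolve_left fun hs => by
    obtain ⟨l, h1, w, h2, rfl⟩ := mem_LW hc hA hl hs
    exact hn (mul_mem_sup h1 h2)
  have c0 : c ≠ 0 := left_ne_zero_of_mul (e ▸ neg_ne_zero.2 hA)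
  have m0 : (-1 : F) ≠ 0 := neg_ne_zero.2 one_ne_zero
  let M : SL(2, F) := ⟨c⁻¹ • (!![-1, 0; 0, 1] * A.adjugate), by
    rw [det_smul_two, Matrix.det_mul, det_adjugate_two, Matrix.det_fin_two_of]
    field_simp
    linear_combination e⟩
  have hM : Li E (π M * g) (aff (-1) 0) := by
    have := Li.mul (hc.act M) hl
    rwa [pm_smul (inv_ne_zero c0), pm_mul (aff_det m0 0) (by rwa [det_adjugate_two]), pm_adjugate hA,
      inv_mul_cancel_right] at this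
  have gx : (π M * g) • E inf = E inf := by rw [hM, aff_smul_inf m0]
  have hs : ∀ s, (π M * g) • E (pt s) = E (pt (-s)) := fun s => by
    rw [hM, aff_smul_pt m0, add_zero, neg_one_mul]
  exact ⟨π M, pi_mem hc M, gx, by rw [hs, neg_zero],
    inv_of_neg hc (mul_mem (L_le_St (pi_mem hc M)) hg) gx hs⟩

end Sp.LT

end Cfsg.Agent.HKS
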