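import Mathlib
import Cfsg.Agent.HKS.LC
import Cfsg.Agent.HKS.LFC

/-! Piece LFD: the linear type with `q ≡ 3 (mod 4)`, part two -/

set_option autoImplicit false

namespace Cfsg.Agent.HKS

open Subgroup MulAction Cfsg.Agent.TT Cfsg.Agent.Perm.TT Cfsg.Agent.Cl.L2
open Cfsg.Agent.KS (St)
open scoped MatrixGroups Pointwise commutatorElement

section Aux

variable {F : Type} [Field F]

theorem lfd_sq [Finite F] (c : F) : ∃ a b : F, a ^ 2 + b ^ 2 = c := by
  classical
  have := Fintype.ofFinite F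
  by_cases h2 : Fintype.card F % 2 = 1
  · obtain ⟨a, b, hab⟩ := FiniteField.exists_root_sum_quadratic (R := F)
      (f := Polynomial.X ^ 2) (g := Polynomial.X ^ 2 - Polynomial.C c)
      (Polynomial.degree_X_pow 2) (Polynomial.degree_X_pow_sub_C (by norm_num) _) h2
    refine ⟨a, b, ?_⟩
    simp at hab
    linear_combination hab
  · have h3 : ringChar F = 2 := FiniteField.even_card_iff_char_two.2 (by omega)
    obtain ⟨a, ha⟩ := FiniteField.isSquare_of_char_two h3 c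
    exact ⟨a, 0, by rw [ha]; ring⟩

/-- The rotation by a right angle. -/
def lfdJ : SL(2, F) := ⟨!![0, -1; 1, 0], by simp [Matrix.det_fin_two]⟩

/-- A reflection of determinant one. -/
def lfdV (u w : F) (h : u ^ 2 + w ^ 2 = -1) : SL(2, F) :=
  ⟨!![u, w; w, -u], by rw [Matrix.det_fin_two_of]; linear_combination -h⟩

theorem lfdJ_val : (lfdJ : SL(2, F)).1 = !![0, -1; 1, 0] := rfl

theorem lfdV_val (u w : F) (h : u ^ 2 + w ^ 2 = -1) : (lfdV u w h).1 = !![u, w; w, -u] := rfl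

theorem lfd_up_val (a : F) : (up a).1 = !![1, a; 0, 1] := rfl

theorem lfdJ_sq : (lfdJ : SL(2, F)) * lfdJ = -1 := by
  ext i j
  fin_cases i <;> fin_cases j <;> simp [lfdJ_val, Matrix.mul_apply, Fin.sum_univ_two]

theorem lfdV_sq (u w : F) (h : u ^ 2 + w ^ 2 = -1) : lfdV u w h * lfdV u w h = -1 := by
  ext i j
  fin_cases i <;> fin_cases j <;> simp [lfdV_val, Matrix.mul_apply, Fin.sum_univ_two] <;>
    first | linear_combination h | ring

theorem lfdV_J (u w : F) (h : u ^ 2 + w ^ 2 = -1) :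
    lfdV u w h * lfdJ = -(lfdJ * lfdV u w h) := by
  ext i j
  fin_cases i <;> fin_cases j <;> simp [lfdV_val, lfdJ_val, Matrix.mul_apply, Fin.sum_univ_two]

theorem lfd_neg_one_ne (h2 : (2 : F) ≠ 0) : (-1 : SL(2, F)) ≠ 1 := by
  intro h
  have := congrArg (fun M : SL(2, F) => M.1 0 0) h
  simp at this
  exact h2 (by linear_combination -this)

/-- Elements of order four are conjugate. -/
theorem lfd_conj [Finite F] (h2 : (2 : F) ≠ 0) {Z : SL(2, F)} (hZ : Z * Z = -1) :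
    ∃ L : SL(2, F), Z = L * lfdJ * L⁻¹ := by
  have hdet := Z.2
  have e : Z.1 * Z.1 = -1 := congrArg Subtype.val hZ
  have e00 := congrFun (congrFun e 0) 0
  have e01 := congrFun (congrFun e 0) 1
  have e10 := congrFun (congrFun e 1) 0
  have e11 := congrFun (congrFun e 1) 1
  simp [Matrix.mul_apply, Fin.sum_univ_two] at e00 e01 e10 e11
  have hd := hdet
  rw [Matrix.det_fin_two] at hd
  have htr : Z 1 1 = -Z 0 0 := by
    by_contra hne
    have ht : Z 0 0 + Z 1 1 ≠ 0 := fun h => hne (by linear_combination h)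
    have h1 : Z 0 0 = 0 := by
      apply mul_left_cancel₀ ht
      linear_combination e00 + hd
    have h3 : Z 1 1 = 0 := by
      apply mul_left_cancel₀ ht
      linear_combination e11 + hd
    exact ht (by rw [h1, h3]; ring)
  have key : ∃ p t : F, Z 1 0 * p ^ 2 - 2 * Z 0 0 * p * t - Z 0 1 * t ^ 2 = 1 := by
    by_cases hc : Z 1 0 = 0
    · have ha : Z 0 0 ≠ 0 := by
        intro ha
        rw [ha, hc] at e00
        simp at e00
      refine ⟨(-1 - Z 0 1) / (2 * Z 0 0), 1, ?_⟩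
      rw [hc]
      field_simp
      ring
    · obtain ⟨X, t, hX⟩ := lfd_sq (Z 1 0)
      refine ⟨(X + Z 0 0 * t) / Z 1 0, t, ?_⟩
      field_simp
      linear_combination hX - t ^ 2 * e00
  obtain ⟨p, t, hpt⟩ := key
  obtain ⟨L, hL⟩ : ∃ L : SL(2, F),
      L.1 = !![p, Z 0 0 * p + Z 0 1 * t; t, Z 1 0 * p + Z 1 1 * t] := by
    refine ⟨⟨_, ?_⟩, rfl⟩
    rw [Matrix.det_fin_two_of, htr]
    linear_combination hpt
  refine ⟨L, ?_⟩
  rw [eq_mul_inv_iff_mul_eq]
  ext i j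
  fin_cases i <;> fin_cases j <;> simp [lfdJ_val, hL, Matrix.mul_apply, Fin.sum_univ_two]
  · linear_combination p * e00 + t * e01
  · linear_combination p * e10 + t * e11

/-- The regular representation of `F[i]`. -/
def lfdMat : QuadraticAlgebra F (-1) 0 →* M2 F where
  toFun x := !![x.re, -x.im; x.im, x.re]
  map_one' := by
    ext i j
    fin_cases i <;> fin_cases j <;> simp [QuadraticAlgebra.re_one, QuadraticAlgebra.im_one]
  map_mul' x y := by
    ext i j
    fin_cases i <;> fin_cases j <;> simp [Matrix.mul_apply, Fin.sum_univ_two] <;> ring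

theorem lfdMat_apply (x : QuadraticAlgebra F (-1) 0) :
    lfdMat x = !![x.re, -x.im; x.im, x.re] := rfl

theorem lfdMat_inj : Function.Injective (lfdMat (F := F)) := by
  intro x y h
  have e0 := congrFun (congrFun h 0) 0
  have e1 := congrFun (congrFun h 1) 0
  simp [lfdMat_apply] at e0 e1
  exact QuadraticAlgebra.ext e0 e1

theorem lfd_norm (x : QuadraticAlgebra F (-1) 0) :
    QuadraticAlgebra.norm x = x.re ^ 2 + x.im ^ 2 := by
  rw [QuadraticAlgebra.norm_def]; ring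

/-- The anisotropic torus. -/
theorem lfd_torus [Fintype F] (h2 : (2 : F) ≠ 0) (h4 : Fintype.card F % 4 = 3) :
    ∃ (τ : SL(2, F)) (u w : F), u ^ 2 + w ^ 2 = -1 ∧
      τ.1 = !![u ^ 2 - w ^ 2, -(2 * u * w); 2 * u * w, u ^ 2 - w ^ 2] ∧
      orderOf τ = Fintype.card F + 1 ∧ ∃ i : ℕ, lfdJ = τ ^ i := by
  classical
  have hns : ∀ r : F, r ^ 2 ≠ -1 + 0 * r := by
    intro r hr
    have : IsSquare (-1 : F) := ⟨r, by linear_combination -hr⟩
    exact (FiniteField.isSquare_neg_one_iff.1 this) h4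
  haveI : Fact (∀ r : F, r ^ 2 ≠ -1 + 0 * r) := ⟨hns⟩
  set K := QuadraticAlgebra F (-1) 0 with hK
  haveI : Finite K := Finite.of_equiv _ (QuadraticAlgebra.equivProd (-1 : F) 0).symm
  have hcK : Nat.card K = Fintype.card F * Fintype.card F := by
    rw [Nat.card_congr (QuadraticAlgebra.equivProd (-1 : F) 0), Nat.card_prod,
      Nat.card_eq_fintype_card]
  obtain ⟨g, hg⟩ := IsCyclic.exists_generator (α := Kˣ)
  obtain ⟨r, hr⟩ : ∃ r, Fintype.card F = 4 * r + 3 := ⟨Fintype.card F / 4, by omega⟩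
  have hog : orderOf g = (4 * r + 2) * (4 * r + 4) := by
    rw [orderOf_eq_card_of_forall_mem_zpowers hg, Nat.card_units, hcK, hr]
    have : (4 * r + 3) * (4 * r + 3) = (4 * r + 2) * (4 * r + 4) + 1 := by ring
    omega
  have hpow : ∀ y : K, y ≠ 0 → ∃ j : ℕ, y = (g : K) ^ j := by
    intro y hy
    obtain ⟨j, hj⟩ := (mem_powers_iff_mem_zpowers.2 (hg (Units.mk0 y hy)))
    exact ⟨j, by rw [← Units.val_pow_eq_pow_val]; exact (congrArg Units.val hj).symm⟩
  have hN0 : QuadraticAlgebra.norm (g : K) ≠ 0 := fun h =>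
    g.ne_zero (QuadraticAlgebra.norm_eq_zero_iff_eq_zero.1 h)
  have hN1 : QuadraticAlgebra.norm (g : K) ^ (4 * r + 2) = 1 := by
    have := FiniteField.pow_card_sub_one_eq_one _ hN0
    rwa [hr] at this
  have hN2 : QuadraticAlgebra.norm (g : K) ^ (2 * r + 1) = -1 := by
    have h1 : (QuadraticAlgebra.norm (g : K) ^ (2 * r + 1)) ^ 2 = 1 := by
      rw [← pow_mul, show (2 * r + 1) * 2 = 4 * r + 2 by ring, hN1]
    rcases sq_eq_one_iff.1 h1 with h | h
    · exfalso
      obtain ⟨a, b, hab⟩ := lfd_sq (-1 : F)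
      have hy : (⟨a, b⟩ : K) ≠ 0 := by
        intro h0
        have := lfd_norm (⟨a, b⟩ : K)
        rw [h0, QuadraticAlgebra.norm_zero] at this
        have h3 : a ^ 2 + b ^ 2 = 0 := by
          have ha : a = 0 := congrArg QuadraticAlgebra.re h0
          have hb : b = 0 := congrArg QuadraticAlgebra.im h0
          rw [ha, hb]; ring
        rw [h3] at hab
        simp at hab
      obtain ⟨j, hj⟩ := hpow _ hy
      have h5 : QuadraticAlgebra.norm (g : K) ^ j = -1 := by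
        rw [← map_pow, ← hj, lfd_norm]; exact hab
      have h6 : (-1 : F) ^ (2 * r + 1) = 1 := by
        rw [← h5, ← pow_mul, mul_comm, pow_mul, h, one_pow]
      rw [pow_succ, pow_mul] at h6
      exact h2 (by linear_combination -h6)
    · exact h
  set ρ : K := (g : K) ^ (2 * r + 1) with hρ
  have hρn : ρ.re ^ 2 + ρ.im ^ 2 = -1 := by rw [← lfd_norm, hρ, map_pow, hN2]
  have hmat : lfdMat (ρ ^ 2) = !![ρ.re ^ 2 - ρ.im ^ 2, -(2 * ρ.re * ρ.im);
      2 * ρ.re * ρ.im, ρ.re ^ 2 - ρ.im ^ 2] := by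
    have a : (ρ ^ 2).re = ρ.re ^ 2 - ρ.im ^ 2 := by
      rw [pow_two ρ, QuadraticAlgebra.re_mul]; ring
    have b : (ρ ^ 2).im = 2 * ρ.re * ρ.im := by
      rw [pow_two ρ, QuadraticAlgebra.im_mul]; ring
    rw [lfdMat_apply, a, b]
  have hdet : (lfdMat (ρ ^ 2)).det = 1 := by
    rw [hmat, Matrix.det_fin_two_of]
    linear_combination (ρ.re ^ 2 + ρ.im ^ 2 - 1) * hρn
  have hρ2 : ρ ^ 2 = ((g ^ (4 * r + 2) : Kˣ) : K) := by
    rw [hρ, ← pow_mul, Units.val_pow_eq_pow_val]; congr 1; ring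
  obtain ⟨τ, hτ⟩ : ∃ τ : SL(2, F), τ.1 = lfdMat (ρ ^ 2) := ⟨⟨_, hdet⟩, rfl⟩
  refine ⟨τ, ρ.re, ρ.im, hρn, hτ.trans hmat, ?_, ?_⟩
  · rw [← orderOf_injective Matrix.SpecialLinearGroup.coeMonoidHom
      Matrix.SpecialLinearGroup.coeMonoidHom_injective]
    change orderOf τ.1 = _
    have e : orderOf (lfdMat (ρ ^ 2)) = orderOf (ρ ^ 2) :=
      orderOf_injective (lfdMat (F := F)) lfdMat_inj _
    rw [hτ, e, hρ2, orderOf_units,
      orderOf_pow_of_dvd (by omega) (by rw [hog]; exact Dvd.intro _ rfl), hog, hr,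
      Nat.mul_div_cancel_left _ (by omega)]
  · have hω : (QuadraticAlgebra.omega : K) ≠ 0 := by
      intro h
      have := congrArg QuadraticAlgebra.im h
      simp at this
    obtain ⟨j, hj⟩ := hpow _ hω
    have h4' : (QuadraticAlgebra.omega : K) ^ 4 = 1 := by
      have : (QuadraticAlgebra.omega : K) ^ 2 = -1 := by
        rw [pow_two]; ext <;> simp [QuadraticAlgebra.re_one, QuadraticAlgebra.im_one]
      rw [show 4 = 2 * 2 from rfl, pow_mul, this]; ring
    have hd : (4 * r + 2) * (4 * r + 4) ∣ j * 4 := by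
      rw [← hog, orderOf_dvd_iff_pow_eq_one]
      apply Units.ext
      rw [Units.val_pow_eq_pow_val, pow_mul, ← hj, h4', Units.val_one]
    obtain ⟨i, hi⟩ : 4 * r + 2 ∣ j := by
      have : (4 * r + 2) * (r + 1) * 4 ∣ j * 4 := by
        rwa [show (4 * r + 2) * (r + 1) * 4 = (4 * r + 2) * (4 * r + 4) by ring]
      exact dvd_trans (Dvd.intro _ rfl) (Nat.dvd_of_mul_dvd_mul_right (by norm_num) this)
    refine ⟨i, Subtype.ext ?_⟩
    rw [Matrix.SpecialLinearGroup.coe_pow, hτ, ← map_pow, hρ2, Units.val_pow_eq_pow_val, ← pow_mul, ← hi, ← hj, lfdMat_apply]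
    simp [lfdJ_val]

end Aux

variable {G Ω : Type*} [Group G] [MulAction G Ω] [Finite G] [Finite Ω] {S : Sp G Ω}
  {Δ Δ' : Set Ω} {x y : Ω}

namespace Sp.LT

theorem lfd_lc (h : S.LT Δ) :
    ∃ (F : Type) (_ : Field F) (_ : Fintype F) (E : P1 F → Ω) (π : SL(2, F) →* G),
      S.LC Δ E π ∧ Δ.ncard = Fintype.card F + 1 := by
  obtain ⟨F, _, _, E, hinj, hr, -⟩ := h.ty
  obtain ⟨F', _, _, E', π, hlc, -, -, hc⟩ := h.exists_lc (x := E inf) (y := E (pt 0))
    (hr ▸ ⟨_, rfl⟩) (hr ▸ ⟨_, rfl⟩) (fun e => pt_ne_inf 0 (hinj e))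
  exact ⟨F', _, _, E', π, hlc, hc⟩

theorem lfd_mem {F : Type} [Field F] {E : P1 F → Ω} {π : SL(2, F) →* G} (h : S.LC Δ E π)
    (M : SL(2, F)) : π M ∈ S.L Δ := h.rng ▸ ⟨M, rfl⟩

theorem lfd_ker {F : Type} [Field F] {E : P1 F → Ω} {π : SL(2, F) →* G} (h : S.LC Δ E π)
    {M : SL(2, F)} (e : π M = 1) : M = 1 ∨ M = -1 := h.mem_W.1 (e ▸ one_mem _)

theorem lfd_neg {F : Type} [Field F] {E : P1 F → Ω} {π : SL(2, F) →* G} (h : S.LC Δ E π)
    (hb : S.L Δ ⊓ W G Δ = ⊥) : π (-1) = 1 := by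
  have : π (-1) ∈ S.L Δ ⊓ W G Δ := ⟨lfd_mem h _, h.mem_W.2 (Or.inr rfl)⟩
  rwa [hb, mem_bot] at this

/-- In the projective type every involution of `L` is conjugate to the standard one. -/
theorem lfd_inv {F : Type} [Field F] [Finite F] {E : P1 F → Ω} {π : SL(2, F) →* G}
    (h : S.LC Δ E π) (hb : S.L Δ ⊓ W G Δ = ⊥) {z : G} (hz : z ∈ S.L Δ) (z2 : orderOf z = 2) :
    ∃ L : SL(2, F), z = π L * π lfdJ * (π L)⁻¹ := by
  rw [← h.rng] at hz
  obtain ⟨Z, rfl⟩ := hz
  have hz1 : π Z ≠ 1 := by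
    intro e
    rw [e, orderOf_one] at z2
    exact absurd z2 (by norm_num)
  have hzz : π (Z * Z) = 1 := by
    have := pow_orderOf_eq_one (π Z)
    rwa [z2, pow_two, ← map_mul] at this
  rcases lfd_ker h hzz with e | e
  · exfalso
    have hW : π Z ∈ W G Δ := by
      rw [h.mem_W]
      have hdet := Z.2
      have e' : Z.1 * Z.1 = 1 := congrArg Subtype.val e
      have e00 := congrFun (congrFun e' 0) 0
      have e01 := congrFun (congrFun e' 0) 1
      have e10 := congrFun (congrFun e' 1) 0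
      have e11 := congrFun (congrFun e' 1) 1
      simp [Matrix.mul_apply, Fin.sum_univ_two] at e00 e01 e10 e11
      have hd := hdet
      rw [Matrix.det_fin_two] at hd
      have ht : Z 0 0 + Z 1 1 ≠ 0 := by
        intro ht
        apply h.two
        linear_combination Z 0 0 * ht - e00 - hd
      have h01 : Z 0 1 = 0 := by
        apply mul_left_cancel₀ ht
        linear_combination e01
      have h10 : Z 1 0 = 0 := by
        apply mul_left_cancel₀ ht
        linear_combination e10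
      rw [h01] at e00 hd
      have h00 : (Z 0 0 - 1) * (Z 0 0 + 1) = 0 := by linear_combination e00
      rcases mul_eq_zero.1 h00 with h1 | h1
      · left
        have a0 : Z 0 0 = 1 := by linear_combination h1
        have a1 : Z 1 1 = 1 := by rw [a0] at hd; linear_combination hd
        ext i j
        fin_cases i <;> fin_cases j <;> simp [a0, a1, h01, h10]
      · right
        have a0 : Z 0 0 = -1 := by linear_combination h1
        have a1 : Z 1 1 = -1 := by rw [a0] at hd; linear_combination -hd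
        ext i j
        fin_cases i <;> fin_cases j <;> simp [a0, a1, h01, h10]
    have : π Z ∈ S.L Δ ⊓ W G Δ := ⟨lfd_mem h _, hW⟩
    rw [hb, mem_bot] at this
    exact hz1 this
  · obtain ⟨L, hL⟩ := lfd_conj h.two e
    exact ⟨L, by rw [hL, map_mul, map_mul, map_inv]⟩

theorem f1 (h : S.LT Δ) (h4 : Δ.ncard % 4 = 0) {z l : G} (hz : z ∈ S.L Δ) (hw : z ∈ W G Δ)
    (h2 : orderOf z = 2) (hl : l ∈ S.L Δ) (e : l * l = z) :
    ∃ c ∈ S.L Δ, ∃ v ∈ S.L Δ, ∃ k : ℕ, orderOf c = 2 ^ k ∧ ¬ 2 ^ (k + 1) ∣ Δ.ncard ∧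
      l ∈ zpowers c ∧ v * c * v⁻¹ = c⁻¹ ∧ v * v = z := by
  obtain ⟨F, _, _, E, π, hlc, hc⟩ := lfd_lc h
  have hz1 : z ≠ 1 := by
    intro e
    rw [e, orderOf_one] at h2
    exact absurd h2 (by norm_num)
  rw [← hlc.rng] at hz hl
  obtain ⟨Z, rfl⟩ := hz
  obtain ⟨N, rfl⟩ := hl
  have hZ : Z = -1 := by
    rcases hlc.mem_W.1 hw with e | e
    · exact absurd (by rw [e, map_one]) hz1
    · exact e
  subst hZ
  have hinj : Function.Injective π := by
    rw [injective_iff_map_eq_one]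
    intro M hM
    rcases lfd_ker hlc hM with e | e
    · exact e
    · exact absurd (e ▸ hM) hz1
  have hN : N * N = -1 := hinj (by rw [map_mul, e])
  obtain ⟨L, hL⟩ := lfd_conj hlc.two hN
  obtain ⟨τ, u, w, huw, hτ, ho, i, hi⟩ := lfd_torus hlc.two (F := F) (by omega)
  obtain ⟨k, m, hm, hkm⟩ := Nat.exists_eq_two_pow_mul_odd (n := Fintype.card F + 1) (by omega)
  have hm0 : m ≠ 0 := by rintro rfl; simp at hm
  have hV : lfdV u w huw * τ * (lfdV u w huw)⁻¹ = τ⁻¹ := by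
    rw [mul_inv_eq_iff_eq_mul, eq_inv_mul_iff_mul_eq]
    apply Subtype.ext
    rw [Matrix.SpecialLinearGroup.coe_mul, Matrix.SpecialLinearGroup.coe_mul, hτ]
    ext a b
    fin_cases a <;> fin_cases b <;> simp [lfdV_val, Matrix.mul_apply, Fin.sum_univ_two]
    · linear_combination u * (u ^ 2 + w ^ 2 - 1) * huw
    · linear_combination w * (u ^ 2 + w ^ 2 - 1) * huw
    · linear_combination w * (u ^ 2 + w ^ 2 - 1) * huw
    · linear_combination -u * (u ^ 2 + w ^ 2 - 1) * huw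
  have hmi : m ∣ i := by
    have h1 : orderOf τ ∣ i * 4 := by
      rw [orderOf_dvd_iff_pow_eq_one, pow_mul, ← hi, show 4 = 2 * 2 from rfl, pow_mul, pow_two lfdJ,
        lfdJ_sq, neg_one_sq]
    rw [ho, hkm] at h1
    have h3 : m ∣ i * 4 := dvd_trans (Dvd.intro_left _ rfl) h1
    have h5 : m.Coprime 4 := by
      rw [show 4 = 2 ^ 2 from rfl]
      exact (Nat.coprime_two_right.2 hm).pow_right 2
    exact h5.dvd_of_dvd_mul_right h3
  obtain ⟨i', rfl⟩ := hmi
  refine ⟨π (L * τ ^ m * L⁻¹), hlc.rng ▸ ⟨_, rfl⟩, π (L * lfdV u w huw * L⁻¹), hlc.rng ▸ ⟨_, rfl⟩,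
    k, ?_, ?_, ?_, ?_, ?_⟩
  · rw [orderOf_injective π hinj, ← MulAut.conj_apply, MulEquiv.orderOf_eq,
      orderOf_pow_of_dvd hm0 (by rw [ho, hkm]; exact Dvd.intro_left _ rfl), ho, hkm,
      Nat.mul_div_cancel _ (Nat.pos_of_ne_zero hm0)]
  · rw [hc, hkm, pow_succ]
    intro hd
    exact (Nat.not_even_iff_odd.2 hm)
      (even_iff_two_dvd.2 (Nat.dvd_of_mul_dvd_mul_left (by positivity) hd))
  · refine ⟨(i' : ℤ), ?_⟩
    change π _ ^ (i' : ℤ) = _
    rw [zpow_natCast, ← map_pow, conj_pow, ← pow_mul, ← hi, hL]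
  · rw [← map_inv, ← map_mul, ← map_mul, ← map_inv]
    congr 1
    have : lfdV u w huw * τ ^ m * (lfdV u w huw)⁻¹ = (τ ^ m)⁻¹ := by
      rw [← conj_pow, hV, inv_pow]
    calc _ = L * (lfdV u w huw * τ ^ m * (lfdV u w huw)⁻¹) * L⁻¹ := by group
      _ = _ := by rw [this]; group
  · rw [← map_mul]
    congr 1
    calc _ = L * (lfdV u w huw * lfdV u w huw) * L⁻¹ := by group
      _ = _ := by rw [lfdV_sq]; simp

theorem g1 (h : S.LT Δ) (h4 : Δ.ncard % 4 = 0) (h5 : 4 < Δ.ncard) (hb : S.L Δ ⊓ W G Δ = ⊥)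
    {s z : G} (hs : s ∈ St G Δ) (hx : x ∈ Δ) (hy : y ∈ Δ) (hxy : y ≠ x) (sx : s • x = x)
    (sy : s • y = y) (hi : Inv s (S.UD Δ x)) (hz : z ∈ S.L Δ) (z2 : orderOf z = 2) :
    ∃ l ∈ S.L Δ, ∃ v ∈ S.L Δ, Commute (l * s * l⁻¹) z ∧ v * v = 1 ∧ Commute v z ∧
      z ∈ zpowers (l * s * l⁻¹ * v * (l * s * l⁻¹)⁻¹ * v) ∧
      (l * s * l⁻¹ * v * (l * s * l⁻¹)⁻¹ * v) ^ 2 ≠ 1 := by
  obtain ⟨F, _, _, E, π, hlc, rfl, rfl, hc⟩ := h.exists_lc hx hy hxy
  have hneg := lfd_neg hlc hb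
  obtain ⟨L, rfl⟩ := lfd_inv hlc hb hz z2
  obtain ⟨τ, u, w, huw, hτ, ho, i, hJ⟩ := lfd_torus hlc.two (F := F) (by omega)
  have huw' : u ^ 2 + (-w) ^ 2 = -1 := by linear_combination huw
  obtain ⟨c, σ, -, hpt, hup⟩ := hlc.semi0 hs sx sy
  have hcσ : ∀ a, c * σ a = -a := by
    intro a
    have h1 := hi (π (up a)) ⟨hlc.up_mem a, L_le_St (lfd_mem hlc _)⟩
    rw [hup, eq_inv_iff_mul_eq_one, ← map_mul] at h1
    rcases lfd_ker hlc h1 with e | e
    · have := congrArg (fun M : SL(2, F) => M.1 0 1) e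
      simp [lfd_up_val, Matrix.mul_apply, Fin.sum_univ_two] at this
      linear_combination this
    · have := congrArg (fun M : SL(2, F) => M.1 0 1) e
      simp [lfd_up_val, Matrix.mul_apply, Fin.sum_univ_two] at this
      linear_combination this
  have hD : (!![-1, 0; 0, 1] : M2 F).det ≠ 0 := by simp [Matrix.det_fin_two]
  have hact : ∀ p, s • E p =
      E (pm (!![-1, 0; 0, 1] : M2 F) • ptMap (RingEquiv.refl F).toRingHom p) := by
    intro p
    rcases eq_inf_or_pt p with rfl | ⟨a, rfl⟩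
    · rw [ptMap_inf, sx, (pm_smul_inf_eq_inf hD).2 (by simp)]
    · rw [ptMap_pt, hpt, hcσ, (pm_smul_pt_eq_pt hD (b := -a)).2 (by simp)]
  have hcj := hlc.cj s hs _ hD (RingEquiv.refl F) hact
  have hsj : s * π lfdJ * s⁻¹ = π lfdJ := by
    rw [hcj lfdJ (-lfdJ), ← neg_one_mul, map_mul, hneg, one_mul]
    ext a b
    fin_cases a <;> fin_cases b <;> simp [lfdJ_val, Matrix.mul_apply, Fin.sum_univ_two]
  have hsv : s * π (lfdV u (-w) huw') * s⁻¹ * π (lfdV u (-w) huw') = π τ := by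
    rw [hcj (lfdV u (-w) huw') (lfdV u w huw), ← map_mul]
    · congr 1
      apply Subtype.ext
      rw [Matrix.SpecialLinearGroup.coe_mul, hτ]
      ext a b
      fin_cases a <;> fin_cases b <;> simp [lfdV_val, Matrix.mul_apply, Fin.sum_univ_two] <;> ring
    · ext a b
      fin_cases a <;> fin_cases b <;> simp [lfdV_val, Matrix.mul_apply, Fin.sum_univ_two]
  have hvv : π (lfdV u (-w) huw') * π (lfdV u (-w) huw') = 1 := by
    rw [← map_mul, lfdV_sq, hneg]
  have hvj : π (lfdV u (-w) huw') * π lfdJ = π lfdJ * π (lfdV u (-w) huw') := by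
    rw [← map_mul, lfdV_J, ← neg_one_mul, map_mul, hneg, one_mul, map_mul]
  have key : π L * s * (π L)⁻¹ * (π L * π (lfdV u (-w) huw') * (π L)⁻¹) * (π L * s * (π L)⁻¹)⁻¹ *
      (π L * π (lfdV u (-w) huw') * (π L)⁻¹) = π L * π τ * (π L)⁻¹ := by
    rw [← hsv]; group
  refine ⟨π L, lfd_mem hlc _, π L * π (lfdV u (-w) huw') * (π L)⁻¹,
    mul_mem (mul_mem (lfd_mem hlc _) (lfd_mem hlc _)) (inv_mem (lfd_mem hlc _)), ?_, ?_, ?_, ?_, ?_⟩
  · exact (show Commute s (π lfdJ) from mul_inv_eq_iff_eq_mul.1 hsj).conj _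
  · rw [conj_mul, hvv]; simp
  · exact (show Commute _ (π lfdJ) from hvj).conj _
  · rw [key]
    refine ⟨(i : ℤ), ?_⟩
    change _ ^ (i : ℤ) = _
    rw [zpow_natCast, conj_pow, ← map_pow, ← hJ]
  · rw [key, conj_pow, ← map_pow]
    intro e
    have e1 : π (τ ^ 2) = 1 := by
      have := congrArg (fun g => (π L)⁻¹ * g * π L) e
      simpa [mul_assoc] using this
    have e2 : τ ^ 4 = 1 := by
      rw [show 4 = 2 * 2 from rfl, pow_mul]
      rcases lfd_ker hlc e1 with e | e <;> rw [e]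
      · exact one_pow 2
      · exact neg_one_sq
    have := Nat.le_of_dvd (by norm_num) (orderOf_dvd_of_pow_eq_one e2)
    omega

theorem g0 (h : S.LT Δ) (hb : S.L Δ ⊓ W G Δ = ⊥) {z : G} (hz : z ∈ S.L Δ) (z2 : orderOf z = 2) :
    ∃ v ∈ S.L Δ, orderOf v = 2 ∧ v ≠ z ∧ Commute v z := by
  obtain ⟨F, _, _, E, π, hlc, -⟩ := lfd_lc h
  have hneg := lfd_neg hlc hb
  obtain ⟨L, rfl⟩ := lfd_inv hlc hb hz z2
  obtain ⟨u, w, huw⟩ := lfd_sq (-1 : F)
  have hvv : π (lfdV u w huw) * π (lfdV u w huw) = 1 := by rw [← map_mul, lfdV_sq, hneg]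
  have hvj : π (lfdV u w huw) * π lfdJ = π lfdJ * π (lfdV u w huw) := by
    rw [← map_mul, lfdV_J, ← neg_one_mul, map_mul, hneg, one_mul, map_mul]
  have hv1 : π (lfdV u w huw) ≠ 1 := by
    intro e
    have h1 := lfdV_sq u w huw
    rcases lfd_ker hlc e with e | e <;> rw [e] at h1
    · exact lfd_neg_one_ne hlc.two (by simpa using h1.symm)
    · exact lfd_neg_one_ne hlc.two (by simpa using h1.symm)
  refine ⟨π L * π (lfdV u w huw) * (π L)⁻¹,
    mul_mem (mul_mem (lfd_mem hlc _) (lfd_mem hlc _)) (inv_mem (lfd_mem hlc _)), ?_, ?_,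
    (show Commute _ (π lfdJ) from hvj).conj _⟩
  · apply orderOf_eq_prime
    · rw [conj_pow, pow_two, hvv]; simp
    · intro e
      apply hv1
      have := congrArg (fun g => (π L)⁻¹ * g * π L) e
      simpa [mul_assoc] using this
  · intro e
    have e1 : π (lfdV u w huw) = π lfdJ := mul_left_cancel (mul_right_cancel e)
    have e2 : π (lfdV u w huw * lfdJ) = 1 := by rw [map_mul, e1, ← map_mul, lfdJ_sq, hneg]
    rcases lfd_ker hlc e2 with e | e
    · have a := congrArg (fun M : SL(2, F) => M.1 0 0) e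
      have b := congrArg (fun M : SL(2, F) => M.1 1 1) e
      simp [lfdV_val, lfdJ_val, Matrix.mul_apply, Fin.sum_univ_two] at a b
      exact hlc.two (by linear_combination -a - b)
    · have a := congrArg (fun M : SL(2, F) => M.1 0 0) e
      have b := congrArg (fun M : SL(2, F) => M.1 1 1) e
      simp [lfdV_val, lfdJ_val, Matrix.mul_apply, Fin.sum_univ_two] at a b
      exact hlc.two (by linear_combination a - b)

end Sp.LT

end Cfsg.Agent.HKS
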