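import Mathlib
import Cfsg.Agent.HKS.Ctx
import Cfsg.Agent.HKS.LFA
import Cfsg.Agent.HKS.LFC

/-! Piece SLc: an involution of type `SL₂(q)`, `q ≡ 3 (mod 4)`, is 2-central -/

set_option autoImplicit false
set_option linter.unusedSectionVars false

namespace Cfsg.Agent.HKS

open Subgroup MulAction Cfsg.Agent.TT Cfsg.Agent.Perm.TT Cfsg.Agent.Cl.L2
open Cfsg.Agent.KS (St)
open scoped MatrixGroups Pointwise commutatorElement

variable {G Ω : Type*} [Group G] [MulAction G Ω] [Finite G] [Finite Ω] {S : Sp G Ω}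
  {Δ Δ' : Set Ω} {x y : Ω}

theorem slc_zp {i : G} (h : i ^ 2 ^ 2 = 1) : IsPGroup 2 (zpowers i) := by
  rintro ⟨_, k, rfl⟩
  exact ⟨2, Subtype.ext (by
    change (i ^ k) ^ 2 ^ 2 = 1
    rw [← zpow_natCast, ← zpow_mul, mul_comm, zpow_mul, zpow_natCast, h, one_zpow])⟩

namespace Sp.SL3

variable {t : G}

theorem conj (hs : S.SL3 t) (g : G) : S.SL3 (g * t * g⁻¹) := by
  refine ⟨(orderOf_injective (MulAut.conj g).toMonoidHom (MulAut.conj g).injective t).trans hs.two,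
    fix_conj (Ω := Ω) g t ▸ hs.ty.smul g, by rw [fix_conj, Set.ncard_smul_set, hs.q4],
    fix_conj (Ω := Ω) g t ▸ conj_mem_L_smul.2 hs.mem, fun w => ?_, fun t' h1 h2 h3 c h4 h5 => ?_⟩
  · obtain ⟨w, rfl⟩ : ∃ k, w = g * k * g⁻¹ := ⟨g⁻¹ * w * g, by group⟩
    rw [fix_conj, conj_mem_W_smul, conj_mul]
    intro h1 h2
    exact (hs.r1 w h1 (by simpa using h2)).imp (fun e => by simp [e]) fun e => by rw [e]
  · refine hs.nc (g⁻¹ * t' * g⁻¹⁻¹) (((isConj_iff.2 ⟨g, rfl⟩).trans h1).trans (isConj_iff.2 ⟨g⁻¹, rfl⟩))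
      (fun e => h2 (by rw [← e]; group)) ?_ (g⁻¹ • c) ?_ ?_
    · simpa [mul_assoc] using h3.conj g⁻¹
    · rw [eq_inv_smul_iff, ← mul_smul, ← mul_smul, h4]
    · rw [mul_smul, inv_smul_smul, mul_smul, h5]

theorem tt (hs : S.SL3 t) : t * t = 1 := by rw [← pow_two, ← hs.two, pow_orderOf_eq_one]

theorem dec (h : S.Ctx) (hs : S.SL3 t) {e : G} (h1 : Commute e t) (h2 : e * e = 1)
    (hf : ∀ c : Ω, t • c = c → e • c ≠ c) :
    ∃ l ∈ S.L (fixedBy Ω t), ∃ r ∈ W G (fixedBy Ω t), e = l * r ∧ l * l = t ∧ r * r = t := by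
  have lt := h.lt hs.ty
  obtain ⟨l, hl, r, hr, rfl⟩ := lt.b1 hs.q4 (mem_St_fix h1) (h2 ▸ one_mem _) hf
  obtain ⟨k1, k2, -⟩ := lt.sl_cen hs.mem (self_mem_W t) hs.two
  rw [(commute_L_W lt.nontrivial hl hr).symm.mul_mul_mul_comm, mul_eq_one_iff_eq_inv] at h2
  have h3 : l * l = t := (k1 _ (mul_mem hl hl) (h2 ▸ inv_mem (mul_mem hr hr))).resolve_left fun e => by
    obtain ⟨c, hc, -⟩ := lt.nontrivial
    refine hf c hc (mem_W.1 (mul_mem ?_ hr) c hc)
    rcases k2 l hl e with rfl | rfl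
    exacts [one_mem _, self_mem_W _]
  exact ⟨l, hl, r, hr, rfl, h3, by rw [← inv_inv (r * r), ← h2, h3, inv_eq_of_mul_eq_one_right hs.tt]⟩

theorem central (h : S.Ctx) (hs : S.SL3 t) : ¬ 2 ∣ (centralizer ({t} : Set G)).index := by
  have lt := h.lt hs.ty
  obtain ⟨-, k2, k3⟩ := lt.sl_cen hs.mem (self_mem_W t) hs.two
  have t1 : t ≠ 1 := fun e => by simpa [e] using hs.two
  obtain ⟨⟨i, hi, j, hj, i2, j2, ji⟩, -⟩ := lt.sl_der hs.mem (self_mem_W t) hs.two (q := (fixedBy Ω t).ncard - 1)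
    (by have := lt.four; omega)
  replace hi := commutator_le_self _ hi
  replace hj := commutator_le_self _ hj
  have f : ∀ {i : G}, i * i = t → i ^ 2 ^ 2 = 1 := fun {i} e => by
    rw [pow_two 2, pow_mul, pow_two i, e, pow_two, hs.tt]
  have cen : ∀ {g : G}, g ∈ S.L (fixedBy Ω t) → g ∈ centralizer ({t} : Set G) := fun hg =>
    mem_centralizer_singleton_iff.2 (k3 _ (L_le_St hg))
  obtain ⟨T, hT, hQ⟩ := Inv.Fz.exists_isSylIn (H := centralizer {t}) ((slc_zp (f j2)).to_sup_of_normal_right'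
    (slc_zp (f i2)) (zpowers_le.2 (Inv.Fz.cj_eq_iff.1 (by rw [Inv.Fz.cj_zpowers, ji, zpowers_inv]))))
    (sup_le (zpowers_le.2 (cen hj)) (zpowers_le.2 (cen hi)))
  have iT : i ∈ T := hQ (mem_sup_right (mem_zpowers i))
  have jT : j ∈ T := hQ (mem_sup_left (mem_zpowers j))
  have key : ∀ g ∈ normalizer (T : Set G), g ∈ centralizer ({t} : Set G) := fun g hg => by
    have c : ∀ a ∈ T, Commute (g * t * g⁻¹) a := fun a ha => by
      have : Commute (g⁻¹ * a * g⁻¹⁻¹) t :=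
        mem_centralizer_singleton_iff.1 (hT.le ((mem_normalizer_iff.1 (inv_mem hg) a).1 ha))
      simpa [mul_assoc] using (this.conj g).symm
    rw [mem_centralizer_singleton_iff, ← mul_inv_eq_iff_eq_mul]
    by_contra e
    have c1 := c t (i2 ▸ mul_mem iT iT)
    obtain ⟨l, hl, r, hr, e1, l2, -⟩ := hs.dec h c1 (hs.conj g).tt (hs.nc _ (isConj_iff.2 ⟨g, rfl⟩) e c1)
    have c2 : ∀ a ∈ T, a ∈ S.L (fixedBy Ω t) → Commute l a := fun a h1 h2 => by
      have := (e1 ▸ c a h1).mul_left (commute_L_W lt.nontrivial h2 hr).symm.inv_left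
      rwa [mul_inv_cancel_right] at this
    have c3 : Commute i j := by
      have h1 := (c2 j jT hj).inv_left
      rcases k2 _ (mul_mem hl hi) (by rw [(c2 i iT hi).symm.mul_mul_mul_comm, l2, i2, hs.tt]) with e | e
      · simpa [inv_eq_of_mul_eq_one_right e] using h1
      · rw [eq_inv_mul_iff_mul_eq.2 e]
        exact h1.mul_left (j2 ▸ (Commute.refl j).mul_left (Commute.refl j))
    rw [← c3.eq, mul_inv_cancel_right, eq_inv_iff_mul_eq_one, i2] at ji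
    exact t1 ji
  have hG : Inv.Fz.IsSylIn 2 T ⊤ := by
    obtain ⟨P, hP, hSP⟩ := Inv.Fz.exists_isSylIn hT.isPGroup le_top
    by_contra hne
    have h1 := Inv.Fz.lt_inf_normalizer hP.isPGroup (lt_of_le_of_ne hSP fun e => hne (e ▸ hP))
    exact h1.ne' (hT.eq_of_le (hP.isPGroup.to_le inf_le_left) (fun g hg => key g hg.2) h1.le)
  exact fun e => hG.not_dvd_relIndex (relIndex_top_right T ▸ e.trans (index_dvd_of_le hT.le))

end Sp.SL3

end Cfsg.Agent.HKS
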