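import Mathlib
import Cfsg.Agent.HKS.SLc
import Cfsg.Agent.HKS.LFD

/-! Piece EGsl: the endgame, type `SL₂` -/

set_option autoImplicit false

namespace Cfsg.Agent.HKS

open Subgroup MulAction Cfsg.Agent.TT Cfsg.Agent.Perm.TT Cfsg.Agent.Cl.L2
open Cfsg.Agent.KS (St)
open scoped MatrixGroups Pointwise commutatorElement

variable {G Ω : Type*} [Group G] [MulAction G Ω] [Finite G] [Finite Ω] {S : Sp G Ω}
  {Δ Δ' : Set Ω} {x y : Ω}

namespace EGsl

omit [Finite G] in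
theorem ext2 (A : Subgroup G) (g : G) (hn : ∀ a ∈ A, g * a * g⁻¹ ∈ A) (h2 : g * g ∈ A) :
    ∃ B : Subgroup G, ∀ z, z ∈ B ↔ z ∈ A ∨ ∃ a ∈ A, z = a * g := by
  refine ⟨⟨⟨⟨{z | z ∈ A ∨ ∃ a ∈ A, z = a * g}, ?_⟩, Or.inl A.one_mem⟩, ?_⟩, fun _ => Iff.rfl⟩
  · rintro _ _ (ha | ⟨a, ha, rfl⟩) (hb | ⟨b, hb, rfl⟩)
    · exact Or.inl (A.mul_mem ha hb)
    · exact Or.inr ⟨_, A.mul_mem ha hb, by group⟩
    · exact Or.inr ⟨_, A.mul_mem ha (hn _ hb), by group⟩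
    · refine Or.inl ?_
      have := A.mul_mem (A.mul_mem ha (hn _ hb)) h2
      convert this using 1
      group
  · rintro _ (ha | ⟨a, ha, rfl⟩)
    · exact Or.inl (A.inv_mem ha)
    · refine Or.inr ⟨_, A.mul_mem (A.inv_mem h2) (hn _ (A.inv_mem ha)), ?_⟩
      group

theorem two_mul_le {A B : Subgroup G} (h : A ≤ B) {g : G} (hB : g ∈ B) (hA : g ∉ A) :
    2 * Nat.card A ≤ Nat.card B := by
  obtain ⟨m, hm⟩ := Subgroup.card_dvd_of_le h
  have hpos : 0 < Nat.card B := Nat.card_pos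
  have h1 : m ≠ 1 := by
    rintro rfl
    have : A = B := Subgroup.eq_of_le_of_card_ge h (by omega)
    exact hA (this ▸ hB)
  have h0 : m ≠ 0 := by
    rintro rfl
    omega
  rw [hm, mul_comm]
  exact Nat.mul_le_mul_left _ (by omega)

/-- Two 2-subgroups of `K` lie, up to conjugacy in `K`, in a common 2-subgroup. -/
theorem common {K A B : Subgroup G} (hA : IsPGroup 2 A) (hB : IsPGroup 2 B) (ha : A ≤ K)
    (hb : B ≤ K) : ∃ R : Subgroup G, R ≤ K ∧ IsPGroup 2 R ∧ A ≤ R ∧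
      ∃ g ∈ K, ∀ b ∈ B, g * b * g⁻¹ ∈ R := by
  haveI : Fact (Nat.Prime 2) := ⟨Nat.prime_two⟩
  have hA' : IsPGroup 2 (A.subgroupOf K) := hA.comap_of_injective _ K.subtype_injective
  have hB' : IsPGroup 2 (B.subgroupOf K) := hB.comap_of_injective _ K.subtype_injective
  obtain ⟨P, hP⟩ := hA'.exists_le_sylow
  obtain ⟨Q, hQ⟩ := hB'.exists_le_sylow
  obtain ⟨g, hg⟩ := MulAction.exists_smul_eq K Q P
  refine ⟨(P : Subgroup K).map K.subtype, Subgroup.map_subtype_le _, P.isPGroup'.map _, ?_,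
    g, g.2, ?_⟩
  · intro a h
    exact ⟨⟨a, ha h⟩, hP h, rfl⟩
  · intro b h
    refine ⟨g * ⟨b, hb h⟩ * g⁻¹, ?_, rfl⟩
    have hb' : (⟨b, hb h⟩ : K) ∈ (Q : Subgroup K) := hQ h
    rw [← hg]
    exact Subgroup.smul_mem_pointwise_smul _ (MulAut.conj g) _ hb'

omit [Finite G] in
theorem inv_eq {r t : G} (ht : t * t = 1) (hr : r * r = t) : r⁻¹ = r * t := by
  rw [inv_eq_iff_mul_eq_one, ← mul_assoc, hr, ht]

omit [Finite G] in
theorem ord2 {e : G} (h2 : e * e = 1) (h1 : e ≠ 1) : orderOf e = 2 :=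
  orderOf_eq_prime (by rw [pow_two, h2]) h1

omit [Finite G] in
theorem sq1 {e : G} (h2 : orderOf e = 2) : e * e = 1 := by
  rw [← pow_two, ← h2, pow_orderOf_eq_one]

omit [Finite G] in
theorem ne1 {e : G} (h2 : orderOf e = 2) : e ≠ 1 := by
  rintro rfl
  simp at h2

/-- In a group with a unique involution containing a quaternion group, every element of order
four is inverted by an element of order four. -/
theorem exists_rho {K : Subgroup G} {t r r₁ r₂ : G} (ht : orderOf t = 2) (htK : t ∈ K)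
    (h1 : ∀ w ∈ K, w * w = 1 → w = 1 ∨ w = t) (hr : r ∈ K) (hr₁ : r₁ ∈ K) (hr₂ : r₂ ∈ K)
    (e : r * r = t) (e₁ : r₁ * r₁ = t) (e₂ : r₂ * r₂ = t) (e₃ : r₁ * r₂ * (r₁ * r₂) = t) :
    ∃ ρ ∈ K, ρ * ρ = t ∧ ρ * r * ρ⁻¹ = r⁻¹ := by
  have tt := sq1 ht
  have t1 := ne1 ht
  have hc : ∀ g ∈ K, g * t * g⁻¹ = t := by
    intro g hg
    refine (h1 _ (K.mul_mem (K.mul_mem hg htK) (K.inv_mem hg)) ?_).resolve_left ?_
    · calc g * t * g⁻¹ * (g * t * g⁻¹) = g * (t * t) * g⁻¹ := by group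
        _ = 1 := by rw [tt]; group
    · intro h
      apply t1
      calc t = g⁻¹ * (g * t * g⁻¹) * g := by group
        _ = 1 := by rw [h]; group
  have i21 : r₂ * r₁ * r₂⁻¹ = r₁⁻¹ := by
    calc r₂ * r₁ * r₂⁻¹ = r₁⁻¹ * (r₁ * r₂ * (r₁ * r₂)) * (r₂ * r₂)⁻¹ := by group
      _ = r₁⁻¹ := by rw [e₃, e₂]; group
  have p4 : ∀ a : G, a * a = t → a ^ 2 ^ 2 = 1 := by
    intro a ha
    calc a ^ 2 ^ 2 = a * a * (a * a) := by norm_num [pow_succ, mul_assoc]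
      _ = 1 := by rw [ha, tt]
  have pz : ∀ a : G, a * a = t → IsPGroup 2 (zpowers a) := by
    intro a ha g
    obtain ⟨n, hn⟩ := g.2
    refine ⟨2, Subtype.ext ?_⟩
    have hn' : a ^ n = (g : G) := hn
    rw [Subgroup.coe_pow, ← hn', ← zpow_natCast, ← zpow_mul, mul_comm, zpow_mul, zpow_natCast, p4 a ha,
      one_zpow, Subgroup.coe_one]
  obtain ⟨B, hB⟩ := ext2 (zpowers r₁) r₂ (by
    rintro _ ⟨n, rfl⟩
    refine ⟨-n, ?_⟩
    show r₁ ^ (-n) = r₂ * r₁ ^ n * r₂⁻¹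
    rw [← conj_zpow, i21, inv_zpow', ]) (by
      rw [e₂, ← e₁]
      exact mul_mem (mem_zpowers _) (mem_zpowers _))
  have pB : IsPGroup 2 B := by
    intro g
    rcases (hB g).1 g.2 with hg | ⟨a, ⟨n, rfl⟩, hg⟩
    · obtain ⟨k, hk⟩ := pz r₁ e₁ ⟨g, hg⟩
      exact ⟨k, Subtype.ext (by simpa using congrArg Subtype.val hk)⟩
    · refine ⟨2, Subtype.ext (p4 _ ?_)⟩
      rw [hg]
      calc r₁ ^ n * r₂ * (r₁ ^ n * r₂) = r₁ ^ n * (r₂ * r₁ ^ n * r₂⁻¹) * (r₂ * r₂) := by group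
        _ = t := by rw [← conj_zpow, i21, e₂]; group
  have bK : B ≤ K := by
    intro g hg
    rcases (hB g).1 hg with hg | ⟨a, ha, rfl⟩
    · exact (zpowers_le.2 hr₁) hg
    · exact K.mul_mem ((zpowers_le.2 hr₁) ha) hr₂
  obtain ⟨R, hRK, hR, hAR, g, hg, hgR⟩ := common (pz r e) pB (zpowers_le.2 hr) bK
  have rR : r ∈ R := hAR (mem_zpowers r)
  have tR : t ∈ R := e ▸ R.mul_mem rR rR
  have r1 : ∀ a : G, a * a = t → a ≠ 1 ∧ a ≠ t := by
    intro a ha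
    constructor
    · rintro rfl
      exact t1 (by rw [← ha, one_mul])
    · rintro rfl
      exact t1 (ha.symm.trans tt)
  obtain ⟨w, hw, w2, hw'⟩ := exists_w1 hR le_rfl
    (fun g hg r hr => R.mul_mem (R.mul_mem hg hr) (R.inv_mem hg)) ht tR
    (fun a ha => h1 a (hRK ha)) ⟨r, rR, r1 r e⟩
  -- an element of square `t` commuting with `w` is `w` or its inverse
  have key : ∀ a ∈ R, a * a = t → a * w * a⁻¹ = w → a = w ∨ a = w⁻¹ := by
    intro a ha a2 hc'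
    have c : a * w = w * a := by
      calc a * w = a * w * a⁻¹ * a := by group
        _ = w * a := by rw [hc']
    have : a * w * (a * w) = 1 := by
      calc a * w * (a * w) = a * (w * a) * w := by group
        _ = a * a * (w * w) := by rw [← c]; group
        _ = 1 := by rw [a2, w2, tt]
    rcases h1 _ (hRK (R.mul_mem ha hw)) this with h | h
    · exact Or.inr (eq_inv_of_mul_eq_one_left h)
    · exact Or.inl (mul_right_cancel (h.trans w2.symm))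
  have conj2 : ∀ a : G, a * a = t → g * a * g⁻¹ * (g * a * g⁻¹) = t := by
    intro a ha
    calc g * a * g⁻¹ * (g * a * g⁻¹) = g * (a * a) * g⁻¹ := by group
      _ = t := by rw [ha, hc g hg]
  rcases hw' r rR with h | h
  · have hrw := key r rR e h
    have m₁ := hgR r₁ ((hB _).2 (Or.inl (mem_zpowers _)))
    have m₂ := hgR r₂ ((hB _).2 (Or.inr ⟨1, one_mem _, by group⟩))
    have fin : ∀ ρ ∈ R, ρ * ρ = t → ρ * w * ρ⁻¹ = w⁻¹ → ∃ ρ ∈ K, ρ * ρ = t ∧ ρ * r * ρ⁻¹ = r⁻¹ := by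
      intro ρ hρ ρ2 hi
      refine ⟨ρ, hRK hρ, ρ2, ?_⟩
      rcases hrw with rfl | rfl
      · exact hi
      · rw [← conj_inv, hi]
    rcases hw' _ m₁ with a₁ | a₁
    · rcases hw' _ m₂ with a₂ | a₂
      · exfalso
        have c : Commute (g * r₁ * g⁻¹) (g * r₂ * g⁻¹) := by
          rcases key _ m₁ (conj2 _ e₁) a₁ with b₁ | b₁ <;>
            rcases key _ m₂ (conj2 _ e₂) a₂ with b₂ | b₂ <;> rw [b₁, b₂] <;>
            simp [Commute.refl]
        have c' : Commute r₁ r₂ := Basic.cm.1 c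
        apply t1
        calc t = r₁ * r₂ * (r₁ * r₂) := e₃.symm
          _ = r₁ * (r₂ * r₁) * r₂ := by group
          _ = r₁ * r₁ * (r₂ * r₂) := by rw [← c'.eq]; group
          _ = 1 := by rw [e₁, e₂, tt]
      · exact fin _ m₂ (conj2 _ e₂) a₂
    · exact fin _ m₁ (conj2 _ e₁) a₁
  · refine ⟨w, hRK hw, w2, ?_⟩
    calc w * r * w⁻¹ = w * r * (r * w * r⁻¹) := by rw [h]
      _ = w * (r * r) * w⁻¹ * (w * w) * r⁻¹ := by group
      _ = r⁻¹ := by rw [e, hc w (hRK hw), w2, tt, one_mul]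

/-- Three independent commuting involutions give a quaternion group in `W`. -/
theorem quat {t : G} (h : S.Ctx) (hs : S.SL3 t) (hN : N4 G Ω) {A : Subgroup G}
    (hA : IsMulCommutative A) (h2 : ∀ a ∈ A, a ^ 2 = 1) (h4 : 4 < Nat.card A) :
    ∃ r₁ ∈ W G (fixedBy Ω t), ∃ r₂ ∈ W G (fixedBy Ω t),
      r₁ * r₁ = t ∧ r₂ * r₂ = t ∧ r₁ * r₂ * (r₁ * r₂) = t := by
  classical
  haveI : Fact (Nat.Prime 2) := ⟨Nat.prime_two⟩
  have hL := h.lt hs.ty
  have tt := sq1 hs.two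
  have pA : IsPGroup 2 A := fun a => ⟨1, Subtype.ext (by simpa using h2 a a.2)⟩
  obtain ⟨q, hq⟩ := pA.nonempty_fixed_point_of_prime_not_dvd_card
    (G ⧸ centralizer ({t} : Set G)) (hs.central h)
  obtain ⟨g, rfl⟩ := QuotientGroup.mk_surjective q
  have hc : ∀ a ∈ A, Commute (g⁻¹ * a * g) t := by
    intro a ha
    have h1 : ((a⁻¹ * g : G) : G ⧸ centralizer ({t} : Set G)) = g := hq ⟨a⁻¹, A.inv_mem ha⟩
    have h2 := QuotientGroup.eq.1 h1
    rw [mem_centralizer_singleton_iff] at h2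
    have e : (a⁻¹ * g)⁻¹ * g = g⁻¹ * a * g := by group
    rw [e] at h2
    exact h2
  have pick : ∀ s : Finset G, s.card ≤ 4 → ∃ a ∈ A, a ∉ s := by
    intro s hs4
    by_contra hcon
    push Not at hcon
    have : (A : Set G).ncard ≤ (s : Set G).ncard :=
      Set.ncard_le_ncard (fun a ha => hcon a ha) (Finset.finite_toSet s)
    rw [Set.ncard_coe_finset] at this
    have e : Nat.card A = (A : Set G).ncard := Nat.card_coe_set_eq _
    omega
  set t₀ := g * t * g⁻¹ with ht₀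
  obtain ⟨a, ha, ha'⟩ := pick {1, t₀} (Finset.card_le_two.trans (by norm_num))
  obtain ⟨b, hb, hb'⟩ := pick {1, t₀, a⁻¹, a⁻¹ * t₀} Finset.card_le_four
  simp only [Finset.mem_insert, Finset.mem_singleton, not_or] at ha' hb'
  have dec : ∀ c ∈ A, c ≠ 1 → c ≠ t₀ → ∃ l ∈ S.L (fixedBy Ω t), ∃ r ∈ W G (fixedBy Ω t),
      g⁻¹ * c * g = l * r ∧ l * l = t ∧ r * r = t := by
    intro c hcA c1 ct
    have s2 : g⁻¹ * c * g * (g⁻¹ * c * g) = 1 := by
      calc g⁻¹ * c * g * (g⁻¹ * c * g) = g⁻¹ * c ^ 2 * g := by rw [pow_two]; group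
        _ = 1 := by rw [h2 c hcA]; group
    refine hs.dec h (hc c hcA) s2 fun p tp ep => ?_
    refine hN _ t (ord2 s2 fun e => c1 ?_) hs.two (hc c hcA) (fun e => ct ?_) p ep tp
    · calc c = g * (g⁻¹ * c * g) * g⁻¹ := by group
        _ = 1 := by rw [e]; group
    · rw [ht₀, ← e]
      group
  obtain ⟨l₁, hl₁, r₁, hr₁, e₁, -, s₁⟩ := dec a ha ha'.1 ha'.2
  obtain ⟨l₂, hl₂, r₂, hr₂, e₂, -, s₂⟩ := dec b hb hb'.1 hb'.2.1
  obtain ⟨l₃, hl₃, r₃, hr₃, e₃, -, s₃⟩ := dec (a * b) (A.mul_mem ha hb)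
    (fun e => hb'.2.2.1 (eq_inv_of_mul_eq_one_right e))
    (fun e => hb'.2.2.2 (by rw [← e]; group))
  refine ⟨r₁, hr₁, r₂, hr₂, s₁, s₂, ?_⟩
  have c12 : Commute l₂ r₁ := Sp.commute_L_W hL.nontrivial hl₂ hr₁
  have e : l₃⁻¹ * (l₁ * l₂) = r₃ * (r₁ * r₂)⁻¹ := by
    have : l₁ * l₂ * (r₁ * r₂) = l₃ * r₃ := by
      calc l₁ * l₂ * (r₁ * r₂) = l₁ * (l₂ * r₁) * r₂ := by group
        _ = l₁ * r₁ * (l₂ * r₂) := by rw [c12.eq]; group
        _ = l₃ * r₃ := by rw [← e₁, ← e₂, ← e₃]; group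
    calc l₃⁻¹ * (l₁ * l₂) = l₃⁻¹ * (l₁ * l₂ * (r₁ * r₂)) * (r₁ * r₂)⁻¹ := by group
      _ = r₃ * (r₁ * r₂)⁻¹ := by rw [this]; group
  have mL : r₃ * (r₁ * r₂)⁻¹ ∈ S.L (fixedBy Ω t) :=
    e ▸ mul_mem (inv_mem hl₃) (mul_mem hl₁ hl₂)
  have mW : r₃ * (r₁ * r₂)⁻¹ ∈ W G (fixedBy Ω t) := mul_mem hr₃ (inv_mem (mul_mem hr₁ hr₂))
  rcases (hL.sl_cen hs.mem (self_mem_W t) hs.two).1 _ mL mW with h1 | h1
  · rw [← eq_of_mul_inv_eq_one h1, s₃]
  · have : r₁ * r₂ = r₃⁻¹ := by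
      calc r₁ * r₂ = (r₃ * (r₁ * r₂)⁻¹)⁻¹ * r₃ := by group
        _ = r₃⁻¹ := by rw [h1, ← s₃]; group
    rw [this, ← mul_inv_rev, s₃, inv_eq_iff_mul_eq_one, tt]

end EGsl

open EGsl in
theorem Sp.SL3.rank {t : G} (h : S.Ctx) (hs : S.SL3 t) (hN : N4 G Ω) : Cfsg.PRankLE 2 2 G := by
  intro A hA h2
  by_contra h4
  have hL := h.lt hs.ty
  have tt := sq1 hs.two
  have tW := self_mem_W (Ω := Ω) t
  obtain ⟨cen1, cen2, -⟩ := hL.sl_cen hs.mem tW hs.two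
  obtain ⟨r₁, hr₁, r₂, hr₂, s₁, s₂, s₃⟩ := quat h hs hN hA h2 (by omega)
  obtain ⟨t', hconj, hne, hcomm⟩ := h.zstar hs.two
  obtain ⟨γ, hγ⟩ := isConj_iff.1 hconj
  have o' : orderOf t' = 2 := by rw [← hγ, Basic.ord, hs.two]
  have tt' := sq1 o'
  obtain ⟨l, hl, r, hr, e, l2, r2⟩ := hs.dec h hcomm tt' (hs.nc t' hconj hne hcomm)
  obtain ⟨ρ, hρ, ρ2, ρr⟩ := exists_rho hs.two tW hs.r1 hr hr₁ hr₂ r2 s₁ s₂ s₃
  obtain ⟨c, hc, v, hv, k, oc, hk, lc, vc, v2⟩ := hL.f1 hs.q4 hs.mem tW hs.two hl l2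
  have cLW : ∀ {a b : G}, a ∈ S.L (fixedBy Ω t) → b ∈ W G (fixedBy Ω t) → Commute a b :=
    fun ha hb => Sp.commute_L_W hL.nontrivial ha hb
  have zL : zpowers c ≤ S.L (fixedBy Ω t) := zpowers_le.2 hc
  have tz : t ∈ zpowers c := l2 ▸ mul_mem lc lc
  have zc : ∀ a ∈ zpowers c, ∀ b ∈ zpowers c, Commute a b := by
    rintro _ ⟨n, rfl⟩ _ ⟨m, rfl⟩
    exact (Commute.refl c).zpow_zpow n m
  set u := v * ρ with hu
  have u2 : u * u = 1 := by
    calc u * u = v * (ρ * v) * ρ := by rw [hu]; group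
      _ = v * v * (ρ * ρ) := by rw [← (cLW hv hρ).eq]; group
      _ = 1 := by rw [v2, ρ2, tt]
  have ud : ∀ d ∈ zpowers c, u * d * u⁻¹ = d⁻¹ := by
    intro d hd
    have c1 := cLW (zL hd) hρ
    obtain ⟨n, rfl⟩ := hd
    calc u * c ^ n * u⁻¹ = v * (ρ * c ^ n) * ρ⁻¹ * v⁻¹ := by rw [hu]; group
      _ = v * c ^ n * v⁻¹ := by rw [← c1.eq]; group
      _ = (c ^ n)⁻¹ := by rw [← conj_zpow, vc, inv_zpow]
  have ur : u * r * u⁻¹ = r⁻¹ := by
    calc u * r * u⁻¹ = v * (ρ * r * ρ⁻¹) * v⁻¹ := by rw [hu]; group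
      _ = r⁻¹ := by rw [ρr, (cLW hv (inv_mem hr)).eq]; group
  obtain ⟨Y, hY⟩ := ext2 (zpowers c) r
    (fun a ha => by rw [← (cLW (zL ha) hr).eq, mul_inv_cancel_right]; exact ha) (r2 ▸ tz)
  have uY : ∀ a ∈ Y, u * a * u⁻¹ = a⁻¹ := by
    intro a ha
    rcases (hY a).1 ha with ha | ⟨d, hd, rfl⟩
    · exact ud a ha
    · calc u * (d * r) * u⁻¹ = u * d * u⁻¹ * (u * r * u⁻¹) := by group
        _ = (d * r)⁻¹ := by rw [ud d hd, ur, (cLW (zL hd) hr).eq]; group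
  have rY : ∀ a ∈ Y, Commute a r := by
    intro a ha
    rcases (hY a).1 ha with ha | ⟨d, hd, rfl⟩
    · exact cLW (zL ha) hr
    · exact (cLW (zL hd) hr).mul_left (Commute.refl r)
  have lY : ∀ a ∈ Y, Commute a l := by
    intro a ha
    rcases (hY a).1 ha with ha | ⟨d, hd, rfl⟩
    · exact zc a ha l lc
    · exact (zc d hd l lc).mul_left (cLW hl hr).symm
  have sY : ∀ a ∈ Y, a * a ∈ zpowers c := by
    intro a ha
    rcases (hY a).1 ha with ha | ⟨d, hd, rfl⟩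
    · exact mul_mem ha ha
    · have : d * r * (d * r) = d * d * t := by
        calc d * r * (d * r) = d * (r * d) * r := by group
          _ = d * d * t := by rw [← (cLW (zL hd) hr).eq, ← r2]; group
      rw [this]
      exact mul_mem (mul_mem hd hd) tz
  have t'Y : t' ∈ Y := (hY _).2 (Or.inr ⟨l, lc, e⟩)
  obtain ⟨X, hX⟩ := ext2 Y u (fun a ha => by rw [uY a ha]; exact inv_mem ha) (u2 ▸ one_mem _)
  have sX : ∀ a ∈ X, a * a ∈ zpowers c := by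
    intro a ha
    rcases (hX a).1 ha with ha | ⟨d, hd, rfl⟩
    · exact sY a ha
    · have : d * u * (d * u) = 1 := by
        calc d * u * (d * u) = d * (u * d * u⁻¹) * (u * u) := by group
          _ = 1 := by rw [uY d hd, u2]; group
      rw [this]
      exact one_mem _
  have cX : ∀ a ∈ X, Commute a t' := by
    have c0 : ∀ a ∈ Y, Commute a t' := fun a ha => e ▸ (lY a ha).mul_right (rY a ha)
    intro a ha
    rcases (hX a).1 ha with ha | ⟨d, hd, rfl⟩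
    · exact c0 a ha
    · refine (c0 d hd).mul_left ?_
      have := uY t' t'Y
      rw [inv_eq_of_mul_eq_one_right tt'] at this
      exact mul_inv_eq_iff_eq_mul.1 this
  have pw : ∀ a ∈ X, a ^ 2 ^ (k + 1) = 1 := by
    intro a ha
    obtain ⟨n, hn⟩ := sX a ha
    have hn' : c ^ n = a * a := hn
    rw [pow_succ', pow_mul, pow_two, ← hn', ← oc, ← zpow_natCast, ← zpow_mul, mul_comm, zpow_mul,
      zpow_natCast, pow_orderOf_eq_one, one_zpow]
  have pX : IsPGroup 2 X := fun a => ⟨k + 1, Subtype.ext (pw a a.2)⟩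
  have c1 : 2 * Nat.card (zpowers c) ≤ Nat.card Y := by
    refine two_mul_le (g := r) (fun a ha => (hY a).2 (Or.inl ha))
      ((hY r).2 (Or.inr ⟨1, one_mem _, by group⟩)) fun hrz => ?_
    rcases cen1 r (zL hrz) hr with h1 | h1
    · exact ne1 hs.two (by rw [← r2, h1, one_mul])
    · exact ne1 hs.two (by rw [← r2, h1, tt])
  have c2 : 2 * Nat.card Y ≤ Nat.card X := by
    refine two_mul_le (g := u) (fun a ha => (hX a).2 (Or.inl ha))
      ((hX u).2 (Or.inr ⟨1, one_mem _, by group⟩)) fun huY => ?_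
    have h1 := ur
    rw [(rY u huY).eq, mul_inv_cancel_right] at h1
    exact ne1 hs.two (by rw [← r2]; exact mul_eq_one_iff_eq_inv.2 h1)
  rw [Nat.card_zpowers, oc] at c1
  have hk' : ¬ 2 ^ (k + 1) ∣ (fixedBy Ω t').ncard := by
    rwa [← hγ, fix_conj, Set.ncard_smul_set]
  obtain ⟨p, hp, hcard⟩ := big_stab pX (fun a ha => mem_St_fix (cX a ha)) hk'
  have h4' : 4 ≤ Nat.card ↥(X ⊓ stabilizer G p) := by
    have : 2 ^ k * 4 ≤ 2 ^ k * Nat.card ↥(X ⊓ stabilizer G p) := by omega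
    exact Nat.le_of_mul_le_mul_left this (by positivity)
  have uniq : ∀ a ∈ X ⊓ stabilizer G p, a * a = 1 → a = 1 ∨ a = t' := by
    intro a ha a2
    by_contra hcon
    push Not at hcon
    exact hN a t' (ord2 a2 hcon.1) o' (cX a ha.1) hcon.2 p ha.2 hp
  obtain ⟨a, ha, a1, at'⟩ : ∃ a ∈ X ⊓ stabilizer G p, a ≠ 1 ∧ a ≠ t' := by
    classical
    by_contra hcon
    push Not at hcon
    have : ((X ⊓ stabilizer G p : Subgroup G) : Set G).ncard ≤ ({1, t'} : Set G).ncard := by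
      refine Set.ncard_le_ncard (fun a ha => ?_)
      by_cases h1 : a = 1
      · exact Or.inl h1
      · exact Or.inr (hcon a ha h1)
    have e' : Nat.card ↥(X ⊓ stabilizer G p) = ((X ⊓ stabilizer G p : Subgroup G) : Set G).ncard :=
      Nat.card_coe_set_eq _
    have := this.trans (Set.ncard_insert_le 1 {t'})
    rw [Set.ncard_singleton] at this
    omega
  obtain ⟨w, hw, w2, -⟩ := exists_w1 (pX.to_inf_left (K := stabilizer G p)) le_rfl
    (fun g hg r hr => mul_mem (mul_mem hg hr) (inv_mem hg)) o'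
    ⟨(hX _).2 (Or.inl t'Y), hp⟩ uniq ⟨a, ha, a1, at'⟩
  rcases cen2 t' (zL (w2 ▸ sX w hw.1)) tt' with h1 | h1
  · exact ne1 o' h1
  · exact hne h1

theorem Sp.SL3.qd {t : G} (h : S.Ctx) (hs : S.SL3 t) {q : ℕ} (hq : (fixedBy Ω t).ncard = q + 1) :
    ∃ r, QD t r ⁅S.L (fixedBy Ω t), S.L (fixedBy Ω t)⁆ q := by
  have hL := h.lt hs.ty
  have tW := self_mem_W (Ω := Ω) t
  obtain ⟨t', hconj, hne, hcomm⟩ := h.zstar hs.two
  obtain ⟨γ, hγ⟩ := isConj_iff.1 hconj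
  have o' : orderOf t' = 2 := by rw [← hγ, Basic.ord, hs.two]
  obtain ⟨l, -, r, hr, -, -, r2⟩ := hs.dec h hcomm (EGsl.sq1 o') (hs.nc t' hconj hne hcomm)
  obtain ⟨d1, d2⟩ := hL.sl_der hs.mem tW hs.two hq
  have hle : ⁅S.L (fixedBy Ω t), S.L (fixedBy Ω t)⁆ ≤ S.L (fixedBy Ω t) :=
    Subgroup.commutator_le.2 fun a ha b hb =>
      mul_mem (mul_mem (mul_mem ha hb) (inv_mem ha)) (inv_mem hb)
  have q4 := hs.q4
  refine ⟨r, hs.two, r2, fun l hl => Sp.commute_L_W hL.nontrivial (hle hl) tW, ?_,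
    fun l hl => Sp.commute_L_W hL.nontrivial (hle hl) hr, d1, by omega, ?_⟩
  · intro g hg l hl
    have m : (S.L (fixedBy Ω t)).map (MulAut.conj g).toMonoidHom ≤ S.L (fixedBy Ω t) := by
      rintro _ ⟨a, ha, rfl⟩
      exact Sp.conj_mem_L (mem_St_fix hg) ha
    refine Subgroup.commutator_mono m m ?_
    rw [← Subgroup.map_commutator]
    exact ⟨l, hl, rfl⟩
  · rcases d2 with d2 | ⟨h3, e, hc⟩
    · exact Or.inl d2
    · refine Or.inr ⟨h3, ?_, ?_⟩ <;> rw [e]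
      · exact e
      · exact hc

end Cfsg.Agent.HKS
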