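import Mathlib
import Cfsg.Agent.HKS.Ctx
import Cfsg.Agent.Cl.PSL2Struct

/-! Piece L2a: `PSL₂(q)` in the defining characteristic -/

set_option autoImplicit false
set_option linter.unusedSectionVars false

namespace Cfsg.Agent.HKS

open Subgroup MulAction Cfsg.Agent.TT Cfsg.Agent.Perm.TT Cfsg.Agent.Cl.L2
open Cfsg.Agent.KS (St)
open scoped MatrixGroups Pointwise commutatorElement

variable {G Ω : Type*} [Group G] [MulAction G Ω] [Finite G] [Finite Ω] {S : Sp G Ω}
  {Δ Δ' : Set Ω} {x y : Ω}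

/-- The embedding attached to an isomorphism from a subgroup. -/
def l2aHom {M : Subgroup G} {K : Type*} [Group K] (e : M ≃* K) : K →* G :=
  M.subtype.comp e.symm.toMonoidHom

theorem l2aHom_injective {M : Subgroup G} {K : Type*} [Group K] (e : M ≃* K) :
    Function.Injective (l2aHom e) := M.subtype_injective.comp e.symm.injective

theorem l2aHom_mem {M : Subgroup G} {K : Type*} [Group K] (e : M ≃* K) (k : K) :
    l2aHom e k ∈ M := (e.symm k).2

theorem l2aHom_surj {M : Subgroup G} {K : Type*} [Group K] (e : M ≃* K) {m : G} (hm : m ∈ M) :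
    ∃ k, l2aHom e k = m := ⟨e ⟨m, hm⟩, congrArg Subtype.val (e.symm_apply_apply ⟨m, hm⟩)⟩

theorem l2aHom_range {M : Subgroup G} {K : Type*} [Group K] (e : M ≃* K) :
    (l2aHom e).range = M :=
  le_antisymm (by rintro _ ⟨k, rfl⟩; exact l2aHom_mem e k) fun _ hm => l2aHom_surj e hm

/-- The lemma `syl_fix` read in a group isomorphic to the socle. -/
theorem Sp.Ctx.l2a_syl (h : S.Ctx) {M : Subgroup G} (hM : MM M) {K : Type*} [Group K]
    (e : M ≃* K) {p : ℕ} [Fact p.Prime] (hp : p ∣ Nat.card ↥(S.U x ⊓ M)) :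
    ∃ (P : Sylow p K) (X : Subgroup K), X ≠ ⊥ ∧ X ≤ (P : Subgroup K) ∧
      (∀ u ∈ X, l2aHom e u ∈ S.U x) ∧
      (∀ g : K, l2aHom e g • x = x → g ∈ normalizer (X : Set K)) ∧
      ∀ g ∈ normalizer ((P : Subgroup K) : Set K), l2aHom e g • x = x := by
  obtain ⟨P, X, h1, h2, h3, h4, h5⟩ := h.syl_fix hM hp
  have hs : Function.Surjective e.symm.toMonoidHom := e.symm.surjective
  refine ⟨P.comapOfInjective e.symm.toMonoidHom e.symm.injective
    (by rw [MonoidHom.range_eq_top.2 hs]; exact le_top), X.comap e.symm.toMonoidHom, fun h0 => h1 ?_,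
    comap_mono h2, fun u hu => h3 _ hu, fun g hg => ?_, fun g hg => ?_⟩
  · rw [← map_comap_eq_self_of_surjective hs X, h0, Subgroup.map_bot]
  · rw [← comap_normalizer_eq_of_surjective X hs]
    exact h4 _ hg
  · exact h5 _ ((comap_normalizer_eq_of_surjective (P : Subgroup M) hs).ge hg)

theorem Sp.Ctx.l2a_trans (h : S.Ctx) {M : Subgroup G} (hM : MM M) {K : Type*} [Group K]
    (e : M ≃* K) (a b : Ω) : ∃ k, l2aHom e k • a = b := by
  have := hM.normal
  obtain ⟨m, hm, h1⟩ := h.two.normal_trans (Sp.Ctx.ctx_ne_bot hM) a b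
  obtain ⟨k, rfl⟩ := l2aHom_surj e hm
  exact ⟨k, h1⟩

/-- The degree is the index of the point stabilizer. -/
theorem Sp.Ctx.l2a_index (h : S.Ctx) {M : Subgroup G} (hM : MM M) {K : Type*} [Group K]
    (e : M ≃* K) {B : Subgroup K} (hB : ∀ g, l2aHom e g • x = x ↔ g ∈ B) :
    Nat.card Ω = B.index := by
  let _ : MulAction K Ω := MulAction.compHom Ω (l2aHom e)
  have : IsPretransitive K Ω := ⟨fun a b => h.l2a_trans hM e a b⟩
  rw [← index_stabilizer_of_transitive K x]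
  congr 1
  ext g
  exact hB g

/-- A nontrivial subgroup of a unipotent group normalized by the Borel subgroup. -/
theorem l2a_eq_uniS {F : Type*} [Field F] (h2 : (2 : F) ≠ 0) {z : P1 F} {X : Subgroup PSL(2, F)}
    (hX : X ≤ uniS z) (h1 : X ≠ ⊥)
    (hn : ∀ g : PSL(2, F), g • z = z → g ∈ normalizer (X : Set PSL(2, F))) : X = uniS z := by
  obtain ⟨c, rfl⟩ := exists_smul_one z
  obtain ⟨u, hu, hu1⟩ := (bot_or_exists_ne_one X).resolve_left h1
  obtain ⟨b, hb⟩ := mem_uni_smul_inf.1 (hX hu)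
  have hb0 : b ≠ 0 := by
    rintro rfl
    exact hu1 (emb_eq_one.1 (by rw [hb, aff_one_zero]; group))
  have key : ∀ s : F, ∃ v ∈ X, emb v = c * aff 1 (s * s * b) * c⁻¹ := fun s => by
    by_cases hs : s = 0
    · exact ⟨1, one_mem _, by rw [hs, map_one, zero_mul, zero_mul, aff_one_zero]; group⟩
    have hss := mul_ne_zero hs hs
    obtain ⟨d, hd⟩ := exists_emb_of_mem
      (psl_normal.conj_mem _ ((aff_mem_psl hss 0).2 ⟨s, rfl⟩) c)
    refine ⟨d * u * d⁻¹, (mem_normalizer_iff.1 (hn d ?_) u).1 hu, ?_⟩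
    · rw [← emb_smul, hd, mul_smul, inv_smul_smul, mul_smul, aff_smul_inf hss]
    · rw [map_mul, map_mul, map_inv, hd, hb, ← aff_conj_one hss 0]
      group
  refine le_antisymm hX fun g hg => ?_
  obtain ⟨a, ha⟩ := mem_uni_smul_inf.1 hg
  obtain ⟨v, hv, e1⟩ := key ((a / b + 1) / 2)
  obtain ⟨w, hw, e2⟩ := key ((a / b - 1) / 2)
  have : g = v * w⁻¹ := emb_injective (by
    rw [map_mul, map_inv, eq_mul_inv_iff_mul_eq, e1, e2, ha]
    have : aff (1 : F) a * aff 1 ((a / b - 1) / 2 * ((a / b - 1) / 2) * b) =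
        aff 1 ((a / b + 1) / 2 * ((a / b + 1) / 2) * b) := by
      rw [aff_mul one_ne_zero one_ne_zero]
      congr 1
      · ring
      · field_simp
        ring
    rw [← this]
    group)
  exact this ▸ mul_mem hv (inv_mem hw)

theorem Sp.Ctx.l2a (h : S.Ctx) {M : Subgroup G} (hM : MM M) {F : Type} [Field F] [Fintype F]
    (e : M ≃* PSL(2, F)) {p : ℕ} [Fact p.Prime] [CharP F p] (hp : p ∣ Nat.card ↥(S.U x ⊓ M)) :
    S.TyL Set.univ := by
  obtain ⟨P, X, h1, h2, h3, h4, h5⟩ := h.l2a_syl hM e hp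
  obtain ⟨z, hz⟩ := exists_sylow_eq_uniS p P
  rw [hz] at h2 h5
  rw [normalizer_uniS] at h5
  have key : ∀ g, l2aHom e g • x = x ↔ g • z = z := fun g =>
    ⟨fun hg => normalizer_eq_stabilizer h2 h1 (h4 g hg), fun hg => h5 g hg⟩
  have hF : (2 : F) ≠ 0 := fun h0 => by
    have : p ∣ 2 := (CharP.cast_eq_zero_iff F p 2).1 (by exact_mod_cast h0)
    obtain rfl := (Nat.prime_dvd_prime_iff_eq Fact.out Nat.prime_two).1 this
    exact (h.odd_U x).not_two_dvd_nat (hp.trans (card_dvd_of_le inf_le_left))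
  obtain rfl := l2a_eq_uniS hF h2 h1 fun g hg => h4 g ((key g).2 hg)
  choose k hk using exists_smulS z
  have key2 : ∀ a b : PSL(2, F), l2aHom e a • x = l2aHom e b • x ↔ a • z = b • z := fun a b => by
    rw [← inv_smul_eq_iff, ← mul_smul, ← map_inv, ← map_mul, eq_comm, ← inv_smul_eq_iff,
      ← map_inv, key, mul_inv_rev, inv_inv, mul_smul, inv_smul_eq_iff, eq_comm]
  have hE : ∀ g w, l2aHom e g • l2aHom e (k w) • x = l2aHom e (k (g • w)) • x := fun g w => by
    rw [← mul_smul, ← map_mul, key2, mul_smul, hk, hk]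
  have hU : ∀ w, ∀ u ∈ uniS w, l2aHom e u ∈ S.U (l2aHom e (k w) • x) := fun w u hu => by
    rw [← hk w, uniS_smul, mem_cj] at hu
    have := S.conj (l2aHom e (k w)) x _ (h3 _ hu)
    rw [← map_inv, ← map_mul, ← map_mul] at this
    simpa [mul_assoc] using this
  have hT : ∀ w, ∀ g ∈ uni w, ∃ u ∈ S.U (l2aHom e (k w) • x),
      ∀ v, u • l2aHom e (k v) • x = l2aHom e (k (g • v)) • x := fun w g hg => by
    obtain ⟨u, rfl⟩ := exists_emb_of_mem (uni_le_psl w hg)
    exact ⟨_, hU w u hg, fun v => by rw [hE, emb_smul]⟩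
  refine ⟨F, inferInstance, inferInstance, fun w => l2aHom e (k w) • x, fun a b hab => ?_,
    Set.eq_univ_of_forall fun c => ?_, fun a => hT _ _ (mem_uni_inf.2 ⟨a, rfl⟩),
    fun a => hT _ _ (low_mem_uni a)⟩
  · rw [← hk a, ← hk b]
    exact (key2 _ _).1 hab
  · obtain ⟨g, rfl⟩ := h.l2a_trans hM e x c
    exact ⟨g • z, (key2 _ _).2 (hk _)⟩

end Cfsg.Agent.HKS
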