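import Mathlib
import Cfsg.Agent.HKS.Ctx
import Cfsg.Agent.HKS.LFA
import Cfsg.Agent.HKS.LFB
import Cfsg.Agent.HKS.SF

/-! Piece A: no involution has unitary type -/

set_option autoImplicit false
set_option linter.unusedSectionVars false
set_option linter.unusedVariables false

namespace Cfsg.Agent.HKS

open Subgroup MulAction Cfsg.Agent.TT Cfsg.Agent.Perm.TT Cfsg.Agent.Cl.L2
open Cfsg.Agent.KS (St)
open scoped MatrixGroups Pointwise commutatorElement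

variable {G Ω : Type*} [Group G] [MulAction G Ω] [Finite G] [Finite Ω] {S : Sp G Ω}
  {Δ Δ' : Set Ω} {x y : Ω}

namespace PA

theorem sq {t : G} (ht : orderOf t = 2) : t * t = 1 := by
  rw [← pow_two, ← ht, pow_orderOf_eq_one]

theorem ne1 {t : G} (ht : orderOf t = 2) : t ≠ 1 := by
  rintro rfl
  simp at ht

/-- A group of odd order has no involution. -/
theorem not_mem_odd {K : Subgroup G} (hK : Odd (Nat.card K)) {z : G} (hz : orderOf z = 2) :
    z ∉ K := by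
  intro hm
  have h := K.orderOf_dvd_natCard hm
  rw [hz] at h
  exact (Nat.not_even_iff_odd.2 hK) (even_iff_two_dvd.2 h)

theorem conj_comm {U : Subgroup G} {k u : G} (hk : ∀ v ∈ U, k * v * k⁻¹ ∈ U) (hu : u ∈ ⁅U, U⁆) :
    k * u * k⁻¹ ∈ ⁅U, U⁆ := by
  have h : (⁅U, U⁆ : Subgroup G).map (MulAut.conj k).toMonoidHom ≤ ⁅U, U⁆ := by
    rw [map_commutator]
    have : U.map (MulAut.conj k).toMonoidHom ≤ U := by
      rintro _ ⟨v, hv, rfl⟩
      exact hk v hv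
    exact commutator_mono this this
  exact h ⟨u, hu, rfl⟩

theorem nil_le {U A : Subgroup G} (hU : Group.IsNilpotent U) (hA : A ≤ U) : Group.IsNilpotent A := by
  have := hU
  exact Group.nilpotent_of_mulEquiv (subgroupOfEquivOfLe hA)

theorem fix_mul {t z : G} {c : Ω} (h1 : t • c = c) (h2 : (t * z) • c = c) : z • c = c := by
  rw [mul_smul] at h2
  exact smul_left_cancel t (h2.trans h1.symm)

theorem fix_mul' {t z : G} {c : Ω} (h1 : z • c = c) (h2 : (t * z) • c = c) : t • c = c := by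
  rwa [mul_smul, h1] at h2

/-- The root group is not centralized by an involution fixing two points. -/
theorem not_cen (h : S.Ctx) {t : G} (ht : orderOf t = 2) (hxy : y ≠ x) (tx : t • x = x)
    (ty : t • y = y) (hc : ∀ u ∈ S.U x, Commute u t) : False :=
  h.fix_ne (ne1 ht) (Set.eq_univ_of_forall fun c => Sp.fix_all hxy tx ty hc c)

/-- The case where the axis of `t * z` lies in the axis of `z`. -/
theorem case1 (h : S.Ctx) {t z : G} {q : ℕ} (V : V4 x y t z) (D : S.DU (fixedBy Ω t) q)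
    (zL : z ∈ S.L (fixedBy Ω t)) (Lz : S.LT (fixedBy Ω z))
    (hle : fixedBy Ω (t * z) ⊆ fixedBy Ω z) : False := by
  have hxt : x ∈ fixedBy Ω t := V.tx
  have hnU := S.nil x
  have hUt : S.UD (fixedBy Ω t) x ≤ S.U x := inf_le_left
  -- a central commutator
  obtain ⟨u, hu, v, hv, huv⟩ := D.nc x hxt
  have h1 : (⁅S.UD (fixedBy Ω t) x, S.UD (fixedBy Ω t) x⁆ : Subgroup G) ≠ ⊥ := by
    intro hb
    apply huv
    have : ⁅u, v⁆ ∈ (⁅S.UD (fixedBy Ω t) x, S.UD (fixedBy Ω t) x⁆ : Subgroup G) :=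
      commutator_mem_commutator hu hv
    rw [hb, mem_bot] at this
    exact commutatorElement_eq_one_iff_commute.1 this
  obtain ⟨a, ha, a1, hac⟩ := nil_cen (nil_le hnU hUt) (commutator_le_self _) h1
    (fun u hu a ha => conj_comm (fun v hv => mul_mem (mul_mem hu hv) (inv_mem hu)) ha)
  have haU : a ∈ S.UD (fixedBy Ω t) x := commutator_le_self _ ha
  have haz : Commute a z := (D.cen z zL V.s2 x hxt V.sx a haU).2 hac
  have haz' : a ∈ S.UD (fixedBy Ω z) x := (Sp.mem_UD_fix V.ne V.sx V.sy).2 ⟨hUt haU, haz⟩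
  have hY := Lz.irr (x := x) (y := y) (Y := ⁅S.U x, S.U x⁆ ⊓ S.UD (fixedBy Ω z) x) V.sx V.sy V.ne
    inf_le_right
    (by
      intro hb
      have : a ∈ ⁅S.U x, S.U x⁆ ⊓ S.UD (fixedBy Ω z) x :=
        mem_inf.2 ⟨commutator_mono hUt hUt ha, haz'⟩
      rw [hb, mem_bot] at this
      exact a1 this)
    (fun k hk kx _ u hu => mem_inf.2 ⟨conj_comm (fun v hv => Sp.conj_fix kx hv) (mem_inf.1 hu).1,
      Sp.conj_mem_UD (Sp.L_le_St hk) kx (mem_inf.1 hu).2⟩)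
  have hz : S.UD (fixedBy Ω z) x ≤ ⁅S.U x, S.U x⁆ := hY ▸ inf_le_left
  have V' := V.mul
  have hnt : (fixedBy Ω (t * z)).Nontrivial := ⟨y, V'.sy, x, V'.sx, V.ne⟩
  have hgen : S.U x ≤ S.UD (fixedBy Ω t) x ⊔ ⁅S.U x, S.U x⁆ :=
    gen_four (h.odd_U x) (sq V.t2) (sq V.s2) V.comm (fun u hu => Sp.conj_fix V.tx hu)
      (fun u hu => Sp.conj_fix V.sx hu)
      (fun u hu hc => mem_sup_left ((Sp.mem_UD_fix V.ne V.tx V.ty).2 ⟨hu, hc⟩))
      (fun u hu hc => mem_sup_right (hz ((Sp.mem_UD_fix V.ne V.sx V.sy).2 ⟨hu, hc⟩)))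
      (fun u hu hc => mem_sup_right (hz ((Sp.cl_fix z).UD_mono hnt hle V'.sx
        ((Sp.mem_UD_fix V.ne V'.sx V'.sy).2 ⟨hu, hc⟩))))
  have heq := nil_sup hnU hUt hgen
  exact not_cen h V.t2 V.ne V.tx V.ty fun u hu =>
    ((Sp.mem_UD_fix V.ne V.tx V.ty).1 (heq ▸ hu)).2

/-- If `t` and `t * z` have unitary type, the root group of `z` is the centre of the root group. -/
theorem cen_eq (h : S.Ctx) {t z : G} {q q' : ℕ} (V : V4 x y t z) (D : S.DU (fixedBy Ω t) q)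
    (zL : z ∈ S.L (fixedBy Ω t)) (Lz : S.LT (fixedBy Ω z)) (D' : S.DU (fixedBy Ω (t * z)) q')
    (zL' : z ∈ S.L (fixedBy Ω (t * z))) :
    S.U x ⊓ centralizer (S.U x : Set G) = S.UD (fixedBy Ω z) x := by
  have V' := V.mul
  have hn : ∀ k : G, k • x = x → ∀ u ∈ S.U x ⊓ centralizer (S.U x : Set G),
      k * u * k⁻¹ ∈ S.U x ⊓ centralizer (S.U x : Set G) := by
    intro k kx u hu
    refine mem_inf.2 ⟨Sp.conj_fix kx (mem_inf.1 hu).1, mem_centralizer_iff.2 fun v hv => ?_⟩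
    have kx' : k⁻¹ • x = x := by rw [inv_smul_eq_iff, kx]
    have := mem_centralizer_iff.1 (mem_inf.1 hu).2 _ (Sp.conj_fix (S := S) kx' hv)
    calc v * (k * u * k⁻¹) = k * (k⁻¹ * v * k⁻¹⁻¹ * u) * k⁻¹ := by group
      _ = k * (u * (k⁻¹ * v * k⁻¹⁻¹)) * k⁻¹ := by rw [this]
      _ = k * u * k⁻¹ * v := by group
  have hc : ∀ u ∈ S.U x ⊓ centralizer (S.U x : Set G), ∀ v ∈ S.U x, Commute u v :=
    fun u hu v hv => (mem_centralizer_iff.1 (mem_inf.1 hu).2 v hv).symm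
  have hodd : Odd (Nat.card ↥(S.U x ⊓ centralizer (S.U x : Set G))) :=
    Odd.of_dvd_nat (h.odd_U x) (card_dvd_of_le inf_le_left)
  have hle : S.U x ⊓ centralizer (S.U x : Set G) ≤ S.UD (fixedBy Ω z) x :=
    gen_four hodd (sq V.t2) (sq V.s2) V.comm (hn t V.tx) (hn z V.sx)
      (fun u hu hut => (Sp.mem_UD_fix V.ne V.sx V.sy).2 ⟨(mem_inf.1 hu).1,
        (D.cen z zL V.s2 x V.tx V.sx u
          ((Sp.mem_UD_fix V.ne V.tx V.ty).2 ⟨(mem_inf.1 hu).1, hut⟩)).2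
          fun v hv => hc u hu v (mem_inf.1 hv).1⟩)
      (fun u hu hut => (Sp.mem_UD_fix V.ne V.sx V.sy).2 ⟨(mem_inf.1 hu).1, hut⟩)
      (fun u hu hut => (Sp.mem_UD_fix V.ne V.sx V.sy).2 ⟨(mem_inf.1 hu).1,
        (D'.cen z zL' V.s2 x V'.sx V.sx u
          ((Sp.mem_UD_fix V.ne V'.sx V'.sy).2 ⟨(mem_inf.1 hu).1, hut⟩)).2
          fun v hv => hc u hu v (mem_inf.1 hv).1⟩)
  have hU : S.U x ≠ ⊥ := by
    intro hb
    have h1 := h.card_U x
    have h4 := h.four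
    rw [hb, card_bot] at h1
    omega
  obtain ⟨a, ha, a1, hac⟩ := nil_cen (S.nil x) le_rfl hU
    (fun u hu a ha => mul_mem (mul_mem hu ha) (inv_mem hu))
  refine Lz.irr (x := x) (y := y) V.sx V.sy V.ne hle ?_ fun k _ kx _ => hn k kx
  intro hb
  have : a ∈ S.U x ⊓ centralizer (S.U x : Set G) :=
    mem_inf.2 ⟨ha, mem_centralizer_iff.2 fun v hv => (hac v hv).symm⟩
  rw [hb, mem_bot] at this
  exact a1 this

end PA

open PA in
theorem Sp.Ctx.noU (h : S.Ctx) : S.NoU := by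
  intro t ht q D
  obtain ⟨z, zL, ρ, ρL, z2, hzz, hp⟩ := D.pair
  have hq := D.three
  have hΓ := D.fix z zL z2
  have hΓ1 : 1 < (fixedBy Ω t ∩ fixedBy Ω z).ncard := by omega
  obtain ⟨x, hx, y, hy, hxy⟩ := (Set.one_lt_ncard (Set.toFinite _)).1 hΓ1
  have hΓnt : (fixedBy Ω t ∩ fixedBy Ω z).Nontrivial := ⟨x, hx, y, hy, hxy⟩
  have htnt : (fixedBy Ω t).Nontrivial := hΓnt.mono Set.inter_subset_left
  have hzt : Commute z t := Sp.commute_L_W htnt zL (self_mem_W t)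
  have hρt : Commute ρ t := Sp.commute_L_W htnt ρL (self_mem_W t)
  have htz : t ≠ z := by
    rintro rfl
    exact not_mem_odd D.odd ht (mem_inf.2 ⟨zL, self_mem_W t⟩)
  have V : V4 x y t z := ⟨hxy.symm, ht, z2, hzt.symm, htz, hx.1, hy.1, hx.2, hy.2⟩
  have V' := V.mul
  have zΓ := D.mem z zL z2
  have hΓz : fixedBy Ω t ∩ fixedBy Ω z ⊆ fixedBy Ω z := Set.inter_subset_right
  have hΓtz : fixedBy Ω t ∩ fixedBy Ω z ⊆ fixedBy Ω (t * z) := by
    rintro c ⟨h1, h2⟩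
    change (t * z) • c = c
    rw [mul_smul, show z • c = c from h2, show t • c = c from h1]
  have hΓeq : fixedBy Ω (t * z) ∩ fixedBy Ω z = fixedBy Ω t ∩ fixedBy Ω z :=
    Set.Subset.antisymm (fun c hc => ⟨fix_mul' hc.2 hc.1, hc.2⟩) fun c hc => ⟨hΓtz hc, hc.2⟩
  have zLz : z ∈ S.L (fixedBy Ω z) := (Sp.cl_fix z).L_mono hΓnt hΓz zΓ
  have zLtz : z ∈ S.L (fixedBy Ω (t * z)) := (Sp.cl_fix (t * z)).L_mono hΓnt hΓtz zΓ
  have big : ∀ {A : Set Ω}, fixedBy Ω t ∩ fixedBy Ω z ⊆ A → 2 < A.ncard := fun hA =>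
    lt_of_lt_of_le (by omega) (Set.ncard_le_ncard hA (Set.toFinite _))
  -- the type of `z`
  have Lz : S.LT (fixedBy Ω z) := by
    rcases h.ty_fix z2 (big hΓz) with ⟨-, N, hN⟩ | hL | ⟨q', D'⟩ | ⟨q', A, D'⟩
    · exact absurd (hN.fix2 zLz V.sx V.sy V.ne V.sx V.sy) (ne1 z2)
    · exact h.lt hL
    · exact absurd (mem_inf.2 ⟨zLz, self_mem_W z⟩) (not_mem_odd D'.odd z2)
    · exact absurd (mem_inf.2 ⟨zLz, self_mem_W z⟩) (not_mem_odd D'.odd z2)
  have hztz : Commute z (t * z) := hzt.mul_right (Commute.refl z)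
  -- the type of `t * z`
  rcases h.ty_fix V'.s2 (big hΓtz) with ⟨-, N, hN⟩ | hL | ⟨q', D'⟩ | ⟨q', A, D'⟩
  · exact ne1 z2 (hN.fix2 zLtz V'.sx V'.sy V.ne V.sx V.sy)
  · have hW := (h.lt hL).three zLtz (by rw [hΓeq]; omega)
    exact case1 h V D zL Lz fun c hc => mem_W.1 hW c hc
  · have hz1t : Commute (ρ * z * ρ⁻¹) t := (hρt.mul_left hzt).mul_left hρt.inv_left
    have z12 : ρ * z * ρ⁻¹ * (ρ * z * ρ⁻¹) = 1 := by
      calc ρ * z * ρ⁻¹ * (ρ * z * ρ⁻¹) = ρ * (z * z) * ρ⁻¹ := by group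
        _ = 1 := by rw [sq z2]; group
    by_cases tW : t ∈ W G (fixedBy Ω z)
    · have D1 := D'.smul ρ
      have e : ρ * (t * z) * ρ⁻¹ = t * (ρ * z * ρ⁻¹) := by
        rw [← mul_assoc, hρt.eq]; group
      rw [← fix_conj, e] at D1
      obtain ⟨c, hc, zc⟩ := D1.ua z (mem_St_fix (hzt.mul_right hzz))
        (by rw [sq z2]; exact one_mem _)
      have tc : t • c = c := mem_W.1 tW c zc
      exact hp c tc zc (fix_mul tc hc)
    · have hZ := cen_eq h V D zL Lz D' zLtz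
      obtain ⟨p, hpz, z1p⟩ := Lz.swap_fix (t := t) (z := ρ * z * ρ⁻¹) (x := x)
        (mem_St_fix hzt.symm) (mem_St_fix hzz.symm) (by rw [sq ht]; exact one_mem _)
        (by rw [z12]; exact one_mem _)
        (by rw [hz1t.symm.eq, mul_inv_cancel_right, mul_inv_cancel]; exact one_mem _) tW
        (by rw [Set.inter_comm]; omega) V.sx V.tx
      obtain ⟨c, hcz, hcp, z1c⟩ := exists_snd_fix (h.even_fix z2) (mem_St_fix hzz.symm)
        (by rw [z12]; exact one_mem _) hpz z1p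
      have back : ∀ {a : Ω}, (ρ * z * ρ⁻¹) • a = a → ρ⁻¹ • a ∈ fixedBy Ω z := by
        intro a ha
        change z • ρ⁻¹ • a = ρ⁻¹ • a
        rw [mul_smul, mul_smul] at ha
        rw [eq_inv_smul_iff, ha]
      have hρ : ρ⁻¹ ∈ St G (fixedBy Ω z) := by
        refine (Sp.cl_fix (S := S) z).line (big hΓz) V.sx V.sy V.ne ?_ hcz hpz hcp (back z1c)
          (back z1p)
        intro k kx _ u hu
        rw [← hZ] at hu ⊢
        refine mem_inf.2 ⟨Sp.conj_fix kx (mem_inf.1 hu).1, mem_centralizer_iff.2 fun v hv => ?_⟩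
        have kx' : k⁻¹ • x = x := by rw [inv_smul_eq_iff, kx]
        have := mem_centralizer_iff.1 (mem_inf.1 hu).2 _ (Sp.conj_fix (S := S) kx' hv)
        calc v * (k * u * k⁻¹) = k * (k⁻¹ * v * k⁻¹⁻¹ * u) * k⁻¹ := by group
          _ = k * (u * (k⁻¹ * v * k⁻¹⁻¹)) * k⁻¹ := by rw [this]
          _ = k * u * k⁻¹ * v := by group
      have hc := ((Lz.sl_cen zLz (self_mem_W z) z2).2.2 _ hρ).inv_left
      rw [inv_inv] at hc
      apply hp x V.tx V.sx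
      rw [hc.eq, mul_inv_cancel_right]
      exact V.sx
  · by_cases zW : z ∈ W G (fixedBy Ω (t * z))
    · exact not_mem_odd D'.odd z2 (mem_inf.2 ⟨zLtz, zW⟩)
    · refine D'.nmem z (mem_St_fix hztz) (by rw [sq z2]; exact one_mem _) zW ?_
      rw [hΓeq]
      exact zΓ

end Cfsg.Agent.HKS
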