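import Mathlib
import Cfsg.Agent.HKS.Ctx
import Cfsg.Agent.HKS.Mu
import Cfsg.Agent.HKS.LFA
import Cfsg.Agent.HKS.LFB

/-! Piece D4a: four-groups fix at most two points -/

set_option autoImplicit false

namespace Cfsg.Agent.HKS

open Subgroup MulAction Cfsg.Agent.TT Cfsg.Agent.Perm.TT Cfsg.Agent.Cl.L2
open Cfsg.Agent.KS (St)
open scoped MatrixGroups Pointwise commutatorElement

variable {G Ω : Type*} [Group G] [MulAction G Ω] [Finite G] [Finite Ω] {S : Sp G Ω}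
  {Δ Δ' : Set Ω} {x y : Ω}

namespace D4a

omit [Finite G] in
theorem sq {g : G} (hg : orderOf g = 2) : g * g = 1 := by rw [← pow_two, ← hg, pow_orderOf_eq_one]

theorem lt (h : S.Ctx) (hA : S.AL) {g : G} (hg : orderOf g = 2) (gx : g • x = x) : S.LT (fixedBy Ω g) :=
  h.lt (hA g hg ⟨x, gx⟩)

variable (h : S.Ctx) (hA : S.AL) {t s v : G} (V : V4 x y t s) (hv : v ∈ S.U x) (v1 : v ≠ 1) (vt : Commute v t)
  (vs : Commute v s)
include h V hv vt vs

theorem gen (Y : Subgroup G) (hY : ∀ g : G, orderOf g = 2 → g • x = x → g • y = y → v ∈ S.UD (fixedBy Ω g) x →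
    S.UD (fixedBy Ω g) x ≤ Y) : S.U x ≤ Y := by
  have k : ∀ g : G, orderOf g = 2 → g • x = x → g • y = y → Commute v g → ∀ u ∈ S.U x, Commute u g → u ∈ Y :=
    fun g hg gx gy vg u hu c => hY g hg gx gy ((Sp.mem_UD_fix V.ne gx gy).2 ⟨hv, vg⟩) ((Sp.mem_UD_fix V.ne gx gy).2 ⟨hu, c⟩)
  exact gen_four (h.odd_U x) (sq V.t2) (sq V.s2) V.comm (fun _ => Sp.conj_fix V.tx) (fun _ => Sp.conj_fix V.sx)
    (k t V.t2 V.tx V.ty vt) (k s V.s2 V.sx V.sy vs) (k _ V.mul.s2 V.mul.sx V.mul.sy (vt.mul_right vs))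

include hA v1

theorem ab : ∀ u ∈ S.U x, ∀ w ∈ S.U x, Commute u w := by
  have c1 : S.U x ≤ centralizer {v} := gen h V hv vt vs _ fun g hg gx _ vg u hu => mem_centralizer_singleton_iff.2
    ((lt h hA hg gx).comm gx u hu v vg)
  have c2 : S.U x ≤ centralizer (S.U x : Set G) := by
    refine gen h V hv vt vs _ fun g hg gx gy vg => inf_eq_left.1 ?_
    refine (lt h hA hg gx).irr gx gy V.ne inf_le_left (fun e => v1 (mem_bot.1 (e.le (mem_inf.2 ⟨vg,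
      fun u hu => mem_centralizer_singleton_iff.1 (c1 hu)⟩)))) fun k hk kx _ u hu =>
        mem_inf.2 ⟨Sp.conj_mem_UD (Sp.L_le_St hk) kx (mem_inf.1 hu).1, fun w hw => ?_⟩
    have e := (mem_inf.1 hu).2 _ (Sp.conj_fix (inv_smul_eq_iff.2 kx.symm) hw)
    calc w * (k * u * k⁻¹) = k * (k⁻¹ * w * k⁻¹⁻¹ * u) * k⁻¹ := by group
      _ = _ := by rw [e]; group
  exact fun u hu w hw => c2 hw u hu

theorem mu_sq : S.mu x y v * S.mu x y v = 1 := by
  have e1 : (S.mu x y v * S.mu x y v) • x = x := by rw [mul_smul, Sp.mu_x V.ne hv v1, Sp.mu_y V.ne hv v1]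
  have e2 : (S.mu x y v * S.mu x y v) • y = y := by rw [mul_smul, Sp.mu_y V.ne hv v1, Sp.mu_x V.ne hv v1]
  have e3 : ∀ g : G, orderOf g = 2 → g • x = x → g • y = y → v ∈ S.UD (fixedBy Ω g) x →
      S.mu x y v * S.mu x y v ∈ W G (fixedBy Ω g) := fun g hg gx gy vg => ((lt h hA hg gx).spec gx gy V.ne vg v1).2.1
  generalize S.mu x y v * S.mu x y v = m at e1 e2 e3
  have e4 : S.U x ≤ centralizer {m} := gen h V hv vt vs _ fun g hg gx gy vg w hw => mem_centralizer_singleton_iff.2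
    (Sp.commute_L_W (lt h hA hg gx).nontrivial (Sp.UD_le_L (mem_fixedBy.2 gx) hw) (e3 g hg gx gy vg)).eq
  exact h.two.faith _ (Sp.fix_all V.ne e1 e2 fun u hu => mem_centralizer_singleton_iff.1 (e4 hu))

theorem core (n1 : ¬ fixedBy Ω t ⊆ fixedBy Ω s) (n2 : ¬ fixedBy Ω s ⊆ fixedBy Ω t) : False := by
  have t2 := sq V.t2
  have s2 := sq V.s2
  have Lt := lt h hA V.t2 V.tx
  have Ls := lt h hA V.s2 V.sx
  have b1 := (Lt.spec V.tx V.ty V.ne ((Sp.mem_UD_fix V.ne V.tx V.ty).2 ⟨hv, vt⟩) v1).2.2.1 (mu_sq h hA V hv v1 vt vs)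
  obtain ⟨u, hu, us⟩ : ∃ u ∈ S.UD (fixedBy Ω t) x, ¬ Commute u s := by
    by_contra! e
    exact n1 (mem_W.1 (Lt.cl.mem_W V.tx V.ty V.ne V.sx V.sy e))
  obtain ⟨c, -, a, ha, rfl, cs, sa, -⟩ := odd_dec (O := S.UD (fixedBy Ω t) x)
    ((h.odd_U x).of_dvd_nat (card_dvd_of_le inf_le_left)) s2
    (fun _ => Sp.conj_mem_UD (mem_St_fix V.comm.symm) V.sx) hu
  have a1 : a ≠ 1 := fun e => us (by rwa [e, mul_one])
  have cm : ∀ g b : G, g • x = x → g • y = y → b ∈ S.UD (fixedBy Ω g) x → b ≠ 1 → Commute (S.mu x y b) g := by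
    intro g b gx gy hb b1
    have e := Sp.mu_conj V.ne gx gy hb.1 b1
    rw [← ((Sp.mem_UD_fix V.ne gx gy).1 hb).2.eq, mul_inv_cancel_right, mul_inv_eq_iff_eq_mul] at e
    exact e.symm
  obtain ⟨p1, -, p2⟩ := Lt.spec V.tx V.ty V.ne ha a1
  have m2 := p2.2 b1
  have ms : Commute (S.mu x y a) s := by
    have e := Sp.mu_conj V.ne V.sx V.sy ha.1 a1
    rw [sa, Sp.mu_inv, inv_eq_of_mul_eq_one_right m2, mul_inv_eq_iff_eq_mul] at e
    exact e.symm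
  have an : S.AN (fixedBy Ω s) x y (S.mu x y a) := by
    refine ⟨V.sx, V.sy, V.ne, mem_St_fix ms, Sp.mu_x V.ne ha.1 a1, Sp.mu_y V.ne ha.1 a1, by rw [m2]; exact one_mem _,
      fun b hb b1 e hW => Sp.an0 h.even V.ne (ab h hA V hv v1 vt vs) V.sx V.sy s2 (.inl rfl) ha.1 hb.1 a1 b1
        p1 (Ls.spec V.sx V.sy V.ne hb b1).1 (by rw [sa, zpow_neg_one]) ?_
        ((cm s b V.sx V.sy hb b1).mul_left ms) e fun w hw ew => ?_⟩
    · rw [← ((Sp.mem_UD_fix V.ne V.sx V.sy).1 hb).2.eq, mul_inv_cancel_right, zpow_one]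
    · rw [zpow_one, mul_inv_eq_iff_eq_mul] at ew
      exact (Sp.commute_L_W Ls.nontrivial (Sp.UD_le_L (mem_fixedBy.2 V.sx) ((Sp.mem_UD_fix V.ne V.sx V.sy).2 ⟨hw, ew.symm⟩)) hW).symm
  rcases Ls.an_a an (mem_St_fix V.comm) V.tx V.ty (by rw [t2]; exact one_mem _) (by
    rw [← (cm t a V.tx V.ty ha a1).eq, mul_inv_cancel_right, mul_inv_cancel]; exact one_mem _) with e | e
  · exact n2 (mem_W.1 e)
  · have e1 := e v ((Sp.mem_UD_fix V.ne V.sx V.sy).2 ⟨hv, vs⟩)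
    rw [← vt.eq, mul_inv_cancel_right] at e1
    have e2 : orderOf v ∣ 2 := orderOf_dvd_of_pow_eq_one (by rw [pow_two]; exact mul_eq_one_iff_eq_inv.2 e1)
    exact v1 (orderOf_eq_one_iff.1 (Nat.eq_one_of_dvd_coprimes (Nat.coprime_two_left.2 (h.odd_U x)) e2
      (orderOf_dvd_natCard _ hv)))

theorem sub (n : fixedBy Ω t ⊆ fixedBy Ω s) : False := by
  have k : ∀ c : Ω, s • c = c → (s * t) • c = c → t • c = c := fun c e e' => by
    rwa [← V.comm.eq, mul_smul, e] at e'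
  refine core h hA V.swap.mul hv v1 vs (vs.mul_right vt) (fun e => h.rank1 V n (.inl ?_)) fun e => h.rank1 V n (.inr ?_)
  · exact Set.ncard_le_ncard fun c hc => k c hc (e hc)
  · rw [V.comm.eq]
    exact Set.ncard_le_ncard fun c hc => k c (e hc) hc

end D4a

theorem Sp.Ctx.k1 (h : S.Ctx) (hA : S.AL) : K1 G Ω := by
  intro s t hs ht hc ne
  by_contra! h3
  obtain ⟨x, hx, y, hy, c, hc', xy, xc, yc⟩ := (Set.two_lt_ncard (Set.toFinite _)).1 h3
  obtain ⟨v, hv, e⟩ := S.tr x y c xy.symm xc.symm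
  have V : V4 x y s t := ⟨xy.symm, hs, ht, hc, ne, hx.1, hy.1, hx.2, hy.2⟩
  have v1 : v ≠ 1 := fun e' => yc (by rw [← e, e', one_smul])
  have vs := Basic.comm hv V.ne V.tx V.ty (by rw [e]; exact hc'.1)
  have vt := Basic.comm hv V.ne V.sx V.sy (by rw [e]; exact hc'.2)
  exact D4a.core h hA V hv v1 vs vt (D4a.sub h hA V hv v1 vs vt) (D4a.sub h hA V.swap hv v1 vt vs)

end Cfsg.Agent.HKS
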