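import Mathlib
import Cfsg.Agent.HKS.Mu

/-! Piece Mp: two maps `μ` coincide -/

set_option autoImplicit false

namespace Cfsg.Agent.HKS

open Subgroup MulAction Cfsg.Agent.TT Cfsg.Agent.Perm.TT Cfsg.Agent.Cl.L2
open Cfsg.Agent.KS (St)
open scoped MatrixGroups Pointwise commutatorElement

namespace Mp

section Core

variable {A G Ω : Type*} [AddCommGroup A] [Group G] [MulAction G Ω]

/-- The abstract situation: an abelian root group `α` and the swapping element `g`. -/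
structure Dat (α : A → G) (x y : Ω) (g : G) (ζ : A →+ A) : Prop where
  add : ∀ a b, α (a + b) = α a * α b
  fx : ∀ a, α a • x = x
  gx : g • x = y
  gy : g • y = x
  hz : ∀ a, g⁻¹ • α a • y = g • α (ζ a) • y
  free : ∀ a m, m ≠ 0 → α a • g • α m • y = g • α m • y → a = 0

variable {α : A → G} {x y : Ω} {g : G} {ζ : A →+ A}

theorem Dat.zero (D : Dat α x y g ζ) : α 0 = 1 := by
  have := D.add 0 0
  rw [add_zero] at this
  exact mul_left_cancel (this.symm.trans (mul_one _).symm)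

theorem Dat.neg (D : Dat α x y g ζ) (a : A) : α (-a) = (α a)⁻¹ :=
  eq_inv_of_mul_eq_one_left (by rw [← D.add, neg_add_cancel, D.zero])

theorem Dat.smul (D : Dat α x y g ζ) (a b : A) (p : Ω) : α a • α b • p = α (a + b) • p := by
  rw [D.add, mul_smul]

theorem Dat.conj (D : Dat α x y g ζ) {a a1 a2 : A} (h : g = α a2 * (g * α a * g⁻¹) * α a1) :
    g * α a * g⁻¹ = α (-a2) * g * α (-a1) := by
  rw [D.neg, D.neg]
  calc g * α a * g⁻¹ = (α a2)⁻¹ * (α a2 * (g * α a * g⁻¹) * α a1) * (α a1)⁻¹ := by group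
    _ = _ := by rw [← h]

theorem Dat.comm (D : Dat α x y g ζ) (a b : A) : Commute (g * α a * g⁻¹) (g * α b * g⁻¹) := by
  have : α a * α b = α b * α a := by rw [← D.add, add_comm, D.add]
  calc g * α a * g⁻¹ * (g * α b * g⁻¹) = g * (α a * α b) * g⁻¹ := by group
    _ = _ := by rw [this]; group

theorem Dat.star (D : Dat α x y g ζ) {u u1 u2 w w1 w2 : A} (hu : g = α u2 * (g * α u * g⁻¹) * α u1)
    (hw : g = α w2 * (g * α w * g⁻¹) * α w1) :
    g • α (w1 - u1) • y = α (u2 + w1) • g • α (ζ w2 - ζ u2) • y := by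
  have h := congrArg (· • x) (D.comm u w).inv_right.eq
  have gx' : g⁻¹ • x = y := by rw [inv_smul_eq_iff, D.gy]
  simp only [D.conj hu, D.conj hw, mul_inv_rev, ← D.neg, neg_neg, mul_smul, D.fx, gx', D.gx, D.smul, D.hz] at h
  rw [← D.smul, ← map_sub, sub_eq_add_neg w2, ← h, D.smul, add_neg_cancel, D.zero, one_smul, sub_eq_neg_add]

theorem Dat.plus (D : Dat α x y g ζ) {u u1 u2 w w1 w2 : A} (hu : g = α u2 * (g * α u * g⁻¹) * α u1)
    (hw : g = α w2 * (g * α w * g⁻¹) * α w1) :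
    g • α (-u1 - w2) • y = α (u2 - w2) • g • α (-u2 - w1) • y := by
  have h := congrArg (· • x) (D.comm u w).eq
  simp only [D.conj hu, D.conj hw, mul_smul, D.fx, D.gx, D.smul] at h
  rw [sub_eq_add_neg u2, ← D.smul, sub_eq_add_neg (-u2), add_comm (-u2), ← h, D.smul, add_neg_cancel, D.zero,
    one_smul, sub_eq_add_neg]

theorem Dat.core (D : Dat α x y g ζ) (ζζ : ∀ a, ζ (ζ a) = a) (odd : ∀ a : A, a + a = 0 → a = 0) {θ : A → A}
    {Y : A → Prop} (hY : ∀ a, Y a → Y (θ a) ∧ g = α (θ (θ a)) * (g * α a * g⁻¹) * α (θ a) ∧ θ (θ (θ a)) = ζ a)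
    {b c : A} (hb : Y b) (hc : Y c) (θc : θ c = c) (n1 : b ≠ c) (n2 : b ≠ -c) :
    c + c + c = 0 ∧ (b + b + b = 0 → ζ b = -b) := by
  obtain ⟨-, tc, ζc⟩ := hY c hc
  simp only [θc] at tc ζc
  replace ζc := ζc.symm
  obtain ⟨k1, t0, z0⟩ := hY b hb
  obtain ⟨k2, t1, z1⟩ := hY _ k1
  obtain ⟨k3, t2, z2⟩ := hY _ k2
  obtain ⟨k4, t3, z3⟩ := hY _ k3
  obtain ⟨k5, t4, z4⟩ := hY _ k4
  obtain ⟨-, t5, -⟩ := hY _ k5
  have e6 : θ (θ (θ (θ (θ (θ b))))) = b := by rw [z3, z0, ζζ]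
  have e24 : θ (θ b) = b → θ (θ (θ (θ b))) = b := fun e => by rw [e, e]
  rw [e6] at t4 t5 z3 z4
  generalize θ (θ (θ (θ (θ b)))) = y5 at *
  generalize θ (θ (θ (θ b))) = y4 at *
  generalize θ (θ (θ b)) = y3 at *
  generalize θ (θ b) = y2 at *
  generalize θ b = y1 at *
  have z5 : y2 = ζ y5 := by rw [z2, ζζ]
  have m0 : c - b ≠ 0 := sub_ne_zero.2 n1.symm
  have s0 := D.star t5 tc
  have s4 := D.star t3 tc
  have s2 := D.star t1 tc
  rw [ζc, ← z1] at s0
  rw [ζc, ← z5] at s4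
  rw [ζc, ← z3] at s2
  have h1 : y1 + c + (y5 + c) + (y3 + c) = 0 :=
    D.free _ _ m0 (by rw [← D.smul, ← D.smul, ← s2, ← s4, ← s0])
  have h0 := congrArg ζ h1
  simp only [map_add, map_zero, ζc, ← z1, ← z5, ← z3] at h0
  have p0 : -c - b ≠ 0 := sub_ne_zero.2 n2.symm
  have h6 : c - b + (c - y5) + (c - y4) + (c - y3) + (c - y2) + (c - y1) = 0 :=
    D.free _ _ p0 (by
      rw [← D.smul, ← D.smul, ← D.smul, ← D.smul, ← D.smul, ← D.plus tc t5, ← D.plus tc t0, ← D.plus tc t1,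
        ← D.plus tc t2, ← D.plus tc t3, ← D.plus tc t4])
  have h3 : c + c + c = 0 := odd _ (odd _ (by linear_combination (norm := abel) h0 + h1 + h6))
  refine ⟨h3, fun b3 => ?_⟩
  have d0 : y2 - b ≠ 0 := fun e => by
    rw [e24 (sub_eq_zero.1 e)] at s0 z1
    have := congrArg ζ (D.free _ _ m0 s0.symm)
    rw [map_add, map_zero, ζc, ← z1] at this
    exact n2 (eq_neg_of_add_eq_zero_left this)
  have s := D.star t5 t1
  rw [← z3, ← z1, show b - y4 = y2 - b by linear_combination (norm := abel) b3 + h3 - h0] at s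
  have h12 := D.free _ _ d0 s.symm
  have h45 := congrArg ζ h12
  rw [map_add, map_zero, ← z1, ← z2] at h45
  rw [← z0]
  linear_combination (norm := abel) h0 + h1 - h3 - h3 - h12 - h45

end Core

end Mp

variable {G Ω : Type*} [Group G] [MulAction G Ω] [Finite G] [Finite Ω] {S : Sp G Ω}
  {Δ Δ' : Set Ω} {x y : Ω}

namespace Sp

theorem mp_step (h : y ≠ x) {g a : G} (ha : a ∈ S.U x) (a1 : a ≠ 1) (e : S.mu x y a = g) :
    S.ap x y g a⁻¹ ≠ 1 ∧ S.mu x y (S.ap x y g a⁻¹) = g ∧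
      g = S.ap x y g (S.ap x y g a⁻¹)⁻¹ * (g * a * g⁻¹) * S.ap x y g a⁻¹ ∧
      S.ap x y g a⁻¹ • y = g • a⁻¹ • y := by
  have gx : g • x = y := e ▸ mu_x h ha a1
  have gy : g • y = x := e ▸ mu_y h ha a1
  obtain ⟨k1, k2, k3, k4, -⟩ := ap_swap h gx gy (inv_mem ha) (inv_ne_one.2 a1)
  have k5 : S.mu x y (S.ap x y g a⁻¹) = g := by
    rw [mu_inv, e, mul_inv_cancel, one_mul, inv_inj] at k4
    exact k4.symm
  refine ⟨k1, k5, ?_, k2⟩
  have := (mu_eq h ap_mem k1).1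
  rw [k5, ← k3] at this
  simpa only [mul_inv_rev, inv_inv, mul_assoc] using this

theorem mprime (he : Even (Nat.card Ω)) (h : y ≠ x) (hc : ∀ u ∈ S.U x, ∀ v ∈ S.U x, Commute u v)
    {c b : G} (hcU : c ∈ S.U x) (hb : b ∈ S.U x) (c1 : c ≠ 1) (b1 : b ≠ 1) (sc : S.Spec x y c)
    (h4 : S.mu x y c ^ 4 = 1) (e : S.mu x y b = S.mu x y c) (n1 : b ≠ c) (n2 : b ≠ c⁻¹) :
    c ^ 3 = 1 ∧ (b ^ 3 = 1 → S.mu x y c ^ 2 * b * (S.mu x y c ^ 2)⁻¹ = b⁻¹) := by
  have gx := mu_x h hcU c1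
  have gy := mu_y h hcU c1
  have sp := (sc.mu_eq h hcU c1).2.2
  generalize hg : S.mu x y c = g at *
  have zx : g ^ 2 • x = x := by rw [pow_two, mul_smul, gx, gy]
  have zy : g ^ 2 • y = y := by rw [pow_two, mul_smul, gy, gx]
  have zz : g ^ 2 * g ^ 2 = 1 := by rw [← pow_add]; exact h4
  let _ : CommGroup (S.U x) := { (inferInstance : Group (S.U x)) with
    mul_comm := fun u v => Subtype.ext (hc _ u.2 _ v.2).eq }
  let α : Additive (S.U x) → G := fun a => (a.toMul : G)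
  let ζ : Additive (S.U x) →+ Additive (S.U x) := AddMonoidHom.mk'
    (fun a => Additive.ofMul ⟨g ^ 2 * α a * (g ^ 2)⁻¹, conj_fix zx a.toMul.2⟩) fun a b =>
      congrArg Additive.ofMul (Subtype.ext (by
        change g ^ 2 * (α a * α b) * (g ^ 2)⁻¹ = g ^ 2 * α a * (g ^ 2)⁻¹ * (g ^ 2 * α b * (g ^ 2)⁻¹)
        group))
  have αζ : ∀ a, α (ζ a) = g ^ 2 * α a * (g ^ 2)⁻¹ := fun _ => rfl
  have αi : ∀ {a a'}, α a = α a' → a = a' := fun e => congrArg Additive.ofMul (Subtype.ext e)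
  have αm : ∀ a, α a ∈ S.U x := fun a => a.toMul.2
  have D : Mp.Dat α x y g ζ :=
    { add := fun _ _ => rfl
      fx := fun a => S.fix x _ (αm a)
      gx := gx
      gy := gy
      hz := fun a => by
        have e1 : (g ^ 2)⁻¹ • y = y := by rw [inv_smul_eq_iff, zy]
        have e2 : g * g ^ 2 = g⁻¹ := eq_inv_of_mul_eq_one_left (by rw [← h4]; group)
        rw [αζ, mul_smul, mul_smul, e1, ← mul_smul g, e2]
      free := fun a m hm e => αi (S.free x _ (fun e' => hm (αi (S.free x y h _ (αm m) (by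
        rw [← gy] at e'
        exact MulAction.injective g e')))) _ (αm a) e) }
  let θ : Additive (S.U x) → Additive (S.U x) := fun a => Additive.ofMul ⟨S.ap x y g (α a)⁻¹, ap_mem⟩
  have αθ : ∀ a, α (θ a) = S.ap x y g (α a)⁻¹ := fun _ => rfl
  have key := D.core (θ := θ) (Y := fun a => α a ≠ 1 ∧ S.mu x y (α a) = g)
    (fun a => αi (by
      rw [αζ, αζ]
      calc _ = g ^ 2 * g ^ 2 * α a * (g ^ 2 * g ^ 2)⁻¹ := by group
        _ = _ := by rw [zz]; group))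
    (fun a ha => by
      have h2 : a.toMul ^ 2 = 1 := by rw [pow_two]; exact congrArg Additive.toMul ha
      have := orderOf_dvd_of_pow_eq_one h2
      have h3 := orderOf_dvd_natCard a.toMul
      have h5 : orderOf a.toMul = 1 := Nat.eq_one_of_dvd_coprimes (Nat.coprime_two_left.2 (odd_U he h)) this h3
      exact congrArg Additive.ofMul ((orderOf_eq_one_iff (x := a.toMul)).1 h5))
    (fun a ha => by
      obtain ⟨k1, k2, k3, -⟩ := mp_step h (αm a) ha.1 ha.2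
      refine ⟨⟨k1, k2⟩, k3, αi (ext_U (αm _) (αm _) h ?_)⟩
      obtain ⟨l1, l2, -, -⟩ := mp_step h (αm (θ a)) k1 k2
      obtain ⟨-, -, -, m4⟩ := mp_step h (αm (θ (θ a))) l1 l2
      rw [αθ, m4, αζ, pow_two]
      have k4 : g = α (θ (θ a)) * (g * α a * g⁻¹) * α (θ a) := k3
      have k5 : α (θ (θ a)) • (g * α a * g⁻¹) • x = y := by
        have k6 := congrArg (· • x) k4
        simp only [gx] at k6
        rw [mul_smul (α (θ (θ a)) * _), D.fx, mul_smul] at k6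
        exact k6.symm
      have gy' : g⁻¹ • y = x := by rw [inv_smul_eq_iff, gx]
      rw [← eq_inv_smul_iff] at k5
      rw [← k5]
      simp only [mul_smul, mul_inv_rev, gy'])
    (b := Additive.ofMul ⟨b, hb⟩) (c := Additive.ofMul ⟨c, hcU⟩) ⟨b1, e⟩ ⟨c1, hg⟩
    (αi (ext_U ap_mem hcU h (((mp_step h hcU c1 hg).2.2.2).trans sp)))
    (fun e => n1 (congrArg α e)) (fun e => n2 (congrArg α e))
  refine ⟨?_, fun b3 => ?_⟩
  · rw [pow_succ, pow_two]; exact congrArg α key.1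
  · exact congrArg α (key.2 (αi (by rw [pow_succ, pow_two] at b3; exact b3)))

end Sp

end Cfsg.Agent.HKS
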