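import Mathlib
import Cfsg.Agent.HKS.Ctx
import Cfsg.Agent.HKS.Mp
import Cfsg.Agent.HKS.LFA
import Cfsg.Agent.HKS.LFB
import Cfsg.Agent.HKS.SF

/-! Piece Bcl: the elements inverted by an involution -/

set_option autoImplicit false

namespace Cfsg.Agent.HKS

open Subgroup MulAction Cfsg.Agent.TT Cfsg.Agent.Perm.TT Cfsg.Agent.Cl.L2
open Cfsg.Agent.KS (St)
open scoped MatrixGroups Pointwise commutatorElement

variable {G Ω : Type*} [Group G] [MulAction G Ω] [Finite G] [Finite Ω] {S : Sp G Ω}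
  {Δ Δ' : Set Ω} {x y : Ω}

namespace Bcl

omit [Finite G] in
theorem sq {r : G} (hr : orderOf r = 2) : r * r = 1 := by
  rw [← pow_two, ← hr, pow_orderOf_eq_one]

omit [Finite G] [Finite Ω] in
theorem flip {t s : G} (hV : V4 x y t s) : V4 y x t s :=
  ⟨hV.ne.symm, hV.t2, hV.s2, hV.comm, hV.ts, hV.ty, hV.tx, hV.sy, hV.sx⟩

theorem odd (h : S.Ctx) {u : G} (hu : u ∈ S.U x) (e : u = u⁻¹) : u = 1 := by
  have h2 : u ^ 2 = 1 := by rw [pow_two]; nth_rewrite 2 [e]; exact mul_inv_cancel u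
  have h1 : orderOf u ∣ Nat.card (S.U x) := (S.U x).orderOf_dvd_natCard hu
  have h3 : orderOf u ∣ 2 := orderOf_dvd_of_pow_eq_one h2
  have h4 : Nat.Coprime 2 (Nat.card (S.U x)) := (Nat.coprime_two_left).2 (h.odd_U x)
  exact orderOf_eq_one_iff.1 (Nat.eq_one_of_dvd_coprimes h4 h3 h1)

theorem lt (h : S.Ctx) (hA : S.AL) {t : G} (ht : orderOf t = 2) (tx : t • x = x) :
    S.LT (fixedBy Ω t) := h.lt (hA t ht ⟨x, tx⟩)

/-- Each involution of the four-group inverts the centralizer of another. -/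
theorem inv (h : S.Ctx) (hA : S.AL) (hK : K1 G Ω) {t s : G} (hV : V4 x y t s) {u : G}
    (hu : u ∈ S.U x) (hc : Commute u t) : s * u * s⁻¹ = u⁻¹ := by
  have L := lt h hA hV.t2 hV.tx
  have k := hK t s hV.t2 hV.s2 hV.comm hV.ts
  have s2 : s * s ∈ W G (fixedBy Ω t) := by rw [sq hV.s2]; exact one_mem _
  rcases L.tri (mem_St_fix hV.comm.symm) s2 (x := x) hV.tx hV.sx with e | e | ⟨r, h1, _, h3⟩
  · have : fixedBy Ω t ∩ fixedBy Ω s = fixedBy Ω t :=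
      Set.inter_eq_left.2 fun c hc => mem_W.1 e c hc
    rw [this] at k
    have := L.four
    omega
  · exact e.2 u ((Sp.mem_UD_fix hV.ne hV.tx hV.ty).2 ⟨hu, hc⟩)
  · omega

theorem lw (h : S.Ctx) (hA : S.AL) (hK : K1 G Ω) {t : G} (ht : orderOf t = 2) (tx : t • x = x)
    {w : G} (hl : w ∈ S.L (fixedBy Ω t)) (hw : w ∈ W G (fixedBy Ω t)) :
    w = 1 ∨ (w = t ∧ t ∈ S.L (fixedBy Ω t)) := by
  have L := lt h hA ht tx
  rcases L.cen with e | ⟨z, hz, hz', z2⟩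
  · exact Or.inl (mem_bot.1 (e ▸ mem_inf.2 ⟨hl, hw⟩))
  · obtain ⟨h1, -, h3⟩ := L.sl_cen hz hz' z2
    have e : z = t := by
      by_contra ne
      have k := hK t z ht z2 (h3 t (W_le_St (self_mem_W t))) (Ne.symm ne)
      have : fixedBy Ω t ∩ fixedBy Ω z = fixedBy Ω t :=
        Set.inter_eq_left.2 fun c hc => mem_W.1 hz' c hc
      rw [this] at k
      have := L.four
      omega
    rcases h1 w hl hw with k | k
    · exact Or.inl k
    · exact Or.inr ⟨k.trans e, e ▸ hz⟩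

theorem exists_cen (h : S.Ctx) (hA : S.AL) {t : G} (ht : orderOf t = 2) (hxy : y ≠ x)
    (tx : t • x = x) (ty : t • y = y) : ∃ c ∈ S.U x, c ≠ 1 ∧ Commute c t := by
  have L := lt h hA ht tx
  have k := (S.cl_fix t).card_UD (x := x) tx L.nontrivial
  have := L.four
  have h1 : 1 < Nat.card (S.UD (fixedBy Ω t) x) := by omega
  haveI := Finite.one_lt_card_iff_nontrivial.1 h1
  obtain ⟨c, hc⟩ := exists_ne (1 : ↥(S.UD (fixedBy Ω t) x))
  have := (Sp.mem_UD_fix hxy tx ty).1 c.2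
  exact ⟨c, this.1, fun e => hc (Subtype.ext e), this.2⟩

theorem de_inj (hxy : y ≠ x) {a b : G} (ha : a ∈ S.U x) (hb : b ∈ S.U x) (a1 : a ≠ 1) (b1 : b ≠ 1)
    (e : S.de x y a = S.de x y b) : a = b :=
  Sp.ext_U ha hb hxy (by rw [← Sp.de_smul hxy ha a1, ← Sp.de_smul hxy hb b1, e])

/-- The elements inverted by `t` are special. -/
theorem special (h : S.Ctx) (hA : S.AL) (hK : K1 G Ω) {t : G} (ht : orderOf t = 2) (hxy : y ≠ x)
    (tx : t • x = x) (ty : t • y = y) (hc : ∀ u ∈ S.U x, ∀ v ∈ S.U x, Commute u v)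
    (h3 : ∀ c ∈ S.U x, c ≠ 1 → Commute c t → c ^ 3 = 1 → ∀ b ∈ S.U x, b ^ 3 = 1)
    {b : G} (hb : b ∈ S.U x) (b1 : b ≠ 1) (tb : t * b * t⁻¹ = b⁻¹) : S.Spec x y b := by
  by_contra ns
  have n3 : 3 ≤ Nat.card Ω := le_trans (by norm_num) h.four
  have L := lt h hA ht tx
  have hbi : b⁻¹ ∈ S.U x := inv_mem hb
  have bi1 : b⁻¹ ≠ 1 := inv_ne_one.2 b1
  set d := (S.de x y b⁻¹)⁻¹ with hd
  have dU : d ∈ S.U y := inv_mem Sp.de_mem
  have d1 : d ≠ 1 := inv_ne_one.2 (Sp.de_ne hxy hbi bi1)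
  have dx : d • x ≠ x := fun e => d1 (S.free y x hxy.symm d dU e)
  set b' := S.al x y (d • x) with hb'
  have b'U : b' ∈ S.U x := Sp.al_mem
  have b'y : b' • y = d • x := Sp.al_smul hxy dx
  have b'1 : b' ≠ 1 := fun e => by
    rw [e, one_smul] at b'y
    exact Sp.smul_ne dU hxy.symm b'y.symm
  have db' : S.de x y b' = d := by
    unfold Sp.de
    rw [b'y]
    exact Sp.al_eq hxy.symm dU
  have bb' : b ≠ b' := fun e => ns (by
    unfold Sp.Spec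
    have k : S.de x y b = d := by rw [← db', ← e]
    rw [k, hd, inv_inv])
  have mu' : S.mu x y b' = S.mu x y b := by
    have e := (Sp.mu_eq hxy hbi bi1).1
    have k := Sp.mu_unique' hxy b'U b'1 (u := S.ap x y (S.mu x y b⁻¹) b⁻¹⁻¹) (u' := b⁻¹)
      Sp.ap_mem hbi (by rw [db', hd, ← e]; exact Sp.mu_x hxy hbi bi1)
      (by rw [db', hd, ← e]; exact Sp.mu_y hxy hbi bi1)
    rw [db', hd, ← e, Sp.mu_inv] at k
    exact (inv_injective k).symm
  have th : S.ap x y (S.mu x y b') b'⁻¹ = b := by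
    have e := (Sp.mu_eq hxy b'U b'1).2
    rw [db', hd, inv_inv, Sp.de_smul hxy hbi bi1] at e
    exact inv_injective (Sp.ext_U (inv_mem Sp.ap_mem) hbi hxy e)
  obtain ⟨c, cU, c1, e1, e2, e3⟩ := Sp.sum hxy hb b'U b1 b'1 bb'
  rw [th, mu'] at e2
  rw [mu'] at e3
  rw [db', hd, inv_inv] at e1
  have nU : b'⁻¹ * b ∈ S.U x := mul_mem (inv_mem b'U) hb
  have n1 : b'⁻¹ * b ≠ 1 := fun e => bb' (inv_mul_eq_one.1 e).symm
  obtain ⟨y1, -, -, e4, -⟩ := Sp.ap_swap hxy (Sp.mu_x hxy hb b1) (Sp.mu_y hxy hb b1) nU n1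
  set y₀ := S.ap x y (S.mu x y b) (b'⁻¹ * b) with hy₀
  have y₀U : y₀ ∈ S.U x := Sp.ap_mem
  have e5 : S.mu x y y₀ = S.mu x y c := by
    rw [e3, ← inv_inv (S.mu x y y₀), ← e4]; group
  have ct : Commute c t := by
    have k : S.de x y (t * c * t⁻¹) = S.de x y c := by
      rw [← Sp.de_conj hxy tx ty cU c1, e1]
      have k1 := Sp.de_conj hxy tx ty hb b1
      have k2 := Sp.de_conj hxy tx ty hbi bi1
      rw [tb] at k1
      rw [show t * b⁻¹ * t⁻¹ = (t * b * t⁻¹)⁻¹ by group, tb, inv_inv] at k2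
      rw [show t * (S.de x y b⁻¹ * S.de x y b) * t⁻¹ =
        t * S.de x y b⁻¹ * t⁻¹ * (t * S.de x y b * t⁻¹) by group, k1, k2]
      exact Sp.comm_U n3 hc y _ Sp.de_mem _ Sp.de_mem
    have k' := de_inj hxy (Sp.conj_fix tx cU) cU (fun e => c1 (by simpa using e)) c1 k
    exact (mul_inv_eq_iff_eq_mul.1 k').symm
  have cD : c ∈ S.UD (fixedBy Ω t) x := (Sp.mem_UD_fix hxy tx ty).2 ⟨cU, ct⟩
  obtain ⟨sc, m2, -⟩ := L.spec (x := x) (y := y) tx ty hxy cD c1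
  have mL := (S.cl_fix t).mu_mem (x := x) (y := y) tx ty hxy cD
  have z := lw h hA hK ht tx (mul_mem mL mL) m2
  have m4 : S.mu x y c ^ 4 = 1 := by
    rw [show S.mu x y c ^ 4 = S.mu x y c * S.mu x y c * (S.mu x y c * S.mu x y c) by
      simp only [pow_succ, pow_zero, one_mul, mul_assoc]]
    rcases z with z | z
    · rw [z, one_mul]
    · rw [z.1, sq ht]
  have ey : y₀ = b * c := by rw [e2]; group
  have tc : t * c * t⁻¹ = c := by rw [← ct.eq]; group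
  obtain ⟨c3, k⟩ := Sp.mprime h.even hxy hc cU y₀U c1 y1 sc m4 e5
    (fun e => b1 (by rw [ey] at e; exact mul_eq_right.1 e))
    (fun e => b1 (odd h hb (by
      rw [ey] at e
      have e' : b = c⁻¹ * c⁻¹ := eq_mul_inv_of_mul_eq e
      rw [← tb]
      nth_rewrite 2 [e']
      rw [show t * (c⁻¹ * c⁻¹) * t⁻¹ = (t * c * t⁻¹)⁻¹ * (t * c * t⁻¹)⁻¹ by group, tc, e'])))
  have k' := k (h3 c cU c1 ct c3 y₀ y₀U)
  rw [pow_two] at k'
  rcases z with z | z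
  · rw [z] at k'
    exact y1 (odd h y₀U (by simpa using k'))
  · rw [z.1, ey, show t * (b * c) * t⁻¹ = t * b * t⁻¹ * (t * c * t⁻¹) by group, tb, tc,
      mul_inv_rev, (hc _ (inv_mem cU) _ hbi).eq] at k'
    exact c1 (odd h cU (mul_left_cancel k'))

/-- The set `{x} ∪ B • y`. -/
def Gam (S : Sp G Ω) (x y : Ω) (t : G) : Set Ω :=
  {c | c = x ∨ ∃ b ∈ S.U x, t * b * t⁻¹ = b⁻¹ ∧ b • y = c}

omit [Finite G] [Finite Ω] in
theorem left_mem {t : G} : x ∈ Gam S x y t := Or.inl rfl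

omit [Finite G] [Finite Ω] in
theorem right_mem {t : G} : y ∈ Gam S x y t := Or.inr ⟨1, one_mem _, by simp, one_smul _ _⟩

omit [Finite G] [Finite Ω] in
theorem inv_mul {t a b : G} (hc : Commute a b) (ha : t * a * t⁻¹ = a⁻¹) (hb : t * b * t⁻¹ = b⁻¹) :
    t * (a * b) * t⁻¹ = (a * b)⁻¹ := by
  rw [show t * (a * b) * t⁻¹ = t * a * t⁻¹ * (t * b * t⁻¹) by group, ha, hb, hc.eq, mul_inv_rev]

omit [Finite G] [Finite Ω] in
theorem inv_inv' {t a : G} (ha : t * a * t⁻¹ = a⁻¹) : t * a⁻¹ * t⁻¹ = a⁻¹⁻¹ := by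
  rw [show t * a⁻¹ * t⁻¹ = (t * a * t⁻¹)⁻¹ by group, ha]

omit [Finite G] in
theorem st_B (hc : ∀ u ∈ S.U x, ∀ v ∈ S.U x, Commute u v) {t b : G} (hb : b ∈ S.U x)
    (tb : t * b * t⁻¹ = b⁻¹) : b ∈ St G (Gam S x y t) := by
  refine KS.mem_St_of ?_
  rintro c (rfl | ⟨a, ha, ta, rfl⟩)
  · exact Or.inl (S.fix _ b hb)
  · exact Or.inr ⟨b * a, mul_mem hb ha, inv_mul (hc b hb a ha) tb ta, mul_smul _ _ _⟩

theorem gam_le {t : G} (hxy : y ≠ x) (tx : t • x = x) (ty : t • y = y)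
    (sp : ∀ b ∈ S.U x, b ≠ 1 → t * b * t⁻¹ = b⁻¹ → S.Spec x y b) : Gam S x y t ⊆ Gam S y x t := by
  rintro c (rfl | ⟨b, hb, tb, rfl⟩)
  · exact right_mem
  · by_cases b1 : b = 1
    · exact Or.inl (by rw [b1, one_smul])
    · refine Or.inr ⟨S.de x y b, Sp.de_mem, ?_, Sp.de_smul hxy hb b1⟩
      rw [Sp.de_conj hxy tx ty hb b1, tb]
      exact sp b hb b1 tb

/-- A swapping element commuting with `t` transports the hypothesis on exponent three. -/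
theorem h3_swap (h : S.Ctx) (hA : S.AL) {t : G} (ht : orderOf t = 2) (hxy : y ≠ x)
    (tx : t • x = x) (ty : t • y = y)
    (h3 : ∀ c ∈ S.U x, c ≠ 1 → Commute c t → c ^ 3 = 1 → ∀ b ∈ S.U x, b ^ 3 = 1) :
    ∀ c ∈ S.U y, c ≠ 1 → Commute c t → c ^ 3 = 1 → ∀ b ∈ S.U y, b ^ 3 = 1 := by
  obtain ⟨a, ha, a1, at'⟩ := exists_cen h hA ht hxy tx ty
  have L := lt h hA ht tx
  have aD : a ∈ S.UD (fixedBy Ω t) x := (Sp.mem_UD_fix hxy tx ty).2 ⟨ha, at'⟩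
  have mL := (S.cl_fix t).mu_mem (x := x) (y := y) tx ty hxy aD
  have mt := Sp.commute_L_W L.nontrivial mL (self_mem_W t)
  have my := Sp.mu_y hxy ha a1
  set μ := S.mu x y a
  intro c hc c1 ct c3 b hb
  have k1 := S.conj μ y c hc
  have k2 := S.conj μ y b hb
  rw [my] at k1 k2
  have k := h3 _ k1 (fun e => c1 (by simpa using e))
    ((mt.mul_left ct).mul_left mt.inv_left) (by rw [conj_pow, c3]; group) _ k2
  rw [conj_pow] at k
  simpa using k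

end Bcl

open Bcl in
theorem Sp.Ctx.bcl (h : S.Ctx) (hA : S.AL) (hK : K1 G Ω) {t s : G} (hV : V4 x y t s)
    (hc : ∀ u ∈ S.U x, ∀ v ∈ S.U x, Commute u v)
    (h3 : ∀ c ∈ S.U x, c ≠ 1 → Commute c t → c ^ 3 = 1 → ∀ b ∈ S.U x, b ^ 3 = 1) :
    t ∈ S.L (fixedBy Ω t) ∧ s ∉ S.L (fixedBy Ω s) := by
  have n3 : 3 ≤ Nat.card Ω := le_trans (by norm_num) h.four
  have hxy := hV.ne
  have hc' := Sp.comm_U n3 hc y
  have sp : ∀ b ∈ S.U x, b ≠ 1 → t * b * t⁻¹ = b⁻¹ → S.Spec x y b := fun b hb b1 tb =>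
    special h hA hK hV.t2 hxy hV.tx hV.ty hc h3 hb b1 tb
  have sp' : ∀ b ∈ S.U y, b ≠ 1 → t * b * t⁻¹ = b⁻¹ → S.Spec y x b := fun b hb b1 tb =>
    special h hA hK hV.t2 hxy.symm hV.ty hV.tx hc' (h3_swap h hA hV.t2 hxy hV.tx hV.ty h3) hb b1 tb
  have eG : Gam S y x t = Gam S x y t :=
    Set.Subset.antisymm (gam_le hxy.symm hV.ty hV.tx sp') (gam_le hxy hV.tx hV.ty sp)
  set Γ := Gam S x y t with hΓ
  have xΓ : x ∈ Γ := left_mem
  have yΓ : y ∈ Γ := right_mem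
  have stB : ∀ b ∈ S.U x, t * b * t⁻¹ = b⁻¹ → b ∈ St G Γ := fun b hb tb => st_B hc hb tb
  have stB' : ∀ b ∈ S.U y, t * b * t⁻¹ = b⁻¹ → b ∈ St G Γ := fun b hb tb => eG ▸ st_B hc' hb tb
  have memB : ∀ u ∈ S.U x, u • y ∈ Γ → t * u * t⁻¹ = u⁻¹ := by
    rintro u hu (e | ⟨b, hb, tb, e⟩)
    · exact absurd e (Sp.smul_ne hu hxy)
    · rw [← Sp.ext_U hb hu hxy e]; exact tb
  obtain ⟨b₀, b₀U, b₀1, b₀s⟩ := exists_cen h hA hV.s2 hxy hV.sx hV.sy
  have tb₀ := inv h hA hK hV.swap b₀U b₀s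
  have trans : ∀ p ∈ Γ, ∃ g ∈ St G Γ, g • x = p := by
    intro p hp
    rw [← eG] at hp
    rcases hp with rfl | ⟨v, hv, tv, rfl⟩
    · have d : t * S.de x p b₀ * t⁻¹ = (S.de x p b₀)⁻¹ := by
        rw [Sp.de_conj hxy hV.tx hV.ty b₀U b₀1, tb₀]; exact sp b₀ b₀U b₀1 tb₀
      refine ⟨b₀⁻¹ * S.de x p b₀, mul_mem (inv_mem (stB _ b₀U tb₀)) (stB' _ Sp.de_mem d), ?_⟩
      rw [mul_smul, Sp.de_smul hxy b₀U b₀1, inv_smul_smul]
    · exact ⟨v, stB' v hv tv, rfl⟩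
  have cl0 : ∀ q ∈ Γ, q ≠ x → ∀ u ∈ S.U x, u • q ∈ Γ → u ∈ St G Γ := by
    rintro q (e | ⟨b, hb, tb, rfl⟩) q1 u hu e'
    · exact absurd e q1
    · rw [← mul_smul] at e'
      have k := stB _ (mul_mem hu hb) (memB _ (mul_mem hu hb) e')
      simpa using mul_mem k (inv_mem (stB b hb tb))
  have cl : S.Cl Γ := by
    intro p hp q hq qp u hu e
    obtain ⟨g, hg, rfl⟩ := trans p hp
    have k := cl0 (g⁻¹ • q) (KS.St.smul_mem (inv_mem hg) hq)
      (fun e' => qp (by rw [← e', smul_inv_smul])) (g⁻¹ * u * g)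
      (Sp.conj_iff.1 (by
        rw [show g * (g⁻¹ * u * g) * g⁻¹ = u by group]; exact hu))
      (by rw [mul_smul, mul_smul, smul_inv_smul]; exact KS.St.smul_mem (inv_mem hg) e)
    have k' := mul_mem (mul_mem hg k) (inv_mem hg)
    rwa [show g * (g⁻¹ * u * g) * g⁻¹ = u by group] at k'
  have UDB : ∀ u ∈ S.UD Γ x, t * u * t⁻¹ = u⁻¹ := fun u hu =>
    memB u hu.1 (KS.St.smul_mem hu.2 yΓ)
  obtain ⟨a, aU, a1, at'⟩ := exists_cen h hA hV.t2 hxy hV.tx hV.ty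
  have ta : t * a * t⁻¹ = a := by rw [← at'.eq]; group
  have ne : Γ ≠ Set.univ := fun e =>
    a1 (odd h aU (ta.symm.trans (memB a aU (e ▸ Set.mem_univ _))))
  have stN : ∀ g : G, Commute g t → g • x = x → g • y = y → g ∈ St G Γ := by
    intro g gt gx gy
    refine KS.mem_St_of ?_
    rintro c (rfl | ⟨b, hb, tb, rfl⟩)
    · exact Or.inl gx
    · refine Or.inr ⟨g * b * g⁻¹, Sp.conj_fix gx hb, ?_, ?_⟩
      · rw [show t * (g * b * g⁻¹) * t⁻¹ = (t * g) * b * (t * g)⁻¹ by group, ← gt.eq,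
          show g * t * b * (g * t)⁻¹ = g * (t * b * t⁻¹) * g⁻¹ by group, tb]
        group
      · rw [mul_smul, mul_smul, inv_smul_eq_iff.2 gy.symm]
  have tΓ := stN t (Commute.refl t) hV.tx hV.ty
  have sΓ := stN s hV.comm.symm hV.sx hV.sy
  have t2 : t * t ∈ W G Γ := by rw [sq hV.t2]; exact one_mem _
  have s2 : s * s ∈ W G Γ := by rw [sq hV.s2]; exact one_mem _
  have fixt : Γ ∩ fixedBy Ω t = {x, y} := by
    apply Set.Subset.antisymm
    · rintro c ⟨rfl | ⟨b, hb, tb, rfl⟩, e⟩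
      · exact Or.inl rfl
      · have k := Basic.comm hb hxy hV.tx hV.ty e
        have k' : t * b * t⁻¹ = b := by rw [← k.eq]; group
        rw [odd h hb (k'.symm.trans tb), one_smul]
        exact Or.inr rfl
    · rintro c (rfl | rfl)
      · exact ⟨xΓ, hV.tx⟩
      · exact ⟨yΓ, hV.ty⟩
  have fix2 : (Γ ∩ fixedBy Ω t).ncard = 2 := by rw [fixt]; exact Set.ncard_pair hxy.symm
  have Ls := Bcl.lt h hA hV.s2 hV.sx
  have Lt := Bcl.lt h hA hV.t2 hV.tx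
  have sub : fixedBy Ω s ⊆ Γ := by
    intro p hp
    by_cases px : p = x
    · exact Or.inl px
    · obtain ⟨u, hu, e⟩ := (S.cl_fix s).exists_UD (x := x) (a := y) hV.sx hV.sy hp hxy px
      have k := (Sp.mem_UD_fix hxy hV.sx hV.sy).1 hu
      exact Or.inr ⟨u, k.1, inv h hA hK hV.swap k.1 k.2, e⟩
  have n4 : 4 ≤ Γ.ncard := Ls.four.trans (Set.ncard_le_ncard sub)
  have tW : t ∉ W G Γ := fun e => by
    have : Γ ∩ fixedBy Ω t = Γ := Set.inter_eq_left.2 fun c hc => mem_W.1 e c hc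
    rw [this] at fix2
    omega
  have LΓ : S.LT Γ := by
    rcases h.ty Γ cl ne n4 with ⟨h8, N, hN⟩ | k | ⟨q, k⟩ | ⟨q, A, k⟩
    · rcases hN.tri tΓ t2 xΓ hV.tx with e | e
      · exact absurd e tW
      · rw [fix2] at e; omega
    · exact ⟨h.even, cl, k⟩
    · obtain ⟨u, hu, v, hv, e⟩ := k.nc x xΓ
      exact absurd (hc u hu.1 v hv.1) e
    · have e1 := k.fix t tΓ t2 tW
      have e2 := k.q8
      omega
  have sW : s ∉ W G Γ := fun e => by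
    have hV' := hV.mul
    obtain ⟨b, hb, b1, bt⟩ := exists_cen h hA hV'.s2 hxy hV'.sx hV'.sy
    have tb := inv h hA hK hV'.swap hb bt
    have k := Basic.comm hb hxy hV.sx hV.sy (mem_W.1 e _ (Or.inr ⟨b, hb, tb, rfl⟩))
    have k1 : Commute b t := by
      have := bt.mul_right k.inv_right
      simpa using this
    have k' : t * b * t⁻¹ = b := by rw [← k1.eq]; group
    exact b1 (odd h hb (k'.symm.trans tb))
  have sL : s ∉ S.L (fixedBy Ω s) := fun e => by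
    refine sW (LΓ.three (cl.L_mono Ls.nontrivial sub e) ?_)
    rw [Set.inter_eq_right.2 sub]
    have := Ls.four
    omega
  refine ⟨?_, sL⟩
  by_contra tL
  have bot : ∀ {r : G}, orderOf r = 2 → r • x = x → r ∉ S.L (fixedBy Ω r) →
      S.L (fixedBy Ω r) ⊓ W G (fixedBy Ω r) = ⊥ := by
    intro r r2 rx rL
    refine eq_bot_iff.2 fun w hw => ?_
    rcases lw h hA hK r2 rx hw.1 hw.2 with e | e
    · exact mem_bot.2 e
    · exact absurd e.2 rL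
  have b₀D : b₀ ∈ S.UD (fixedBy Ω s) x := (Sp.mem_UD_fix hxy hV.sx hV.sy).2 ⟨b₀U, b₀s⟩
  have b₀Γ : b₀ ∈ S.UD Γ x := ⟨b₀U, stB _ b₀U tb₀⟩
  have botΓ : S.L Γ ⊓ W G Γ = ⊥ := (LΓ.spec xΓ yΓ hxy b₀Γ b₀1).2.2.1
    ((Ls.spec (x := x) (y := y) hV.sx hV.sy hxy b₀D b₀1).2.2.2 (bot hV.s2 hV.sx sL))
  have aD : a ∈ S.UD (fixedBy Ω t) x := (Sp.mem_UD_fix hxy hV.tx hV.ty).2 ⟨aU, at'⟩
  obtain ⟨sa, -, m2⟩ := Lt.spec (x := x) (y := y) hV.tx hV.ty hxy aD a1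
  replace m2 := m2.2 (bot hV.t2 hV.tx tL)
  have mL := (S.cl_fix t).mu_mem (x := x) (y := y) hV.tx hV.ty hxy aD
  have mt := Sp.commute_L_W Lt.nontrivial mL (self_mem_W t)
  have mx := Sp.mu_x hxy aU a1
  have my := Sp.mu_y hxy aU a1
  have ms : s * S.mu x y a * s⁻¹ = S.mu x y a := by
    rw [Sp.mu_conj hxy hV.sx hV.sy aU a1, inv h hA hK hV aU at', Sp.mu_inv]
    exact inv_eq_of_mul_eq_one_right m2
  have mΓ : S.mu x y a ∈ St G Γ := by
    refine KS.mem_St_of ?_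
    rintro c (rfl | ⟨b, hb, tb, rfl⟩)
    · rw [mx]; exact yΓ
    · rw [← eG]
      have k := S.conj (S.mu x y a) x b hb
      rw [mx] at k
      refine Or.inr ⟨S.mu x y a * b * (S.mu x y a)⁻¹, k, ?_, ?_⟩
      · set g := S.mu x y a
        rw [show t * (g * b * g⁻¹) * t⁻¹ = (t * g) * b * (t * g)⁻¹ by group, ← mt.eq,
          show g * t * b * (g * t)⁻¹ = g * (t * b * t⁻¹) * g⁻¹ by group, tb]
        group
      · rw [mul_smul, mul_smul, inv_smul_eq_iff.2 my.symm]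
  have an : S.AN Γ x y (S.mu x y a) := by
    refine ⟨xΓ, yΓ, hxy, mΓ, mx, my, by rw [m2]; exact one_mem _, fun b hb b1 e k => ?_⟩
    have tb := UDB b hb
    have mb := (LΓ.spec xΓ yΓ hxy hb b1).2.2.2 botΓ
    have mbt : Commute (S.mu x y b) t := by
      have k1 := Sp.mu_conj hxy hV.tx hV.ty hb.1 b1
      rw [tb, Sp.mu_inv, inv_eq_of_mul_eq_one_right mb] at k1
      exact (mul_inv_eq_iff_eq_mul.1 k1).symm
    refine Sp.an0 h.even hxy hc hV.tx hV.ty (sq hV.t2) (ε := -1) (Or.inr rfl) aU hb.1 a1 b1 sa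
      (sp b hb.1 b1 tb) (by simpa using ta) (by simpa using tb) (mbt.mul_left mt) e ?_
    intro u hu tu
    have uD : u ∈ S.UD Γ x := ⟨hu, stB u hu (by simpa using tu)⟩
    exact (Sp.commute_L_W LΓ.nontrivial (Sp.UD_le_L xΓ uD) k).symm
  rcases LΓ.an_a an sΓ hV.sx hV.sy s2 (by rw [ms, mul_inv_cancel]; exact one_mem _) with e | e
  · exact sW e
  · have k : s * b₀ * s⁻¹ = b₀ := by rw [← b₀s.eq]; group
    exact b₀1 (odd h b₀U (k.symm.trans (e b₀ b₀Γ)))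

end Cfsg.Agent.HKS
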