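import Mathlib
import Cfsg.Agent.HKS.Bcl

/-! Piece D4b: a central subgroup `C_U(t)` -/

set_option autoImplicit false
set_option linter.unusedSectionVars false

namespace Cfsg.Agent.HKS

open Subgroup MulAction Cfsg.Agent.TT Cfsg.Agent.Perm.TT Cfsg.Agent.Cl.L2
open Cfsg.Agent.KS (St)
open scoped MatrixGroups Pointwise commutatorElement

variable {G Ω : Type*} [Group G] [MulAction G Ω] [Finite G] [Finite Ω] {S : Sp G Ω}
  {Δ Δ' : Set Ω} {x y : Ω}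

namespace D4b

variable {t s : G}

theorem sq (ht : orderOf t = 2) : t * t = 1 := by rw [← pow_two, ← ht, pow_orderOf_eq_one]

theorem lt (h : S.Ctx) (hA : S.AL) (hV : V4 x y t s) : S.LT (fixedBy Ω t) :=
  h.lt (hA t hV.t2 ⟨x, hV.tx⟩)

theorem r1 (hK : K1 G Ω) (hl : S.LT (fixedBy Ω t)) (ht : orderOf t = 2) {w : G}
    (hw : w ∈ W G (fixedBy Ω t)) (h2 : w * w = 1) (h1 : Commute w t) : w = 1 ∨ w = t := by
  by_contra hn
  push Not at hn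
  have := hK w t (orderOf_eq_prime (by rw [pow_two, h2]) hn.1) ht h1 hn.2
  rw [(Set.inter_eq_right (s := fixedBy Ω w) (t := fixedBy Ω t)).2 fun c hc => mem_W.1 hw c hc] at this
  have := hl.four
  omega

theorem inv (h : S.Ctx) (hA : S.AL) (hK : K1 G Ω) (hV : V4 x y t s) :
    Inv s (S.UD (fixedBy Ω t) x) := by
  have hl := lt h hA hV
  rcases hl.tri (mem_St_fix hV.comm.symm) (by rw [sq hV.s2]; exact one_mem _) hV.tx hV.sx with
    h1 | h1 | ⟨r, h1, -, h2⟩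
  · rcases r1 hK hl hV.t2 h1 (sq hV.s2) hV.comm.symm with h2 | h2
    · have := hV.s2
      rw [h2, orderOf_one] at this
      omega
    · exact (hV.ts h2.symm).elim
  · exact h1.2
  · have := hK t s hV.t2 hV.s2 hV.comm hV.ts
    omega

theorem gen (h : S.Ctx) (hV : V4 x y t s) {O Y : Subgroup G} (hO : O ≤ S.U x)
    (hn : ∀ g : G, g • x = x → ∀ u ∈ O, g * u * g⁻¹ ∈ O) (h1 : ∀ u ∈ O, Commute u t → u ∈ Y)
    (h2 : ∀ u ∈ O, Commute u s → u ∈ Y) (h3 : ∀ u ∈ O, Commute u (t * s) → u ∈ Y) : O ≤ Y :=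
  gen_four ((h.odd_U x).of_dvd_nat (card_dvd_of_le hO)) (sq hV.t2) (sq hV.s2) hV.comm (hn t hV.tx)
    (hn s hV.sx) h1 h2 h3

/-- The centre of the root group. -/
def Z (S : Sp G Ω) (x : Ω) : Subgroup G := S.U x ⊓ centralizer (S.U x : Set G)

theorem mem_Z {a : G} : a ∈ Z S x ↔ a ∈ S.U x ∧ ∀ u ∈ S.U x, Commute a u :=
  and_congr_right fun _ => forall₂_congr fun _ _ => eq_comm

theorem conj_Z (g : G) (hg : g • x = x) : ∀ u ∈ Z S x, g * u * g⁻¹ ∈ Z S x := fun u hu => by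
  rw [mem_Z] at hu ⊢
  refine ⟨Sp.conj_fix hg hu.1, fun v hv => ?_⟩
  obtain ⟨k, rfl⟩ := Basic.cs g v
  exact Basic.cm.2 (hu.2 k (Sp.conj_iff.1 (hg.symm ▸ hv)))

theorem le_Z (h : S.Ctx) (hA : S.AL) (hV : V4 x y t s) {a : G} (ha : a ∈ Z S x) (h1 : a ≠ 1)
    (hc : Commute a t) : ∀ u ∈ S.U x, Commute u t → u ∈ Z S x := by
  have := (lt h hA hV).irr hV.tx hV.ty hV.ne (Y := Z S x ⊓ S.UD (fixedBy Ω t) x) inf_le_right
    (fun e => h1 (mem_bot.1 (e ▸ ⟨ha, (Sp.mem_UD_fix hV.ne hV.tx hV.ty).2 ⟨ha.1, hc⟩⟩)))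
    fun k hk kx _ u hu => ⟨conj_Z k kx u hu.1, Sp.conj_mem_UD (Sp.L_le_St hk) kx hu.2⟩
  intro u hu hc
  exact (this.ge ((Sp.mem_UD_fix hV.ne hV.tx hV.ty).2 ⟨hu, hc⟩)).1

theorem ab (h : S.Ctx) (hA : S.AL) (hV : V4 x y t s) (h1 : ∀ u ∈ S.U x, Commute u t → u ∈ Z S x)
    (h2 : ∀ u ∈ S.U x, Commute u s → u ∈ Z S x) : S.U x ≤ Z S x := by
  have hV' := hV.mul.swap
  have hm := fun u => Sp.mem_UD_fix (S := S) (u := u) hV'.ne hV'.tx hV'.ty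
  refine gen h hV le_rfl (fun g hg u hu => Sp.conj_fix hg hu) h1 h2 fun u hu hc => ?_
  have : S.U x ≤ centralizer {u} := gen h hV le_rfl (fun g hg u hu => Sp.conj_fix hg hu)
    (fun v hv c => mem_centralizer_singleton_iff.2 ((mem_Z.1 (h1 v hv c)).2 u hu))
    (fun v hv c => mem_centralizer_singleton_iff.2 ((mem_Z.1 (h2 v hv c)).2 u hu))
    fun v hv c => mem_centralizer_singleton_iff.2
      ((lt h hA hV').comm hV'.tx v ((hm v).2 ⟨hv, c⟩) u ((hm u).2 ⟨hu, hc⟩))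
  exact mem_Z.2 ⟨hu, fun v hv => (mem_centralizer_singleton_iff.1 (this hv)).symm⟩

theorem nonab (h : S.Ctx) (hA : S.AL) (hK : K1 G Ω) (hV : V4 x y t s) (hn : ¬ S.U x ≤ Z S x)
    {a : G} (ha : a ∈ Z S x) (h1 : a ≠ 1) (hc : Commute a t) :
    S.Cen x y t s ∧ ∀ a ∈ S.U x, Commute a t → ∀ u ∈ S.U x, Commute a u := by
  have h2 := le_Z h hA hV ha h1 hc
  have key : ∀ s, V4 x y t s → ∀ u ∈ Z S x, Commute u s → u ∈ centralizer {t} := fun s hV u hu c => by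
    by_cases e : u = 1
    · exact e ▸ one_mem _
    · exact (hn (ab h hA hV h2 (le_Z h hA hV.swap hu e c))).elim
  have h3 : Z S x ≤ centralizer {t} := gen h hV inf_le_left conj_Z
    (fun u _ c => mem_centralizer_singleton_iff.2 c) (key s hV) (key _ hV.mul)
  exact ⟨⟨hV, hA, hK, fun k kx _ u hu c =>
    mem_centralizer_singleton_iff.1 (h3 (conj_Z k kx u (h2 u hu c)))⟩,
    fun a ha c => (mem_Z.1 (h2 a ha c)).2⟩

/-- The elements of exponent `n` of an abelian root group. -/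
def Pw (hc : ∀ u ∈ S.U x, ∀ v ∈ S.U x, Commute u v) (n : ℕ) : Subgroup G where
  carrier := {u | u ∈ S.U x ∧ u ^ n = 1}
  one_mem' := ⟨one_mem _, one_pow _⟩
  mul_mem' ha hb := ⟨mul_mem ha.1 hb.1, by rw [(hc _ ha.1 _ hb.1).mul_pow, ha.2, hb.2, one_mul]⟩
  inv_mem' ha := ⟨inv_mem ha.1, by rw [inv_pow, ha.2, inv_one]⟩

/-- The hypothesis of `bcl`. -/
def P3 (S : Sp G Ω) (x : Ω) (t : G) : Prop :=
  ∀ c ∈ S.U x, c ≠ 1 → Commute c t → c ^ 3 = 1 → ∀ b ∈ S.U x, b ^ 3 = 1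

theorem eq_one {u : G} {p q : ℕ} (hp : p.Prime) (hq : q.Prime) (h : p ≠ q) (h1 : u ^ p = 1)
    (h2 : u ^ q = 1) : u = 1 := by
  have := Nat.dvd_gcd (orderOf_dvd_of_pow_eq_one h1) (orderOf_dvd_of_pow_eq_one h2)
  rwa [(Nat.coprime_primes hp hq).2 h, Nat.dvd_one, orderOf_eq_one_iff] at this

theorem pp (h : S.Ctx) (hA : S.AL) (hV : V4 x y t s) :
    ∃ p : ℕ, p.Prime ∧ ∀ u ∈ S.U x, Commute u t → u ^ p = 1 := by
  obtain ⟨p, -, hp, -, -, -, h1⟩ := (lt h hA hV).pp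
  exact ⟨p, hp, fun u hu c => h1 x hV.tx u ((Sp.mem_UD_fix hV.ne hV.tx hV.ty).2 ⟨hu, c⟩)⟩

theorem three (h : S.Ctx) (hA : S.AL) (hV : V4 x y t s) (hn : ¬ P3 S x t) :
    (∀ u ∈ S.U x, Commute u t → u ^ 3 = 1) ∧ ∃ b ∈ S.U x, b ^ 3 ≠ 1 := by
  obtain ⟨p, hp, h1⟩ := pp h hA hV
  unfold P3 at hn
  push Not at hn
  obtain ⟨c, hc, c1, ct, c3, hb⟩ := hn
  obtain rfl : p = 3 := by
    by_contra e
    exact c1 (eq_one hp Nat.prime_three e (h1 c hc ct) c3)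
  exact ⟨h1, hb⟩

theorem abel (h : S.Ctx) (hA : S.AL) (hK : K1 G Ω) (hV : V4 x y t s)
    (hc : ∀ u ∈ S.U x, ∀ v ∈ S.U x, Commute u v) (h1 : ¬ P3 S x s) (h2 : ¬ P3 S x (t * s)) :
    S.Cen x y t s := by
  obtain ⟨p, hp, h0⟩ := pp h hA hV
  obtain ⟨h3, b, hb, b3⟩ := three h hA hV.swap h1
  obtain ⟨h4, -⟩ := three h hA hV.mul.swap h2
  have p3 : p ≠ 3 := by
    rintro rfl
    exact b3 (gen h hV (Y := Pw hc 3) le_rfl (fun g hg u hu => Sp.conj_fix hg hu)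
      (fun u hu c => ⟨hu, h0 u hu c⟩) (fun u hu c => ⟨hu, h3 u hu c⟩)
      (fun u hu c => ⟨hu, h4 u hu c⟩) hb).2
  have hn : ∀ g : G, g • x = x → ∀ u ∈ Pw hc p, g * u * g⁻¹ ∈ Pw hc p := fun g hg u hu =>
    ⟨Sp.conj_fix hg hu.1, by rw [conj_pow, hu.2, mul_one, mul_inv_cancel]⟩
  have h5 : Pw hc p ≤ centralizer {t} := gen h hV (fun u hu => hu.1) hn
    (fun u _ c => mem_centralizer_singleton_iff.2 c)
    (fun u hu c => eq_one hp Nat.prime_three p3 hu.2 (h3 u hu.1 c) ▸ one_mem _)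
    fun u hu c => eq_one hp Nat.prime_three p3 hu.2 (h4 u hu.1 c) ▸ one_mem _
  exact ⟨hV, hA, hK, fun k kx _ u hu c =>
    mem_centralizer_singleton_iff.1 (h5 (hn k kx u ⟨hu, h0 u hu c⟩))⟩

end D4b

theorem Sp.Ctx.exists_cen (h : S.Ctx) (hA : S.AL) (hK : K1 G Ω) {t s : G} (hV : V4 x y t s) :
    ∃ t' s' : G, S.Cen x y t' s' ∧ ∀ a ∈ S.U x, Commute a t' → ∀ u ∈ S.U x, Commute a u := by
  by_cases hn : S.U x ≤ D4b.Z S x
  · have hc : ∀ u ∈ S.U x, ∀ v ∈ S.U x, Commute u v := fun u hu => (D4b.mem_Z.1 (hn hu)).2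
    have key : ∀ t s, V4 x y t s → D4b.P3 S x t → ¬ D4b.P3 S x s := fun t s hV h1 h2 =>
      (h.bcl hA hK hV hc h1).2 (h.bcl hA hK hV.swap hc h2).1
    have e : t * s * t = s := by rw [hV.comm.eq, mul_assoc, D4b.sq hV.t2, mul_one]
    suffices ∃ t' s', S.Cen x y t' s' by
      obtain ⟨t', s', h1⟩ := this
      exact ⟨t', s', h1, fun a ha _ => hc a ha⟩
    by_cases h1 : D4b.P3 S x t
    · exact ⟨t, s, D4b.abel h hA hK hV hc (key _ _ hV h1) (key _ _ hV.mul h1)⟩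
    by_cases h2 : D4b.P3 S x s
    · exact ⟨s, t, D4b.abel h hA hK hV.swap hc h1 (key _ _ hV.swap.mul h2)⟩
    · exact ⟨t * s, t, D4b.abel h hA hK hV.mul.swap hc h1 (e.symm ▸ h2)⟩
  · by_contra hcon
    have key : ∀ t s, V4 x y t s → ∀ u ∈ D4b.Z S x, Commute u t → u ∈ (⊥ : Subgroup G) :=
      fun t s hV u hu c => by
        by_contra e
        exact hcon ⟨t, s, D4b.nonab h hA hK hV hn hu e c⟩
    have h1 := D4b.gen h hV inf_le_left D4b.conj_Z (key _ _ hV) (key _ _ hV.swap) (key _ _ hV.mul.swap)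
    obtain ⟨a, ha, a1, hc⟩ := nil_cen (S.nil x) le_rfl (fun e => hn (e ▸ bot_le))
      fun u hu a ha => mul_mem (mul_mem hu ha) (inv_mem hu)
    exact a1 (h1 (D4b.mem_Z.2 ⟨ha, hc⟩))

namespace Sp.Cen

variable {t s : G}

theorem mul (hc : S.Cen x y t s) : S.Cen x y t (t * s) :=
  ⟨hc.toV4.mul, hc.al, hc.k1, hc.inv⟩

theorem r1 (h : S.Ctx) (hc : S.Cen x y t s) {w : G} (hw : w ∈ W G (fixedBy Ω t)) (h2 : w * w = 1)
    (h1 : Commute w t) : w = 1 ∨ w = t :=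
  D4b.r1 hc.k1 (D4b.lt h hc.al hc.toV4) hc.t2 hw h2 h1

theorem nc (h : S.Ctx) (hc : S.Cen x y t s) :
    ∀ t', IsConj t t' → t' ≠ t → Commute t' t → ∀ c : Ω, t • c = c → t' • c ≠ c := by
  intro t' hj hne hcm c tc tc'
  obtain ⟨g, rfl⟩ := isConj_iff.1 hj
  have o2 : orderOf (g * t * g⁻¹) = 2 := by rw [Basic.ord, hc.t2]
  obtain ⟨d, hV⟩ := h.exists_V4 hc.t2 o2 hcm.symm hne.symm tc tc'
  have hl := D4b.lt h hc.al hc.toV4
  have h4 := hl.four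
  have hm : ∀ e : Ω, (g * t * g⁻¹) • e = e → g⁻¹ • e ∈ fixedBy Ω t := fun e he => by
    rw [mem_fixedBy, eq_inv_smul_iff, ← mul_smul, ← mul_smul, he]
  have hg : g ∈ St G (fixedBy Ω t) := hl.cl.line (by omega) hc.tx hc.ty hc.ne
    (fun k kx ky u hu => by
      rw [mem_UD_fix hc.ne hc.tx hc.ty] at hu ⊢
      exact ⟨conj_fix kx hu.1, hc.inv k kx ky u hu.1 hu.2⟩)
    (hm c hV.sx) (hm d hV.sy) (fun e => hV.ne (MulAction.injective _ e).symm)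
    (by rw [smul_inv_smul]; exact hV.tx) (by rw [smul_inv_smul]; exact hV.ty)
  have := hc.k1 _ _ o2 hc.t2 hcm hne
  rw [fix_conj, smul_eq_of_St hg, Set.inter_self] at this
  omega

theorem psl (h : S.Ctx) (hc : S.Cen x y t s) : S.L (fixedBy Ω s) ⊓ W G (fixedBy Ω s) = ⊥ := by
  have hV := hc.toV4.swap
  have hl := D4b.lt h hc.al hV
  by_contra hn
  obtain ⟨z, hz, hw, z2⟩ := hl.cen.resolve_left hn
  obtain ⟨h1, -, h2⟩ := hl.sl_cen hz hw z2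
  have s1 : s ≠ 1 := fun e => by have := hc.s2; rw [e, orderOf_one] at this; omega
  obtain rfl : z = s := (D4b.r1 hc.k1 hl hc.s2 hw (D4b.sq z2)
    (h2 s (mem_St_fix (Commute.refl s))).symm).resolve_left fun e => by
      rw [e, orderOf_one] at z2; omega
  obtain ⟨b, hb, b1⟩ := (bot_or_exists_ne_one (S.UD (fixedBy Ω z) x)).resolve_left fun e => by
    have h3 := hl.cl.card_UD hV.tx hl.nontrivial
    have h4 := hl.four
    rw [e, card_bot] at h3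
    omega
  obtain ⟨-, h3, h4⟩ := hl.spec hV.tx hV.ty hV.ne hb b1
  have h5 := hl.cl.mu_mem hV.tx hV.ty hV.ne hb
  have h6 := (h1 _ (mul_mem h5 h5) h3).resolve_left fun e => hn (h4.1 e)
  have h7 := mu_conj hV.ne hV.sx hV.sy hb.1 b1
  rw [D4b.inv h hc.al hc.k1 hV b hb, mu_inv] at h7
  refine hc.nc h (t * z) (isConj_iff.2 ⟨(S.mu x y b)⁻¹, ?_⟩) (by simpa using s1)
    ((Commute.refl t).mul_left hc.comm.symm) x hc.tx (by rw [mul_smul, hc.sx, hc.tx])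
  rw [inv_inv, ← h7, ← h6]
  group

theorem psl_self (h : S.Ctx) (hc : S.Cen x y t s) (ht : t ∉ S.L (fixedBy Ω t)) :
    S.L (fixedBy Ω t) ⊓ W G (fixedBy Ω t) = ⊥ := by
  have hl := D4b.lt h hc.al hc.toV4
  by_contra hn
  obtain ⟨z, hz, hw, z2⟩ := hl.cen.resolve_left hn
  rcases hc.r1 h hw (D4b.sq z2) ((hl.sl_cen hz hw z2).2.2 t (mem_St_fix (Commute.refl t))).symm with
    e | e
  · rw [e, orderOf_one] at z2; omega
  · exact ht (e ▸ hz)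

theorem sl3 (h : S.Ctx) (hc : S.Cen x y t s) (ht : t ∈ S.L (fixedBy Ω t))
    (h4 : (fixedBy Ω t).ncard % 4 = 0) : S.SL3 t :=
  have hl := D4b.lt h hc.al hc.toV4
  ⟨hc.t2, hl.ty, h4, ht, fun w hw h2 => hc.r1 h hw h2
    ((hl.sl_cen ht (self_mem_W t) hc.t2).2.2 w (W_le_St hw)), hc.nc h⟩

end Sp.Cen

end Cfsg.Agent.HKS
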