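import Mathlib
import Cfsg.Agent.HKS.LC
import Cfsg.Agent.HKS.LFB
import Cfsg.Agent.Cl.PGammaL2

/-! Piece LFE: the linear type, conjugacy and `q ≡ 1 (mod 4)` -/

set_option autoImplicit false

namespace Cfsg.Agent.HKS

open Subgroup MulAction Cfsg.Agent.TT Cfsg.Agent.Perm.TT Cfsg.Agent.Cl.L2
open Cfsg.Agent.KS (St)
open scoped MatrixGroups Pointwise commutatorElement

namespace LFE

section Mat

variable {F : Type*} [Field F]

theorem tr_zero {A : M2 F} {c : F} (h : A * A = c • (1 : M2 F)) (hn : ¬ ∃ d : F, A = d • (1 : M2 F)) :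
    A 1 1 = -A 0 0 := by
  by_contra h0
  have h1 : A 0 0 + A 1 1 ≠ 0 := fun e => h0 (by linear_combination e)
  have e00 := congrFun (congrFun h 0) 0
  have e01 := congrFun (congrFun h 0) 1
  have e10 := congrFun (congrFun h 1) 0
  have e11 := congrFun (congrFun h 1) 1
  simp [Matrix.mul_apply, Fin.sum_univ_two] at e00 e01 e10 e11
  refine hn (scalar_iff.2 ⟨mul_right_cancel₀ h1 ?_, mul_right_cancel₀ h1 ?_, mul_right_cancel₀ h1 ?_⟩)
  · linear_combination e01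
  · linear_combination e10
  · linear_combination e00 - e11

theorem det_eq {A : M2 F} (ht : A 1 1 = -A 0 0) : A.det = -(A 0 0 ^ 2 + A 0 1 * A 1 0) := by
  rw [Matrix.det_fin_two, ht]; ring

theorem fix_of_sq {A : M2 F} (ht : A 1 1 = -A 0 0) (hd : A.det ≠ 0) (h : IsSquare (-A.det)) :
    ∃ p : P1 F, pm A • p = p := by
  obtain ⟨s, hs⟩ := h
  rw [det_eq ht, neg_neg] at hs
  by_cases hc : A 1 0 = 0
  · exact ⟨inf, (pm_smul_inf_eq_inf hd).2 hc⟩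
  · refine ⟨pt ((A 0 0 + s) / A 1 0), (pm_smul_pt_eq_pt hd).2 ?_⟩
    rw [ht]
    field_simp
    linear_combination hs

theorem sq_of_fix {A : M2 F} (ht : A 1 1 = -A 0 0) (hd : A.det ≠ 0) {p : P1 F} (h : pm A • p = p) :
    IsSquare (-A.det) := by
  rw [det_eq ht, neg_neg]
  rcases eq_inf_or_pt p with rfl | ⟨x, rfl⟩
  · exact ⟨A 0 0, by rw [(pm_smul_inf_eq_inf hd).1 h]; ring⟩
  · have := (pm_smul_pt_eq_pt hd).1 h
    rw [ht] at this
    exact ⟨A 1 0 * x - A 0 0, by linear_combination A 1 0 * this⟩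

theorem sq_neg_one {M : SL(2, F)} (ht : M.1 1 1 = -M.1 0 0) : M * M = -1 := by
  have hd := det_eq ht
  rw [M.2] at hd
  refine Subtype.ext (Matrix.ext fun i j => ?_)
  fin_cases i <;> fin_cases j <;> simp [Matrix.mul_apply, Fin.sum_univ_two, ht]
  · linear_combination hd
  · ring
  · ring
  · linear_combination hd

theorem ptMap_one (p : P1 F) : ptMap (1 : RingAut F).toRingHom p = p := by
  rcases eq_inf_or_pt p with rfl | ⟨x, rfl⟩
  · exact ptMap_inf _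
  · exact ptMap_pt _ _

theorem ptMap_mul (σ τ : RingAut F) (p : P1 F) :
    ptMap (σ * τ).toRingHom p = ptMap σ.toRingHom (ptMap τ.toRingHom p) := by
  rcases eq_inf_or_pt p with rfl | ⟨x, rfl⟩
  · simp only [ptMap_inf]
  · simp only [ptMap_pt]; rfl

theorem semi_unique {k k' : PGL(2, F)} {σ τ : RingAut F}
    (h : ∀ p, k • ptMap σ.toRingHom p = k' • ptMap τ.toRingHom p) : k = k' ∧ σ = τ := by
  have e : k = k' := eq_of_smul_three std_ne.1 std_ne.2.1 std_ne.2.2 (by simpa only [ptMap_inf] using h inf)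
    (by simpa only [ptMap_pt, map_zero] using h (pt 0)) (by simpa only [ptMap_pt, map_one] using h (pt 1))
  subst e
  refine ⟨rfl, RingEquiv.ext fun a => ?_⟩
  have := h (pt a)
  rwa [ptMap_pt, ptMap_pt, smul_left_cancel_iff, pt_inj] at this

variable [Finite F]

theorem exists_sq_add (h2 : (2 : F) ≠ 0) {a : F} (ha : a ≠ 0) (z : F) : ∃ s t : F, s ^ 2 + a * t ^ 2 = z := by
  have := Fintype.ofFinite F
  have hr : ringChar F ≠ 2 := fun e => h2 (by exact_mod_cast (ringChar.spec F 2).2 (e ▸ dvd_rfl))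
  obtain ⟨s, t, h⟩ := FiniteField.exists_root_sum_quadratic (f := Polynomial.X ^ 2 - Polynomial.C z)
    (g := Polynomial.C a * Polynomial.X ^ 2) (Polynomial.degree_X_pow_sub_C two_pos z)
    (Polynomial.degree_C_mul_X_pow 2 ha) (FiniteField.odd_card_of_char_ne_two hr)
  exact ⟨s, t, by simp at h; linear_combination h⟩

theorem exists_comp (h2 : (2 : F) ≠ 0) {A : M2 F} (ht : A 1 1 = -A 0 0) (hd : A.det ≠ 0) :
    ∃ P : SL(2, F), A * P.1 = P.1 * !![0, -A.det; 1, 0] := by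
  have hδ := det_eq ht
  obtain ⟨u, v, he⟩ : ∃ u v : F, A 1 0 * u ^ 2 - 2 * A 0 0 * u * v - A 0 1 * v ^ 2 ≠ 0 := by
    by_contra! h
    have h1 := h 1 0
    have h3 := h 0 1
    have h4 := h 1 1
    have h5 : A 0 0 = 0 := mul_left_cancel₀ h2 (by linear_combination h1 + h3 - h4)
    exact hd (by rw [hδ, h5]; linear_combination -A 0 1 * h1)
  obtain ⟨s, t, h⟩ := exists_sq_add h2 hd (A 1 0 * u ^ 2 - 2 * A 0 0 * u * v - A 0 1 * v ^ 2)⁻¹
  have h1 := mul_inv_cancel₀ he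
  rw [← h, hδ] at h1
  obtain ⟨x, y, hxy⟩ : ∃ x y : F, A 1 0 * x ^ 2 - 2 * A 0 0 * x * y - A 0 1 * y ^ 2 = 1 :=
    ⟨s * u + t * (A 0 0 * u + A 0 1 * v), s * v + t * (A 1 0 * u - A 0 0 * v), by linear_combination h1⟩
  refine ⟨⟨!![x, A 0 0 * x + A 0 1 * y; y, A 1 0 * x - A 0 0 * y], by
    rw [Matrix.det_fin_two_of]; linear_combination hxy⟩, Matrix.ext fun i j => ?_⟩
  fin_cases i <;> fin_cases j <;> simp [Matrix.mul_apply, Fin.sum_univ_two, ht, hδ] <;> ring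

theorem exists_conj (h2 : (2 : F) ≠ 0) {A B : M2 F} (tA : A 1 1 = -A 0 0) (tB : B 1 1 = -B 0 0)
    (hd : A.det ≠ 0) (e : B.det = A.det) : ∃ K : SL(2, F), K.1 * A = B * K.1 := by
  obtain ⟨P, hP⟩ := exists_comp h2 tA hd
  obtain ⟨Q, hQ⟩ := exists_comp h2 tB (e ▸ hd)
  have h1 : P.1 * (P⁻¹).1 = 1 := congrArg Subtype.val (mul_inv_cancel P)
  have h3 : (P⁻¹).1 * P.1 = 1 := congrArg Subtype.val (inv_mul_cancel P)
  refine ⟨Q * P⁻¹, ?_⟩
  change Q.1 * (P⁻¹).1 * A = B * (Q.1 * (P⁻¹).1)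
  calc Q.1 * (P⁻¹).1 * A = Q.1 * (P⁻¹).1 * (A * P.1) * (P⁻¹).1 := by
        simp only [mul_assoc, h1, mul_one]
    _ = Q.1 * ((P⁻¹).1 * P.1) * !![0, -A.det; 1, 0] * (P⁻¹).1 := by rw [hP]; simp only [mul_assoc]
    _ = _ := by rw [h3, mul_one, ← e, ← hQ, mul_assoc]

theorem exists_anti (h2 : (2 : F) ≠ 0) {A : M2 F} (tA : A 1 1 = -A 0 0) (hd : A.det ≠ 0) :
    ∃ M : SL(2, F), M * M = -1 ∧ (M * -1).1 * A = A * M.1 := by
  obtain ⟨K, hK⟩ := exists_conj h2 (B := -A) tA (by simp [tA]) hd (by simp [Matrix.det_neg])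
  refine ⟨K, sq_neg_one ?_, by simp [hK]⟩
  have e00 := congrFun (congrFun hK 0) 0
  have e01 := congrFun (congrFun hK 0) 1
  have e11 := congrFun (congrFun hK 1) 1
  simp only [Matrix.mul_apply, Fin.sum_univ_two, Matrix.neg_apply, tA] at e00 e01 e11
  refine mul_left_cancel₀ (mul_ne_zero h2 hd) ?_
  rw [det_eq tA]
  linear_combination -A 0 0 * (e00 - e11) - 2 * A 1 0 * e01

theorem three_fix {k : PGL(2, F)} {σ : RingAut F} (hσ : σ ≠ 1)
    (h : ∀ p, k • ptMap σ.toRingHom (k • ptMap σ.toRingHom p) = p) :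
    ∃ p q r : P1 F, p ≠ q ∧ p ≠ r ∧ q ≠ r ∧ k • ptMap σ.toRingHom p = p ∧ k • ptMap σ.toRingHom q = q ∧
      k • ptMap σ.toRingHom r = r := by
  obtain ⟨h1, h2⟩ := semi_unique (k := k * fAut F σ k) (k' := 1) (σ := σ * σ) (τ := 1) fun p => by
    have := h p
    rw [ptMap_smul] at this
    rw [ptMap_one, one_smul, ptMap_mul, mul_smul]
    exact this
  have ho : orderOf σ = 2 := orderOf_eq_prime (by rw [sq, h2]) hσ
  obtain ⟨m, hm⟩ := exists_lang (γ := ⟨k, σ⟩) (by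
    rw [ho, sq]; exact SemidirectProduct.ext h1 h2)
  have key : ∀ p, ptMap σ.toRingHom p = p → k • ptMap σ.toRingHom (m • p) = m • p := fun p hp => by
    rw [ptMap_smul, hp, ← mul_smul]
    exact congrArg (· • p) hm
  exact ⟨m • inf, m • pt 0, m • pt 1, (smul_left_cancel_iff m).ne.2 std_ne.1,
    (smul_left_cancel_iff m).ne.2 std_ne.2.1, (smul_left_cancel_iff m).ne.2 std_ne.2.2,
    key _ (ptMap_inf _), key _ (by rw [ptMap_pt, map_zero]), key _ (by rw [ptMap_pt, map_one])⟩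

end Mat

variable {G Ω : Type*} [Group G] [MulAction G Ω] {S : Sp G Ω} {Δ : Set Ω}
  {F : Type} [Field F] {E : P1 F → Ω} {π : SL(2, F) →* G} {g k : G} {A B : M2 F} {σ τ : RingAut F}

/-- `g` acts on the line as the semilinear map `(A, σ)`. -/
def Act (E : P1 F → Ω) (g : G) (A : M2 F) (σ : RingAut F) : Prop :=
  A.det ≠ 0 ∧ ∀ p, g • E p = E (pm A • ptMap σ.toRingHom p)

theorem Act.mul (h : Act E g A σ) (h' : Act E k B τ) : Act E (g * k) (A * B.map σ) (σ * τ) := by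
  have hB : (B.map σ).det ≠ 0 := det_map_ne_zero σ.toRingHom h'.1
  refine ⟨by rw [Matrix.det_mul]; exact mul_ne_zero h.1 hB, fun p => ?_⟩
  rw [mul_smul, h'.2, h.2, ptMap_smul, map_pm _ h'.1, pm_mul h.1 hB, mul_smul, ptMap_mul]
  rfl

theorem Act.mul_one (h : Act E g A 1) (h' : Act E k B 1) : Act E (g * k) (A * B) 1 := by
  have := h.mul h'
  rwa [_root_.mul_one, show B.map (1 : RingAut F) = B from Matrix.ext fun _ _ => rfl] at this

theorem Act.unique (c : S.LC Δ E π) (h : Act E g A σ) (h' : Act E g B τ) :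
    σ = τ ∧ ∃ t : F, t ≠ 0 ∧ B = t • A := by
  obtain ⟨h1, h2⟩ := semi_unique fun p => c.inj ((h.2 p).symm.trans (h'.2 p))
  exact ⟨h2, (pm_eq_iff h.1 h'.1).1 h1⟩

theorem act_pi (c : S.LC Δ E π) (M : SL(2, F)) : Act E (π M) M.1 1 :=
  ⟨by rw [M.2]; exact one_ne_zero, fun p => by rw [c.act, ptMap_one]⟩

theorem exists_act (c : S.LC Δ E π) (hg : g ∈ St G Δ) : ∃ A σ, Act E g A σ :=
  (c.semi g hg).elim fun A ⟨h1, σ, h2⟩ => ⟨A, σ, h1, h2⟩

theorem mem_Δ (c : S.LC Δ E π) (p : P1 F) : E p ∈ Δ := c.range ▸ Set.mem_range_self p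

theorem pi_mem (c : S.LC Δ E π) (M : SL(2, F)) : π M ∈ S.L Δ := c.rng ▸ ⟨M, rfl⟩

theorem exists_pi (c : S.LC Δ E π) (hg : g ∈ S.L Δ) : ∃ M, π M = g := by rwa [← c.rng] at hg

variable [Finite G] [Finite Ω]

theorem act_W (c : S.LC Δ E π) (hg : g ∈ W G Δ) : Act E g 1 1 :=
  ⟨by simp, fun p => by rw [pm_one, one_smul, ptMap_one, mem_W.1 hg _ (mem_Δ c p)]⟩

theorem Act.same (c : S.LC Δ E π) (h : Act E g A σ) (h' : Act E k B σ) {t : F} (ht : t ≠ 0) (e : A = t • B)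
    (hk : k ∈ St G Δ) : g * k⁻¹ ∈ W G Δ := by
  refine mem_W.2 fun x hx => ?_
  obtain ⟨p, hp⟩ : k⁻¹ • x ∈ Set.range E := c.range ▸ KS.St.smul_mem (inv_mem hk) hx
  rw [mul_smul, ← hp, h.2, e, pm_smul ht, ← h'.2, hp, smul_inv_smul]

theorem Act.mem_LW (c : S.LC Δ E π) (h : Act E g A σ) : g ∈ S.L Δ ⊔ W G Δ ↔ σ = 1 ∧ IsSquare A.det := by
  constructor
  · intro hg
    obtain ⟨l, hl, w, hw, rfl⟩ := (Sp.mem_sup_LW
      ⟨_, mem_Δ c inf, _, mem_Δ c (pt 0), c.inj.ne (inf_ne_pt 0)⟩).1 hg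
    obtain ⟨M, rfl⟩ := exists_pi c hl
    obtain ⟨h1, t, -, h2⟩ := ((act_pi c M).mul_one (act_W c hw)).unique c h
    exact ⟨h1.symm, t, by rw [h2, det_smul_two, _root_.mul_one, M.2]; ring⟩
  · rintro ⟨rfl, s, hs⟩
    have h0 : s ≠ 0 := fun e => h.1 (by rw [hs, e, mul_zero])
    let M : SL(2, F) := ⟨s⁻¹ • A, by rw [det_smul_two, hs]; field_simp⟩
    have := h.same c (act_pi c M) h0 (by rw [smul_smul, mul_inv_cancel₀ h0, one_smul])
      (Sp.L_le_St (pi_mem c M))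
    rw [← inv_mul_cancel_right g (π M)]
    exact mul_mem (mem_sup_right this) (mem_sup_left (pi_mem c M))

theorem Act.lin [Finite F] (c : S.LC Δ E π) (h : Act E g A σ) (g2 : g * g ∈ W G Δ) (g1 : g ∉ W G Δ)
    (f : (Δ ∩ fixedBy Ω g).ncard ≤ 2) : σ = 1 ∧ A 1 1 = -A 0 0 := by
  have hσ : σ = 1 := by
    by_contra hσ
    obtain ⟨p, q, r, h1, h2, h3, h4, h5, h6⟩ := three_fix hσ (k := pm A) fun p => c.inj (by
      rw [← h.2, ← h.2, ← mul_smul, mem_W.1 g2 _ (mem_Δ c p)])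
    refine absurd f (not_le.2 ((Set.two_lt_ncard (Set.toFinite _)).2 ⟨E p, ⟨mem_Δ c p, ?_⟩, E q, ⟨mem_Δ c q, ?_⟩,
      E r, ⟨mem_Δ c r, ?_⟩, c.inj.ne h1, c.inj.ne h2, c.inj.ne h3⟩))
    · rw [mem_fixedBy, h.2, h4]
    · rw [mem_fixedBy, h.2, h5]
    · rw [mem_fixedBy, h.2, h6]
  subst hσ
  obtain ⟨-, t, -, h1⟩ := (act_W c g2).unique c (h.mul_one h)
  refine ⟨rfl, tr_zero h1 fun ⟨d, hd⟩ => g1 ?_⟩
  have h0 : d ≠ 0 := fun e => h.1 (by rw [hd, e, zero_smul, Matrix.det_zero])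
  simpa using h.same c (act_W c (one_mem _)) h0 hd (one_mem _)

theorem Act.fpf [Finite F] (c : S.LC Δ E π) (h : Act E g A σ) (g2 : g * g ∈ W G Δ) (hf : ∀ x ∈ Δ, g • x ≠ x) :
    σ = 1 ∧ A 1 1 = -A 0 0 := by
  refine h.lin c g2 (fun e => hf _ (mem_Δ c inf) (mem_W.1 e _ (mem_Δ c inf))) ?_
  rw [show Δ ∩ fixedBy Ω g = ∅ from Set.eq_empty_of_forall_notMem fun x hx => hf x hx.1 hx.2]
  simp

theorem coord (h : S.LT Δ) : ∃ (F : Type) (_ : Field F) (_ : Fintype F) (E : P1 F → Ω) (π : SL(2, F) →* G),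
    S.LC Δ E π ∧ Δ.ncard = Fintype.card F + 1 := by
  obtain ⟨F, _, _, E, h1, h2, -⟩ := h.ty
  obtain ⟨F', _, _, E', π, c, -, -, hc⟩ := h.exists_lc (x := E inf) (y := E (pt 0)) (h2 ▸ Set.mem_range_self _)
    (h2 ▸ Set.mem_range_self _) (h1.ne (pt_ne_inf 0))
  exact ⟨F', _, _, E', π, c, hc⟩

theorem eq_pi_neg (c : S.LC Δ E π) {M : SL(2, F)} (hw : π M ∈ W G Δ) (h2 : orderOf (π M) = 2) : M = -1 :=
  (c.mem_W.1 hw).resolve_left fun e => by simp [e] at h2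

omit [Finite G] [Finite Ω] in
theorem sq_neg [Fintype F] {n : ℕ} (hc : n = Fintype.card F + 1) (h4 : n % 4 = 2) : IsSquare (-1 : F) :=
  FiniteField.isSquare_neg_one_iff.2 (by omega)

omit [Finite G] [Finite Ω] in
theorem tr_of_sq (h2 : (2 : F) ≠ 0) {M : SL(2, F)} (h : M * M = -1) : M.1 1 1 = -M.1 0 0 := by
  have h1 : M.1 * M.1 = (-1 : F) • (1 : M2 F) := by simpa using congrArg Subtype.val h
  refine tr_zero h1 fun ⟨d, hd⟩ => h2 ?_
  have h3 := M.2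
  rw [hd] at h1
  rw [hd, det_smul_two, Matrix.det_one] at h3
  have h4 := congrFun (congrFun h1 0) 0
  simp at h4
  linear_combination h4 - h3

end LFE

variable {G Ω : Type*} [Group G] [MulAction G Ω] [Finite G] [Finite Ω] {S : Sp G Ω}
  {Δ Δ' : Set Ω} {x y : Ω}

namespace Sp.LT

open LFE

theorem b5 (h : S.LT Δ) {z l l' : G} (hz : z ∈ S.L Δ) (hw : z ∈ W G Δ) (h2 : orderOf z = 2)
    (hl : l ∈ S.L Δ) (hl' : l' ∈ S.L Δ) (e : l * l = z) (e' : l' * l' = z) :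
    ∃ k ∈ S.L Δ, k * l * k⁻¹ = l' := by
  obtain ⟨F, _, _, E, π, c, -⟩ := coord h
  obtain ⟨M, rfl⟩ := exists_pi c hl
  obtain ⟨M', rfl⟩ := exists_pi c hl'
  rw [← map_mul] at e e'
  obtain ⟨K, hK⟩ := exists_conj c.two (tr_of_sq c.two (eq_pi_neg c (e ▸ hw) (e ▸ h2)))
    (tr_of_sq c.two (eq_pi_neg c (e' ▸ hw) (e' ▸ h2))) (by rw [M.2]; exact one_ne_zero) (by rw [M.2, M'.2])
  refine ⟨π K, pi_mem c K, ?_⟩
  rw [mul_inv_eq_iff_eq_mul, ← map_mul, ← map_mul]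
  exact congrArg π (Subtype.ext hK)

theorem d2 (h : S.LT Δ) {g g' : G} (hg : g ∈ St G Δ) (hg' : g' ∈ St G Δ) (g2 : g * g ∈ W G Δ)
    (g2' : g' * g' ∈ W G Δ) (g1 : g ∉ W G Δ) (g1' : g' ∉ W G Δ)
    (f : (Δ ∩ fixedBy Ω g).ncard ≤ 2) (f' : (Δ ∩ fixedBy Ω g').ncard ≤ 2)
    (e : g * g' ∈ S.L Δ ⊔ W G Δ) : ∃ k ∈ S.L Δ, k * g * k⁻¹ * g'⁻¹ ∈ W G Δ := by
  obtain ⟨F, _, _, E, π, c, -⟩ := coord h
  obtain ⟨A, σ, a⟩ := exists_act c hg
  obtain ⟨B, τ, b⟩ := exists_act c hg'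
  obtain ⟨rfl, tA⟩ := a.lin c g2 g1 f
  obtain ⟨rfl, tB⟩ := b.lin c g2' g1' f'
  obtain ⟨-, s, hs⟩ := ((a.mul_one b).mem_LW c).1 e
  rw [Matrix.det_mul] at hs
  have h0 : s ≠ 0 := fun e => mul_ne_zero a.1 b.1 (by rw [hs, e, mul_zero])
  have hb := b.1
  obtain ⟨K, hK⟩ := exists_conj c.two (B := (s / B.det) • B) tA (by simp [tB]) a.1 (by
    rw [det_smul_two]; field_simp; linear_combination -hs)
  refine ⟨π K, pi_mem c K, ?_⟩
  have := ((act_pi c K).mul_one a).same c (b.mul_one (act_pi c K)) (div_ne_zero h0 hb)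
    (by rw [hK, smul_mul_assoc]) (mul_mem hg' (L_le_St (pi_mem c K)))
  simpa only [mul_inv_rev, mul_assoc] using this

theorem chi (h : S.LT Δ) (h4 : Δ.ncard % 4 = 2) :
    ∃ (χ : St G Δ →* ℤˣ) (C : Type) (_ : CommGroup C) (ψ : St G Δ →* C), IsCyclic C ∧
      (∀ g : St G Δ, (g : G) ∈ S.L Δ ⊔ W G Δ ↔ ψ g = 1 ∧ χ g = 1) ∧
      ∀ g : St G Δ, (g : G) * g ∈ W G Δ → (∀ c ∈ Δ, (g : G) • c ≠ c) → χ g = -1 ∧ ψ g = 1 := by
  classical
  obtain ⟨F, _, _, E, π, c, hc⟩ := coord h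
  choose A σ a using fun g : St G Δ => exists_act c g.2
  have hcyc : IsCyclic (RingAut F) := Cl.Aut.isCyclic_ringAut
  have hm : ∀ g k : St G Δ, σ (g * k) = σ g * σ k ∧
      (IsSquare (A (g * k)).det ↔ (IsSquare (A g).det ↔ IsSquare (A k).det)) := fun g k => by
    obtain ⟨h1, t, ht, h2⟩ := ((a g).mul (a k)).unique c (a (g * k))
    refine ⟨h1.symm, ?_⟩
    have e1 : (A (g * k)).det = t ^ 2 * ((A g).det * σ g (A k).det) := by
      rw [h2, det_smul_two, Matrix.det_mul]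
      exact congrArg (fun u => t ^ 2 * ((A g).det * u)) (det_map_two (σ g).toRingHom (A k))
    have e2 : IsSquare (σ g (A k).det) ↔ IsSquare (A k).det :=
      ⟨fun h => by simpa using h.map (σ g).symm, fun h => h.map (σ g)⟩
    have h3 : σ g (A k).det ≠ 0 := by simpa using (a k).1
    rw [← e2, ← quadraticChar_one_iff_isSquare (a _).1, ← quadraticChar_one_iff_isSquare (a _).1,
      ← quadraticChar_one_iff_isSquare h3, e1, map_mul, map_mul, quadraticChar_sq_one' ht, one_mul]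
    rcases quadraticChar_dichotomy (a g).1 with e | e <;> rcases quadraticChar_dichotomy h3 with e' | e' <;>
      simp [e, e']
  refine ⟨MonoidHom.mk' (fun g => if IsSquare (A g).det then 1 else -1) fun g k => ?_, RingAut F,
    IsCyclic.commGroup, MonoidHom.mk' σ fun g k => (hm g k).1, hcyc, fun g => ?_, fun g g2 hf => ?_⟩
  · by_cases h1 : IsSquare (A g).det <;> by_cases h2 : IsSquare (A k).det <;> simp [(hm g k).2, h1, h2]
  · rw [(a g).mem_LW c]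
    by_cases h1 : IsSquare (A g).det <;> simp [h1]
  · obtain ⟨h1, h2⟩ := (a g).fpf c g2 hf
    refine ⟨if_neg fun h3 => ?_, h1⟩
    obtain ⟨p, hp⟩ := fix_of_sq h2 (a g).1 (by simpa using (sq_neg hc h4).mul h3)
    exact hf _ (mem_Δ c p) (by rw [(a g).2, h1, ptMap_one, hp])

theorem c2 (h : S.LT Δ) (h4 : Δ.ncard % 4 = 2) {g : G} (hg : g ∈ St G Δ) (g2 : g * g ∈ W G Δ)
    (f : (Δ ∩ fixedBy Ω g).ncard = 2) : g ∈ S.L Δ ⊔ W G Δ := by
  by_cases g1 : g ∈ W G Δ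
  · exact mem_sup_right g1
  obtain ⟨F, _, _, E, π, c, hc⟩ := coord h
  obtain ⟨A, σ, a⟩ := exists_act c hg
  obtain ⟨rfl, tA⟩ := a.lin c g2 g1 f.le
  obtain ⟨u, hu, hu'⟩ := Set.nonempty_of_ncard_ne_zero (by rw [f]; exact two_ne_zero)
  obtain ⟨p, rfl⟩ : u ∈ Set.range E := c.range ▸ hu
  rw [mem_fixedBy, a.2, ptMap_one] at hu'
  exact (a.mem_LW c).2 ⟨rfl, by simpa using (sq_neg hc h4).mul (sq_of_fix tA a.1 (c.inj hu'))⟩

theorem c4 (h : S.LT Δ) {z g : G} (hz : z ∈ S.L Δ) (hw : z ∈ W G Δ) (h2 : orderOf z = 2)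
    (hg : g ∈ St G Δ) (g2 : g * g ∈ W G Δ) (hf : ∀ c ∈ Δ, g • c ≠ c) :
    ∃ v ∈ S.L Δ, v * v = z ∧ g * v * g⁻¹ = v * z := by
  obtain ⟨F, _, _, E, π, c, -⟩ := coord h
  obtain ⟨A, σ, a⟩ := exists_act c hg
  obtain ⟨rfl, tA⟩ := a.fpf c g2 hf
  obtain ⟨N, rfl⟩ := exists_pi c hz
  obtain rfl := eq_pi_neg c hw h2
  obtain ⟨M, h1, h3⟩ := exists_anti c.two tA a.1
  exact ⟨π M, pi_mem c M, by rw [← map_mul, h1], by rw [← map_mul]; exact c.cj g hg A a.1 _ a.2 _ _ h3⟩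

theorem d1 (h : S.LT Δ) (h4 : Δ.ncard % 4 = 2) (hx : x ∈ Δ) (hy : y ∈ Δ) (hxy : y ≠ x) :
    ∃ l ∈ S.L Δ, l • x = x ∧ l • y = y ∧ l * l ∈ W G Δ ∧ Inv l (S.UD Δ x) := by
  obtain ⟨F, _, _, E, π, c, rfl, rfl, hc⟩ := h.exists_lc hx hy hxy
  obtain ⟨i, hi⟩ := sq_neg hc h4
  let M : SL(2, F) := ⟨!![i, 0; 0, -i], by rw [Matrix.det_fin_two_of]; linear_combination hi⟩
  have hd : M.1.det ≠ 0 := by rw [M.2]; exact one_ne_zero
  refine ⟨π M, pi_mem c M, ?_, ?_, ?_, fun u hu => ?_⟩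
  · rw [c.act, (pm_smul_inf_eq_inf hd).2 rfl]
  · rw [c.act, (pm_smul_pt_eq_pt hd (b := 0)).2 (by simp [M])]
  · rw [← map_mul, sq_neg_one (M := M) rfl]
    exact c.mem_W.2 (Or.inr rfl)
  · obtain ⟨a, rfl⟩ := c.ud u hu
    rw [mul_inv_eq_iff_eq_mul, eq_inv_mul_iff_mul_eq, ← map_mul, ← map_mul]
    refine congrArg π (Subtype.ext ?_)
    change !![1, a; 0, 1] * (!![i, 0; 0, -i] * !![1, a; 0, 1]) = !![i, 0; 0, -i]
    simp [mul_comm]

end Sp.LT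

end Cfsg.Agent.HKS
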