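import Mathlib
import Cfsg.Agent.HKS.D4b
import Cfsg.Agent.HKS.LFC
import Cfsg.Agent.HKS.LFE

/-! Piece PSL13: the central involution is not of type `PSL₂` -/

set_option autoImplicit false

namespace Cfsg.Agent.HKS

open Subgroup MulAction Cfsg.Agent.TT Cfsg.Agent.Perm.TT Cfsg.Agent.Cl.L2
open Cfsg.Agent.KS (St)
open scoped MatrixGroups Pointwise commutatorElement

variable {G Ω : Type*} [Group G] [MulAction G Ω] [Finite G] [Finite Ω] {S : Sp G Ω}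
  {Δ Δ' : Set Ω} {x y : Ω}

namespace PSL13

theorem sq_one (h : S.Ctx) {u : G} (hu : u ∈ S.U x) (e : u * u = 1) : u = 1 := by
  by_contra h1
  have h2 : orderOf u ∣ Nat.card (S.U x) := orderOf_dvd_natCard _ hu
  rw [two_of e h1] at h2
  exact (Nat.not_even_iff_odd.2 (h.odd_U x)) (even_iff_two_dvd.2 h2)

theorem lt (h : S.Ctx) (hA : S.AL) {t s : G} (hV : V4 x y t s) : S.LT (fixedBy Ω t) :=
  h.lt (hA t hV.t2 ⟨x, hV.tx⟩)

/-- An involution of `W_t` commuting with `t` is `t`. -/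
theorem w1 (h : S.Ctx) (hA : S.AL) (hK : K1 G Ω) {t s : G} (hV : V4 x y t s) {w : G}
    (hw : w ∈ W G (fixedBy Ω t)) (h2 : w * w = 1) (hc : Commute w t) : w = 1 ∨ w = t := by
  by_contra hn
  rw [not_or] at hn
  have h3 := hK t w hV.t2 (two_of h2 hn.1) hc.symm (Ne.symm hn.2)
  have h4 : fixedBy Ω t ⊆ fixedBy Ω w := fun c hc => mem_W.1 hw c hc
  rw [Set.inter_eq_left.2 h4] at h3
  have := (lt h hA hV).four
  omega

theorem inv2 (h : S.Ctx) (hA : S.AL) (hK : K1 G Ω) {t s : G} (hV : V4 x y t s) :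
    s ∉ W G (fixedBy Ω t) ∧ Inv s (S.UD (fixedBy Ω t) x) := by
  have h1 : s ∉ W G (fixedBy Ω t) := by
    intro hw
    rcases w1 h hA hK hV hw (mul_self_two hV.s2) hV.comm.symm with e | e
    · exact ne_one_two hV.s2 e
    · exact hV.ts e.symm
  refine ⟨h1, ?_⟩
  rcases (lt h hA hV).tri (mem_St_fix hV.comm.symm) (by rw [mul_self_two hV.s2]; exact one_mem _)
    (show x ∈ fixedBy Ω t from hV.tx) hV.sx with e | e | ⟨r, h3, -, e⟩
  · exact absurd e h1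
  · exact e.2
  · have := hK t s hV.t2 hV.s2 hV.comm hV.ts
    omega

theorem d2 (h : S.LT Δ) (hb : S.L Δ ⊓ W G Δ = ⊥) {g g' : G} (hg : g ∈ St G Δ)
    (hg' : g' ∈ St G Δ) (g2 : g * g = 1) (g2' : g' * g' = 1) (g1 : g ∉ W G Δ) (g1' : g' ∉ W G Δ)
    (f : (Δ ∩ fixedBy Ω g).ncard ≤ 2) (f' : (Δ ∩ fixedBy Ω g').ncard ≤ 2)
    (e : g * g' ∈ S.L Δ) : ∃ k ∈ S.L Δ, k * g * k⁻¹ = g' := by
  obtain ⟨k, hk, hw⟩ := h.d2 hg hg' (g2 ▸ one_mem _) (g2' ▸ one_mem _) g1 g1' f f'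
    (mem_sup_left e)
  refine ⟨k, hk, ?_⟩
  have h1 : k * g * k⁻¹ * g'⁻¹ ∈ S.L Δ := by
    have e1 : k * g * k⁻¹ * g'⁻¹ = k * (g * k⁻¹ * g⁻¹) * (g * g') := by
      rw [inv_eq_of_mul_eq_one_right g2']
      group
    rw [e1]
    exact mul_mem (mul_mem hk (S.conj_mem_L hg (inv_mem hk))) e
  have h2 : k * g * k⁻¹ * g'⁻¹ ∈ S.L Δ ⊓ W G Δ := ⟨h1, hw⟩
  rw [hb, mem_bot, mul_inv_eq_one] at h2
  exact h2

theorem d1 (h : S.Ctx) (hA : S.AL) (hK : K1 G Ω) {t s : G} (hV : V4 x y t s)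
    (hb : S.L (fixedBy Ω t) ⊓ W G (fixedBy Ω t) = ⊥) (h4 : (fixedBy Ω t).ncard % 4 = 2) :
    s ∈ S.L (fixedBy Ω t) ∨ t * s ∈ S.L (fixedBy Ω t) := by
  have hL := lt h hA hV
  have hx : x ∈ fixedBy Ω t := hV.tx
  have hy : y ∈ fixedBy Ω t := hV.ty
  obtain ⟨l, hl, lx, ly, l2, li⟩ := hL.d1 h4 hx hy hV.ne
  have l2' : l * l = 1 := by
    have : l * l ∈ S.L (fixedBy Ω t) ⊓ W G (fixedBy Ω t) := ⟨mul_mem hl hl, l2⟩
    rwa [hb, mem_bot] at this
  have si := (inv2 h hA hK hV).2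
  have hw : l * s ∈ W G (fixedBy Ω t) := by
    refine hL.cl.mem_W hx hy hV.ne (by rw [mul_smul, hV.sx, lx]) (by rw [mul_smul, hV.sy, ly]) ?_
    intro u hu
    have e1 := si u hu
    have e2 := li u⁻¹ (inv_mem hu)
    rw [inv_inv] at e2
    have e3 : l * s * u * (l * s)⁻¹ = u := by
      rw [show l * s * u * (l * s)⁻¹ = l * (s * u * s⁻¹) * l⁻¹ by group, e1, e2]
    exact (mul_inv_eq_iff_eq_mul.1 e3).symm
  have c1 : Commute l s := by
    have := (S.commute_L_W hL.nontrivial hl hw).eq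
    rw [mul_assoc] at this
    exact mul_left_cancel this
  have c2 : Commute l t := S.commute_L_W hL.nontrivial hl (self_mem_W t)
  have e2 : l * s * (l * s) = 1 := by
    rw [show l * s * (l * s) = l * (s * l) * s by group, ← c1.eq,
      show l * (l * s) * s = l * l * (s * s) by group, l2', mul_self_two hV.s2, mul_one]
  rcases w1 h hA hK hV hw e2 (c2.mul_left hV.comm.symm) with e | e
  · left
    rw [← inv_eq_of_mul_eq_one_right e]
    exact inv_mem hl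
  · right
    have e' : t * s = l := by rw [← e, mul_assoc, mul_self_two hV.s2, mul_one]
    rw [e']
    exact hl

/-- The involution `μ_b`, `b ∈ U_s`. -/
theorem exists_mu (h : S.Ctx) (hA : S.AL) (hK : K1 G Ω) {t s : G} (hV : V4 x y s t)
    (hb : S.L (fixedBy Ω s) ⊓ W G (fixedBy Ω s) = ⊥) {b : G} (hu : b ∈ S.UD (fixedBy Ω s) x)
    (b1 : b ≠ 1) : S.Spec x y b ∧ S.mu x y b ∈ S.L (fixedBy Ω s) ∧ S.mu x y b * S.mu x y b = 1 ∧
      Commute (S.mu x y b) s ∧ Commute (S.mu x y b) t := by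
  have hL := lt h hA hV
  have hx : x ∈ fixedBy Ω s := hV.tx
  have hy : y ∈ fixedBy Ω s := hV.ty
  obtain ⟨h1, -, h3⟩ := hL.spec hx hy hV.ne hu b1
  have h4 := hL.cl.mu_mem hx hy hV.ne hu
  refine ⟨h1, h4, h3.2 hb, S.commute_L_W hL.nontrivial h4 (self_mem_W s), ?_⟩
  have e := S.mu_conj hV.ne hV.sx hV.sy hu.1 b1
  rw [(inv2 h hA hK hV).2 b hu, S.mu_inv, inv_eq_of_mul_eq_one_right (h3.2 hb)] at e
  exact (mul_inv_eq_iff_eq_mul.1 e).symm

theorem exists_b (h : S.LT Δ) (hx : x ∈ Δ) : ∃ b ∈ S.UD Δ x, b ≠ 1 := by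
  by_contra hn
  push Not at hn
  have h1 := h.cl.card_UD hx h.nontrivial
  rw [(eq_bot_iff_forall _).2 hn, card_bot] at h1
  have := h.four
  omega

/-- An involution moving `x` and commuting with `t`. -/
theorem mov (hK : K1 G Ω) {t m : G} (ht : orderOf t = 2) (tx : t • x = x) (m2 : m * m = 1)
    (hc : Commute m t) (mx : m • x ≠ x) : m ∈ St G (fixedBy Ω t) ∧ m ∉ W G (fixedBy Ω t) ∧
      (fixedBy Ω t ∩ fixedBy Ω m).ncard ≤ 2 := by
  refine ⟨mem_St_fix hc, fun hw => mx (mem_W.1 hw x tx), hK t m ht (two_of m2 ?_) hc.symm ?_⟩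
  · rintro rfl
    exact mx (one_smul _ _)
  · rintro rfl
    exact mx tx

omit [Finite G] in
theorem sq_mul {a b : G} (ha : a * a = 1) (hb : b * b = 1) (hc : Commute a b) :
    a * b * (a * b) = 1 := by
  rw [show a * b * (a * b) = a * (b * a) * b by group, ← hc.eq,
    show a * (a * b) * b = a * a * (b * b) by group, ha, hb, mul_one]

theorem psl1' {t s : G} (h : S.Ctx) (hc : S.Cen x y t s) (ht : t ∉ S.L (fixedBy Ω t))
    (h4 : (fixedBy Ω t).ncard % 4 = 2) (hs : s ∈ S.L (fixedBy Ω t)) : False := by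
  have hV := hc.toV4
  have hA := hc.al
  have hK := hc.k1
  have Lt := lt h hA hV
  have Ls := lt h hA hV.swap
  have bt := hc.psl_self h ht
  have bs := hc.psl h
  have t2 := mul_self_two hV.t2
  have s2 := mul_self_two hV.s2
  have h4s : (fixedBy Ω s).ncard % 4 = 2 := by rw [← h.par hV.s2, h.par hV.t2, h4]
  obtain ⟨b, hb, b1⟩ := exists_b Ls (show x ∈ fixedBy Ω s from hV.sx)
  obtain ⟨-, mL, m2, ms, mt⟩ := exists_mu h hA hK hV.swap bs hb b1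
  have mx := S.mu_x hV.ne hb.1 b1
  generalize S.mu x y b = μ at mL m2 ms mt mx
  have mx' : μ • x ≠ x := mx ▸ hV.ne
  have sm2 : s * μ * (s * μ) = 1 := sq_mul s2 m2 ms.symm
  have smx : (s * μ) • x ≠ x := by
    rw [mul_smul, mx, hV.sy]
    exact hV.ne
  -- `μ` and `s μ` are conjugate
  have c1 : IsConj μ (s * μ) := by
    obtain ⟨a1, a2, a3⟩ := mov hK hV.t2 hV.tx m2 mt mx'
    obtain ⟨a1', a2', a3'⟩ := mov hK hV.t2 hV.tx sm2 (hV.comm.symm.mul_left mt) smx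
    obtain ⟨k, -, e⟩ := d2 Lt bt a1 a1' m2 sm2 a2 a2' a3 a3' (by
      rw [← mul_assoc, ms.eq, mul_assoc, m2, mul_one]
      exact hs)
    exact isConj_iff.2 ⟨k, e⟩
  -- an element `l ∈ {t, s t}` of `L_s`
  have c2 : ∀ l ∈ S.L (fixedBy Ω s), V4 x y s l → IsConj l (s * l) := by
    intro l hl hl'
    obtain ⟨a1, a2, a3⟩ := mov hK hV.s2 hV.sx m2 ms mx'
    obtain ⟨k, hk, e⟩ := d2 Ls bs a1 (mem_St_fix hl'.comm.symm) m2 (mul_self_two hl'.s2) a2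
      (inv2 h hA hK hl').1 a3 (hK s l hl'.t2 hl'.s2 hl'.comm hl'.ts) (mul_mem mL hl)
    have ks : Commute k s := S.commute_L_W Ls.nontrivial hk (self_mem_W s)
    have e' : k * (s * μ) * k⁻¹ = s * l := by
      rw [← mul_assoc, ks.eq, ← e]
      group
    exact ((isConj_iff.2 ⟨k, e⟩).symm.trans c1).trans (isConj_iff.2 ⟨k, e'⟩)
  have c3 : IsConj t (s * t) := by
    rcases d1 h hA hK hV.swap bs h4s with e | e
    · exact c2 t e hV.swap
    · have := c2 _ e hV.swap.mul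
      rw [← mul_assoc, s2, one_mul] at this
      exact this.symm
  refine hc.nc h _ c3 ?_ (hV.comm.symm.mul_left (Commute.refl t)) x hV.tx
    (by rw [mul_smul, hV.tx, hV.sx])
  intro e
  exact ne_one_two hV.s2 (mul_eq_right.1 e)

/-- The decomposition `U = U_t U_s U_ts` if `U_t` is central. -/
theorem dec {t s : G} (h : S.Ctx) (hA : S.AL) (hK : K1 G Ω) (hV : V4 x y t s)
    (hz : ∀ a ∈ S.U x, Commute a t → ∀ u ∈ S.U x, Commute a u) {u : G} (hu : u ∈ S.U x) :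
    ∃ w ∈ S.U x, ∃ v ∈ S.U x, ∃ v' ∈ S.U x, u = w * v * v' ∧ Commute w t ∧ Commute v s ∧
      Commute v' (t * s) := by
  obtain ⟨c₁, h1, w₁, h2, rfl, h3, h4, -⟩ := odd_dec (h.odd_U x) (mul_self_two hV.s2)
    (fun u hu => S.conj_fix hV.sx hu) hu
  obtain ⟨c₂, h5, w₂, h6, rfl, h7, h8, -⟩ := odd_dec (h.odd_U x) (mul_self_two hV.t2)
    (fun u hu => S.conj_fix hV.tx hu) h2
  have z := hz c₂ h5 h7
  refine ⟨c₂, h5, c₁, h1, w₂, h6, by rw [(z c₁ h1).eq, mul_assoc], h7, h3, ?_⟩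
  have e1 := (inv2 h hA hK hV).2 c₂ ((S.mem_UD_fix hV.ne hV.tx hV.ty).2 ⟨h5, h7⟩)
  have e2 : s * w₂ * s⁻¹ = w₂⁻¹ := by
    rw [show s * (c₂ * w₂) * s⁻¹ = (s * c₂ * s⁻¹) * (s * w₂ * s⁻¹) by group, e1, (z w₂ h6).eq,
      mul_inv_rev] at h4
    exact mul_left_cancel h4
  have e3 : t * s * w₂ * (t * s)⁻¹ = w₂ := by
    rw [show t * s * w₂ * (t * s)⁻¹ = t * (s * w₂ * s⁻¹) * t⁻¹ by group, e2,
      show t * w₂⁻¹ * t⁻¹ = (t * w₂ * t⁻¹)⁻¹ by group, h8, inv_inv]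
  exact (mul_inv_eq_iff_eq_mul.1 e3).symm

end PSL13

open PSL13

theorem Sp.Cen.psl1 {t s : G} (h : S.Ctx) (hc : S.Cen x y t s) (ht : t ∉ S.L (fixedBy Ω t))
    (h4 : (fixedBy Ω t).ncard % 4 = 2) : False := by
  rcases d1 h hc.al hc.k1 hc.toV4 (hc.psl_self h ht) h4 with e | e
  · exact psl1' h hc ht h4 e
  · exact psl1' h hc.mul ht h4 e

theorem Sp.Cen.psl3 {t s : G} (h : S.Ctx) (hc : S.Cen x y t s) (ht : t ∉ S.L (fixedBy Ω t))
    (h4 : (fixedBy Ω t).ncard % 4 = 0)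
    (hz : ∀ a ∈ S.U x, Commute a t → ∀ u ∈ S.U x, Commute a u) : False := by
  have hV := hc.toV4
  have hA := hc.al
  have hK := hc.k1
  have Lt := lt h hA hV
  have Ls := lt h hA hV.swap
  have bt := hc.psl_self h ht
  have bs := hc.psl h
  have t2 := mul_self_two hV.t2
  have s2 := mul_self_two hV.s2
  have hx : x ∈ fixedBy Ω t := hV.tx
  have hy : y ∈ fixedBy Ω t := hV.ty
  obtain ⟨b, hb, b1⟩ := exists_b Ls (show x ∈ fixedBy Ω s from hV.sx)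
  obtain ⟨sb, mL, m2, ms, mt⟩ := exists_mu h hA hK hV.swap bs hb b1
  have mx := S.mu_x hV.ne hb.1 b1
  have my := S.mu_y hV.ne hb.1 b1
  have tm2 := sq_mul t2 m2 mt.symm
  have tmx : (t * S.mu x y b) • x ≠ x := by
    rw [mul_smul, mx, hV.ty]
    exact hV.ne
  -- `μ_b` has no fixed point on `Δ_t`
  have fpf : ∀ p ∈ fixedBy Ω t, S.mu x y b • p ≠ p := by
    obtain ⟨a1, a2, a3⟩ := mov hK hV.s2 hV.sx tm2 (hV.comm.mul_left ms) tmx
    obtain ⟨k, -, e⟩ := d2 Ls bs a1 (mem_St_fix hV.comm) tm2 t2 a2 (inv2 h hA hK hV.swap).1 a3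
      (hK s t hV.s2 hV.t2 hV.comm.symm hV.ts.symm) (by
        rw [mul_assoc, mt.eq, ← mul_assoc, t2, one_mul]
        exact mL)
    intro p hp e'
    refine hc.nc h _ (isConj_iff.2 ⟨k, e⟩).symm ?_ ((Commute.refl t).mul_left mt) p hp
      (by rw [mul_smul, e']; exact hp)
    intro e''
    exact tmx (by rw [e'', hV.tx])
  have mS := mem_St_fix (Ω := Ω) mt
  obtain ⟨l, hl, w, hw, e⟩ := Lt.b1 h4 mS (m2 ▸ one_mem _) fpf
  obtain ⟨c, hc', c1, e1⟩ := Lt.e1 h4 mS (m2 ▸ one_mem _) hx hy hV.ne mx my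
  have cy : c • y ∈ fixedBy Ω t := (hc'.2 y).2 hy
  replace e1 := e1.resolve_left (fpf _ cy)
  obtain ⟨sc, nL, n2, nt, ns⟩ := exists_mu h hA hK hV bt hc' c1
  have nx := S.mu_x hV.ne hc'.1 c1
  have ny := S.mu_y hV.ne hc'.1 c1
  have ct := ((S.mem_UD_fix hV.ne hV.tx hV.ty).1 hc').2
  have cz := hz c hc'.1 ct
  have kW : S.mu x y c * S.mu x y b ∈ W G (fixedBy Ω t) := by
    have h1 : ∀ p ∈ fixedBy Ω t, l • p = S.mu x y b • p := fun p hp => by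
      rw [e, mul_smul, mem_W.1 hw p hp]
    have h2 : S.mu x y c * l ∈ W G (fixedBy Ω t) := by
      refine Lt.three (mul_mem nL hl) ?_
      rw [Set.two_lt_ncard_iff]
      refine ⟨x, y, c • y, ⟨hx, ?_⟩, ⟨hy, ?_⟩, ⟨cy, ?_⟩, hV.ne.symm, (S.smul_ne hc'.1 hV.ne).symm,
        fun e => c1 (S.free x y hV.ne c hc'.1 e.symm)⟩
      · rw [mem_fixedBy, mul_smul, h1 x hx, mx, ny]
      · rw [mem_fixedBy, mul_smul, h1 y hy, my, nx]
      · rw [mem_fixedBy, mul_smul, h1 _ cy, e1, (sc.mu_eq hV.ne hc'.1 c1).2.2]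
    rw [e, ← mul_assoc]
    exact mul_mem h2 hw
  have bc : b ≠ c := by
    rintro rfl
    have h1 := (inv2 h hA hK hV).2 b hc'
    rw [← ((S.mem_UD_fix hV.ne hV.sx hV.sy).1 hb).2.eq, mul_inv_cancel_right] at h1
    exact b1 (sq_one h hb.1 (mul_eq_one_iff_eq_inv.2 h1))
  have hd : Commute (S.de x y b) (S.de x y c) := by
    have h1 := (S.ap_swap hV.ne nx ny (inv_mem hc'.1) (inv_ne_one.2 c1)).2.2.1
    rw [sc.th hV.ne hc'.1 c1] at h1
    have h2 : (S.mu x y c)⁻¹ * S.de x y b * (S.mu x y c)⁻¹⁻¹ ∈ S.U x := by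
      have := S.conj (S.mu x y c)⁻¹ y _ (S.de_mem (x := x) (a := b))
      rwa [show (S.mu x y c)⁻¹ • y = x by rw [inv_smul_eq_iff, nx]] at this
    have h3 := ((cz _ h2).inv_left.symm).map (MulAut.conj (S.mu x y c)).toMonoidHom
    rw [← h1]
    simpa [mul_assoc] using h3
  obtain ⟨p1, p2, -⟩ := S.pair hV.ne hb.1 hc'.1 b1 c1 bc sb sc (cz b hb.1).symm hd
  rw [p2] at p1
  obtain ⟨w', hw', v, hv, v', hv', e2, wt, vs, vt⟩ := dec h hA hK hV hz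
    (S.ap_mem (x := x) (y := y) (g := S.mu x y c) (a := b * c⁻¹))
  rw [e2] at p1
  have ks : Commute (S.mu x y c * S.mu x y b) s := ns.mul_left ms
  have kt : Commute (S.mu x y c * S.mu x y b) t := nt.mul_left mt
  generalize S.mu x y c * S.mu x y b = k at p1 kW ks kt
  have kx : k⁻¹ • x = x := mem_W.1 (inv_mem kW) x hx
  have wk : Commute w' k := S.commute_L_W Lt.nontrivial
    (S.UD_le_L hx ((S.mem_UD_fix hV.ne hV.tx hV.ty).2 ⟨hw', wt⟩)) kW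
  have wz := hz w' hw' wt
  have hV' := hV.mul.swap
  have a1 : v ∈ S.UD (fixedBy Ω s) x := (S.mem_UD_fix hV.ne hV.sx hV.sy).2 ⟨hv, vs⟩
  have a2 : v' ∈ S.UD (fixedBy Ω (t * s)) x := (S.mem_UD_fix hV.ne hV'.tx hV'.ty).2 ⟨hv', vt⟩
  have a3 := S.conj_mem_UD (mem_St_fix ks.inv_left) kx a1
  have a4 := S.conj_mem_UD (mem_St_fix (kt.mul_right ks).inv_left) kx a2
  rw [inv_inv] at a3 a4
  have a5 := mul_mem (inv_mem (mul_mem hb a3)) a1
  have a6 := mul_mem a4 (inv_mem a2)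
  have e3 : c⁻¹ * ((b * (k⁻¹ * v * k))⁻¹ * v) = k⁻¹ * v' * k * v'⁻¹ := by
    have f1 : k⁻¹ * (w' * v * v') * k = w' * (k⁻¹ * v * k) * (k⁻¹ * v' * k) := by
      rw [show k⁻¹ * (w' * v * v') * k = k⁻¹ * w' * (v * v' * k) by group, ← wk.inv_right.eq]
      group
    rw [f1, show b * (w' * (k⁻¹ * v * k) * (k⁻¹ * v' * k)) =
      b * w' * ((k⁻¹ * v * k) * (k⁻¹ * v' * k)) by group, ← (wz b hb.1).eq,
      show c⁻¹ * (w' * v * v') = c⁻¹ * w' * (v * v') by group, ← (wz c⁻¹ (inv_mem hc'.1)).eq,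
      mul_assoc, mul_assoc w'] at p1
    have f2 := mul_left_cancel p1
    have f3 := (cz _ (inv_mem (mul_mem hb a3)).1).inv_left.eq
    calc c⁻¹ * ((b * (k⁻¹ * v * k))⁻¹ * v)
        = (b * (k⁻¹ * v * k))⁻¹ * (c⁻¹ * (v * v')) * v'⁻¹ := by
          rw [← mul_assoc, f3]
          group
      _ = k⁻¹ * v' * k * v'⁻¹ := by
          rw [f2]
          group
  have i1 := (inv2 h hA hK hV.swap).2 _ a5
  have i2 := (inv2 h hA hK hV').2 _ a6
  generalize (b * (k⁻¹ * v * k))⁻¹ * v = α at e3 i1 a5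
  rw [← e3, show t * (c⁻¹ * α) * t⁻¹ = (t * c * t⁻¹)⁻¹ * (t * α * t⁻¹) by group, i1, ← ct.eq,
    mul_inv_cancel_right, mul_inv_rev, inv_inv, ← (cz _ (inv_mem a5.1)).eq] at i2
  exact c1 (sq_one h hc'.1 (mul_eq_one_iff_eq_inv.2 (mul_right_cancel i2).symm))

end Cfsg.Agent.HKS
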