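import Mathlib
import Cfsg.Agent.HKS.Ctx
import Cfsg.Agent.HKS.LFA
import Cfsg.Agent.HKS.LFB
import Cfsg.Agent.HKS.LFE

/-! Piece SL1a: type `SL₂(q)`, `q ≡ 1 (mod 4)`, local facts -/

set_option autoImplicit false
set_option linter.unusedSectionVars false

namespace Cfsg.Agent.HKS

open Subgroup MulAction Cfsg.Agent.TT Cfsg.Agent.Perm.TT Cfsg.Agent.Cl.L2
open Cfsg.Agent.KS (St)
open scoped MatrixGroups Pointwise commutatorElement

variable {G Ω : Type*} [Group G] [MulAction G Ω] [Finite G] [Finite Ω] {S : Sp G Ω}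
  {Δ Δ' : Set Ω} {x y : Ω}

theorem sl1a_sq {t : G} (ht : orderOf t = 2) : t * t = 1 := by rw [← pow_two, ← ht, pow_orderOf_eq_one]

theorem sl1a_ne {t : G} (ht : orderOf t = 2) : t ≠ 1 := by
  rintro rfl
  simp at ht

theorem sl1a_ord {t : G} (h : t * t = 1) (h1 : t ≠ 1) : orderOf t = 2 :=
  orderOf_eq_prime (by rwa [pow_two]) h1

theorem sl1a_conj_sq {t t' : G} (ht : orderOf t = 2) (h : IsConj t t') : t' * t' = 1 := by
  obtain ⟨g, rfl⟩ := isConj_iff.1 h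
  rw [conj_mul, sl1a_sq ht, mul_one, mul_inv_cancel]

section

variable {t t' : G} (h : S.Ctx) (ht : orderOf t = 2) (hy : S.TyL (fixedBy Ω t))
  (h4 : (fixedBy Ω t).ncard % 4 = 2) (hm : t ∈ S.L (fixedBy Ω t)) (hK : K1 G Ω)
  (nc : ∀ t', IsConj t t' → t' ≠ t → Commute t' t → ∀ c : Ω, t • c = c → t' • c ≠ c)
include h ht hy h4 hm hK nc

theorem sl1a_W {w : G} (hw : w ∈ W G (fixedBy Ω t)) (w2 : w * w = 1) : w = 1 ∨ w = t := by
  by_contra! k
  have := hK w t (sl1a_ord w2 k.1) ht (((h.lt hy).sl_cen hm (self_mem_W t) ht).2.2 w (W_le_St hw)) k.2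
  rw [Set.inter_eq_right.2 (show fixedBy Ω t ⊆ fixedBy Ω w from mem_W.1 hw)] at this
  have := (h.lt hy).four
  omega

theorem sl1a_root {w : G} (hw : w ∈ W G (fixedBy Ω t)) (k : ℕ) (w2 : w ^ 2 ^ k = 1) (w1 : w ≠ 1)
    (wt : w ≠ t) : ∃ j, w ^ 2 ^ j * w ^ 2 ^ j = t := by
  induction k generalizing w with
  | zero => exact absurd (by simpa using w2) w1
  | succ k ih =>
    by_cases e : w * w = t
    · exact ⟨0, by simpa using e⟩
    obtain ⟨j, hj⟩ := ih (mul_mem hw hw) (by rwa [← pow_two, ← pow_mul, ← pow_succ'])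
      (fun k => (sl1a_W h ht hy h4 hm hK nc hw k).elim w1 wt) e
    exact ⟨j + 1, by rwa [pow_succ', pow_mul, pow_two]⟩

theorem sl1a_chi (h1 : IsConj t t') : ∃ χ : St G (fixedBy Ω t') →* ℤˣ,
    ∀ s : St G (fixedBy Ω t'), IsConj t (s : G) → (s : G) ≠ t' → Commute (s : G) t' → χ s = -1 := by
  obtain ⟨g, rfl⟩ := isConj_iff.1 h1
  obtain ⟨χ, C, _, ψ, -, -, k⟩ := (fix_conj (Ω := Ω) g t ▸ (h.lt hy).smul g).chi
    (by rwa [fix_conj, Set.ncard_smul_set])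
  refine ⟨χ, fun s s1 s2 s3 => (k s (sl1a_conj_sq ht s1 ▸ one_mem _) fun c hc e => ?_).1⟩
  refine nc (g⁻¹ * s * g) (s1.trans (isConj_iff.2 ⟨g⁻¹, by simp⟩)) (fun e => s2 (Eq.trans (by group) (congrArg (g * · * g⁻¹) e)))
    (by simpa [mul_assoc] using s3.map (MulAut.conj g⁻¹)) (g⁻¹ • c) ?_ ?_
  · rw [eq_inv_smul_iff, ← mul_smul, ← mul_smul]; exact hc
  · rw [mul_smul, mul_smul, smul_inv_smul, e]

theorem sl1_sq (h1 : IsConj t t') (h2 : t' ≠ t) (h3 : Commute t' t) {r : G} (hr : Commute r t') :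
    r * r ≠ t := fun e => by
  obtain ⟨χ, k⟩ := sl1a_chi h ht hy h4 hm hK nc h1
  have := k (⟨r, mem_St_fix hr⟩ * ⟨r, mem_St_fix hr⟩) (e ▸ IsConj.refl _)
    (fun k => h2 (k.symm.trans e)) (hr.mul_left hr)
  rw [map_mul, Int.units_mul_self] at this
  exact absurd this (by decide)

theorem sl1_dec {e : G} (h1 : Commute e t) (h2 : orderOf e = 2) (h3 : e ≠ t) (tx : t • x = x)
    (ex : e • x = x) :
    ∃ l ∈ S.L (fixedBy Ω t), ∃ r ∈ W G (fixedBy Ω t), e = l * r ∧ l * l = t ∧ r * r = t := by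
  have hL := h.lt hy
  obtain ⟨c1, c2, -⟩ := hL.sl_cen hm (self_mem_W t) ht
  have e2 : e * e ∈ W G (fixedBy Ω t) := sl1a_sq h2 ▸ one_mem _
  obtain ⟨c, hc, cx, ec⟩ := exists_snd_fix (h.even_fix ht) (mem_St_fix h1) e2 tx ex
  obtain ⟨l, hl, r, hr, rfl⟩ := (Sp.mem_sup_LW hL.nontrivial).1 (hL.c2 h4 (mem_St_fix h1) e2
    (le_antisymm (hK t e ht h2 h1.symm h3.symm)
      ((Set.one_lt_ncard (Set.toFinite _)).2 ⟨c, ⟨hc, ec⟩, x, ⟨tx, ex⟩, cx⟩)))
  have k : l * l * (r * r) = 1 := by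
    rw [← sl1a_sq h2, (Sp.commute_L_W hL.nontrivial hl hr).mul_mul_mul_comm]
  have k1 : l * l = t := (c1 _ (mul_mem hl hl) (eq_inv_of_mul_eq_one_left k ▸ inv_mem (mul_mem hr hr))).resolve_left
    fun k1 => (sl1a_W h ht hy h4 hm hK nc (mul_mem (by
      rcases c2 l hl k1 with rfl | rfl
      exacts [one_mem _, self_mem_W _]) hr) (sl1a_sq h2)).elim (sl1a_ne h2) h3
  exact ⟨l, hl, r, hr, rfl, k1, by
    rw [eq_inv_of_mul_eq_one_right k, k1, inv_eq_of_mul_eq_one_right (sl1a_sq ht)]⟩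

theorem sl1a_v (h1 : IsConj t t') (h2 : t' ≠ t) (h3 : Commute t' t) :
    ∃ v ∈ S.L (fixedBy Ω t), v * v = t ∧ t' * v * t'⁻¹ = v * t :=
  (h.lt hy).c4 hm (self_mem_W t) ht (mem_St_fix h3) (sl1a_conj_sq ht h1 ▸ one_mem _) (nc t' h1 h2 h3)

theorem sl1a_nW (h1 : IsConj t t') (h2 : t' ≠ t) (h3 : Commute t' t) : t' ∉ W G (fixedBy Ω t) :=
  fun k => let ⟨c, hc, _⟩ := (h.lt hy).nontrivial; nc t' h1 h2 h3 c hc (mem_W.1 k c hc)

theorem sl1_conj (h1 : IsConj t t') (h2 : t' ≠ t) (h3 : Commute t' t) {l : G}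
    (hl : l ∈ S.L (fixedBy Ω t)) (e : l * t' * (l * t') = 1) : IsConj t (l * t') := by
  have hL := h.lt hy
  obtain ⟨c1, c2, c3⟩ := hL.sl_cen hm (self_mem_W t) ht
  have t2 := sl1a_conj_sq ht h1
  have nW := sl1a_nW h ht hy h4 hm hK nc h1 h2 h3
  have st := mem_St_fix (Ω := Ω) h3
  have g0 := mul_mem (Sp.L_le_St hl) st
  have g1 : l * t' ∉ W G (fixedBy Ω t) := fun k => by
    have : t' ∈ S.L (fixedBy Ω t) := (mul_mem_cancel_left hl).1 (by
      rcases sl1a_W h ht hy h4 hm hK nc k e with k | k <;> rw [k]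
      exacts [one_mem _, hm])
    rcases c2 t' this t2 with rfl | rfl
    exacts [nW (one_mem _), h2 rfl]
  obtain ⟨k, hk, e'⟩ := hL.d2 g0 st (e ▸ one_mem _) (t2 ▸ one_mem _) g1 nW
    (hK t _ ht (sl1a_ord e fun k => g1 (k ▸ one_mem _)) (c3 _ g0).symm fun k => g1 (k ▸ self_mem_W t))
    (hK t t' ht (sl1a_ord t2 fun k => nW (k ▸ one_mem _)) h3.symm h2.symm)
    (by rw [mul_assoc, t2, mul_one]; exact mem_sup_left hl)
  refine h1.trans (IsConj.trans ?_ (isConj_iff.2 ⟨k, rfl⟩).symm)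
  rcases c1 _ (by simpa [mul_assoc] using mul_mem (mul_mem hk hl) (Sp.conj_mem_L st (inv_mem hk))) e'
    with k1 | k1
  · rw [mul_inv_eq_one.1 k1]
  · obtain ⟨v, -, -, v2⟩ := sl1a_v h ht hy h4 hm hK nc h1 h2 h3
    rw [mul_inv_eq_iff_eq_mul.1 k1]
    exact isConj_iff.2 ⟨v⁻¹, by rw [inv_inv, mul_assoc, mul_inv_eq_iff_eq_mul.1 v2]; group⟩

theorem sl1_not (h1 : IsConj t t') (h2 : t' ≠ t) (h3 : Commute t' t) {w : G}
    (hw : w ∈ W G (fixedBy Ω t)) (w2 : w * w = t) (e : t' * w * t'⁻¹ = w⁻¹) : ¬ IsConj t (t' * w) := by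
  intro hc
  have hL := h.lt hy
  obtain ⟨c1, c2, c3⟩ := hL.sl_cen hm (self_mem_W t) ht
  have tt := sl1a_sq ht
  have t2 := sl1a_conj_sq ht h1
  have ti := inv_eq_of_mul_eq_one_right t2
  obtain ⟨v, hv, v1, v2⟩ := sl1a_v h ht hy h4 hm hK nc h1 h2 h3
  obtain ⟨χ, k⟩ := sl1a_chi h ht hy h4 hm hK nc hc
  have vw := Sp.commute_L_W hL.nontrivial hv hw
  have vt := c3 v (Sp.L_le_St hv)
  have wt := c3 w (W_le_St hw)
  have vW : v ∉ W G (fixedBy Ω t) := fun k => by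
    rcases c1 v hv k with rfl | rfl
    exacts [sl1a_ne ht (by rw [← v1, one_mul]), sl1a_ne ht (v1.symm.trans tt)]
  have v3 : t' * v = v * t * t' := mul_inv_eq_iff_eq_mul.1 v2
  have a1 : Commute (t' * v) (t' * w) := by
    rw [ti] at e v2
    calc _ = t' * v * t' * w := by group
      _ = t' * w * t' * v := by
        rw [e, v2, eq_inv_mul_iff_mul_eq, ← mul_assoc, ← (vw.mul_left wt.symm).eq, mul_assoc, mul_assoc, w2, tt,
          mul_one]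
      _ = _ := by group
  have b1 : Commute t (t' * w) := h3.symm.mul_right wt.symm
  have sq : t' * v * (t' * v) = 1 := by
    rw [ti] at v2
    rw [← mul_assoc, v2, mul_assoc, ← vt.eq, ← mul_assoc, v1, tt]
  have k0 := sl1_conj h ht hy h4 hm hK nc h1 h2 h3 (mul_mem hv hm) (v3 ▸ sq)
  rw [← v3] at k0
  have k1 := k ⟨t' * v, mem_St_fix a1⟩ k0 (fun e => vW (mul_left_cancel e ▸ hw)) a1
  have v4 : t' * v * t = v * t' := by rw [v3, mul_assoc, h3.eq, mul_assoc v, ← mul_assoc t, tt, one_mul]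
  have k3 := sl1_conj h ht hy h4 hm hK nc h1 h2 h3 hv (by
    rw [← v4, (h3.mul_left vt).symm.mul_mul_mul_comm, sq, tt, one_mul])
  rw [← v4] at k3
  have k2 := k (⟨t' * v, mem_St_fix a1⟩ * ⟨t, mem_St_fix b1⟩) k3
    (fun e => vW ((mul_mem_cancel_right (self_mem_W t)).1
      (mul_left_cancel ((mul_assoc _ _ _).symm.trans e) ▸ hw))) (a1.mul_left b1)
  rw [map_mul, k1, k ⟨t, mem_St_fix b1⟩ (IsConj.refl _) (fun e => sl1a_nW h ht hy h4 hm hK nc h1 h2 h3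
    ((mul_mem_cancel_right hw).1 (e ▸ self_mem_W t))) b1] at k2
  exact absurd k2 (by decide)

theorem sl1_card (h1 : IsConj t t') (h2 : t' ≠ t) (h3 : Commute t' t) {R : Subgroup G}
    (hR : IsPGroup 2 R) (hW : R ≤ W G (fixedBy Ω t)) (hn : ∀ r ∈ R, t' * r * t'⁻¹ ∈ R) :
    Nat.card R ≤ 4 := by
  have t2 := sl1a_conj_sq ht h1
  have ti := inv_eq_of_mul_eq_one_right t2
  have root : ∀ r ∈ R, r = 1 ∨ r = t ∨ ∃ j, r ^ 2 ^ j * r ^ 2 ^ j = t := fun r hr => by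
    obtain ⟨k, hk⟩ := hR ⟨r, hr⟩
    by_contra! e
    obtain ⟨j, hj⟩ := sl1a_root h ht hy h4 hm hK nc (hW hr) k (congrArg Subtype.val hk) e.1 e.2.1
    exact e.2.2 j hj
  have cen : ∀ r ∈ R, Commute r t' → r = 1 ∨ r = t := fun r hr hc =>
    (root r hr).imp_right fun k => k.resolve_right fun ⟨j, hj⟩ =>
      sl1_sq h ht hy h4 hm hK nc h1 h2 h3 (hc.pow_left _) hj
  have key : ∀ r ∈ R, t' * r * t'⁻¹ * r⁻¹ = 1 ∨ t' * r * t'⁻¹ * r⁻¹ = t := fun r hr => by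
    have hm' := mul_mem (hn r hr) (inv_mem hr)
    have e : t' * (t' * r * t'⁻¹ * r⁻¹) * t'⁻¹ = (t' * r * t'⁻¹ * r⁻¹)⁻¹ := by
      simp [ti, ← mul_assoc, t2]
    have e0 : IsConj t' (t' * (t' * r * t'⁻¹ * r⁻¹)) := isConj_iff.2 ⟨r, by simp [ti, ← mul_assoc, t2]⟩
    generalize t' * r * t'⁻¹ * r⁻¹ = m at hm' e e0
    refine (root m hm').imp_right fun k => k.resolve_right fun ⟨j, hj⟩ =>
      sl1_not h ht hy h4 hm hK nc h1 h2 h3 (hW (pow_mem hm' _)) hj (by rw [← conj_pow, e, inv_pow])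
        (h1.trans ?_)
    rcases j with _ | j
    · simpa using e0
    · refine isConj_iff.2 ⟨(m ^ 2 ^ j)⁻¹, ?_⟩
      rw [inv_inv, ← inv_pow, ← e, conj_pow, pow_succ, pow_mul, pow_two]
      group
  obtain ⟨r₀, k⟩ : ∃ r₀, (R : Set G) ⊆ {1, t, r₀, r₀ * t} := by
    by_cases k : ∀ r ∈ R, Commute r t'
    · exact ⟨1, fun r hr => by rcases cen r hr (k r hr) with rfl | rfl <;> simp⟩
    push Not at k
    obtain ⟨r₀, h0, k⟩ := k
    have cm : ∀ r, t' * r * t'⁻¹ * r⁻¹ = 1 → Commute r t' := fun r e =>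
      (commutatorElement_eq_one_iff_commute.1 e).symm
    have k0 := (key r₀ h0).resolve_left (mt (cm _) k)
    refine ⟨r₀, fun r hr => ?_⟩
    rcases key r hr with e | e
    · rcases cen r hr (cm r e) with rfl | rfl <;> simp
    · rcases cen _ (mul_mem (inv_mem h0) hr) (cm _ (by
        calc _ = t' * r₀⁻¹ * t'⁻¹ * (t' * r * t'⁻¹ * r⁻¹) * r₀ := by group
          _ = 1 := by rw [e, ← k0]; group)) with e' | e'
      · simp [← inv_mul_eq_one.1 e']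
      · simp [inv_mul_eq_iff_eq_mul.1 e']
  exact (Set.ncard_le_ncard k (Set.toFinite _)).trans ((Set.ncard_insert_le _ _).trans (Nat.succ_le_succ
    ((Set.ncard_insert_le _ _).trans (Nat.succ_le_succ ((Set.ncard_insert_le _ _).trans (by simp))))))

end

end Cfsg.Agent.HKS
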