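import Mathlib
import Cfsg.Agent.HKS.SL1a
import Cfsg.Agent.Inv.SylowElt

/-! Piece SL1b: type `SL₂(q)`, `q ≡ 1 (mod 4)`, transfer -/

set_option autoImplicit false

namespace Cfsg.Agent.HKS

open Subgroup MulAction Cfsg.Agent.TT Cfsg.Agent.Perm.TT Cfsg.Agent.Cl.L2
open Cfsg.Agent.KS (St)
open scoped MatrixGroups Pointwise commutatorElement

variable {G Ω : Type*} [Group G] [MulAction G Ω] [Finite G] [Finite Ω] {S : Sp G Ω}
  {Δ Δ' : Set Ω} {x y : Ω}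

namespace SL1b

omit [Finite G] in
theorem sq_one {t : G} (ht : orderOf t = 2) : t * t = 1 := by
  rw [← pow_two, ← ht, pow_orderOf_eq_one]

omit [Finite G] in
theorem ne_one {t : G} (ht : orderOf t = 2) : t ≠ 1 := fun e => by simp [e] at ht

omit [Finite G] in
theorem ord_two {t : G} (h : t * t = 1) (h1 : t ≠ 1) : orderOf t = 2 :=
  orderOf_eq_prime (by rw [pow_two, h]) h1

omit [Finite G] in
theorem pg_zpowers {t : G} (h : t * t = 1) : IsPGroup 2 (zpowers t) := by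
  rintro ⟨_, k, rfl⟩
  refine ⟨1, Subtype.ext ?_⟩
  change (t ^ k) ^ 2 = 1
  rw [← zpow_natCast, ← zpow_mul, mul_comm, zpow_mul, zpow_natCast, pow_two, h, one_zpow]

/-- A Sylow subgroup of a subgroup `C` containing a given involution. -/
theorem exists_syl (C : Subgroup G) {s : G} (hs : s ∈ C) (s2 : s * s = 1) :
    ∃ T : Subgroup G, IsPGroup 2 T ∧ T ≤ C ∧ s ∈ T ∧ ¬ 2 ∣ T.relIndex C ∧
      (∀ P : Subgroup G, IsPGroup 2 P → T ≤ P → ∀ g ∈ P, g ∈ C → g ∈ T) ∧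
      ∀ u ∈ C, u * u = 1 → ∃ c ∈ C, c * u * c⁻¹ ∈ T := by
  obtain ⟨P, hP⟩ := (pg_zpowers (t := (⟨s, hs⟩ : C)) (Subtype.ext s2)).exists_le_sylow
  have e : ((P : Subgroup C).map C.subtype).subgroupOf C = P :=
    comap_map_eq_self_of_injective C.subtype_injective _
  refine ⟨(P : Subgroup C).map C.subtype, P.2.map _, map_subtype_le _,
    ⟨_, hP (mem_zpowers _), rfl⟩, ?_, fun Q hQ hle g hg hc => ?_, fun u hu u2 => ?_⟩
  · rw [relIndex, e]
    exact P.not_dvd_index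
  · have h1 : Q.subgroupOf C = P := P.3 (hQ.comap_of_injective _ C.subtype_injective)
      fun a ha => hle ⟨a, ha, rfl⟩
    exact ⟨⟨g, hc⟩, h1 ▸ hg, rfl⟩
  · obtain ⟨Q, hQ⟩ := (pg_zpowers (t := (⟨u, hu⟩ : C)) (Subtype.ext u2)).exists_le_sylow
    obtain ⟨c, hc⟩ := MulAction.exists_smul_eq C Q P
    refine ⟨c, c.2, c * ⟨u, hu⟩ * c⁻¹, ?_, rfl⟩
    rw [← hc]
    exact Subgroup.smul_mem_pointwise_smul _ (MulAut.conj c) _ (hQ (mem_zpowers _))

/-- A group of order at most four containing an element of order four. -/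
theorem mem_four {R : Subgroup G} (h4 : Nat.card R ≤ 4) {w t : G} (hw : w ∈ R) (w2 : w * w = t)
    (ht : orderOf t = 2) {r : G} (hr : r ∈ R) : r = 1 ∨ r = t ∨ r = w ∨ r = w * t := by
  classical
  by_contra hn
  push Not at hn
  obtain ⟨n1, n2, n3, n4⟩ := hn
  have t2 := sq_one ht
  have t1 := ne_one ht
  have w1 : w ≠ 1 := fun e => t1 (by rw [← w2, e, one_mul])
  have wt : w ≠ t := fun e => t1 (by rw [← w2, e, t2])
  have a1 : w * t ≠ 1 := fun e => wt (by rw [← mul_one w, ← t2, ← mul_assoc, e, one_mul])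
  have a2 : w * t ≠ t := fun e => w1 (mul_right_cancel (e.trans (one_mul t).symm))
  have a3 : w * t ≠ w := fun e => t1 (mul_left_cancel (e.trans (mul_one w).symm))
  have hs : ({1, t, w, w * t, r} : Set G) ⊆ R := by
    have htR : t ∈ R := w2 ▸ mul_mem hw hw
    rintro a (rfl | rfl | rfl | rfl | rfl)
    exacts [R.one_mem, htR, hw, mul_mem hw htR, hr]
  have h5 := Set.ncard_le_ncard hs
  rw [Set.ncard_insert_of_notMem (by simp [t1.symm, w1.symm, a1.symm, n1.symm]),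
    Set.ncard_insert_of_notMem (by simp [wt.symm, a2.symm, n2.symm, w1]),
    Set.ncard_insert_of_notMem (by simp [a3.symm, n3.symm, t1]),
    Set.ncard_pair n4.symm] at h5
  have : (R : Set G).ncard = Nat.card R := rfl
  omega

/-- The group generated by `L` and an involution normalizing it. -/
def ext (L : Subgroup G) (u : G) (u2 : u * u = 1) (hn : ∀ l ∈ L, u * l * u⁻¹ ∈ L) : Subgroup G where
  carrier := {g | g ∈ L ∨ g * u ∈ L}
  one_mem' := Or.inl L.one_mem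
  mul_mem' := by
    have iu : u⁻¹ = u := inv_eq_of_mul_eq_one_right u2
    rintro a b (ha | ha) (hb | hb)
    · exact Or.inl (mul_mem ha hb)
    · exact Or.inr (by rw [mul_assoc]; exact mul_mem ha hb)
    · refine Or.inr ?_
      have := mul_mem ha (hn b hb)
      rwa [iu, show a * u * (u * b * u) = a * (u * u) * b * u by group, u2, mul_one] at this
    · refine Or.inl ?_
      have := mul_mem ha (hn _ hb)
      rwa [show a * u * (u * (b * u) * u⁻¹) = a * (u * u) * b by group, u2, mul_one] at this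
  inv_mem' := by
    have iu : u⁻¹ = u := inv_eq_of_mul_eq_one_right u2
    rintro a (ha | ha)
    · exact Or.inl (inv_mem ha)
    · refine Or.inr ?_
      have := hn _ (inv_mem ha)
      rwa [show u * (a * u)⁻¹ * u⁻¹ = a⁻¹ * u⁻¹ by group, iu] at this

end SL1b

open SL1b

theorem Sp.Ctx.sl1 {t s : G} (h : S.Ctx) (hV : V4 x y t s) (hy : S.TyL (fixedBy Ω t))
    (h4 : (fixedBy Ω t).ncard % 4 = 2) (hm : t ∈ S.L (fixedBy Ω t)) (hK : K1 G Ω)
    (nc : ∀ t', IsConj t t' → t' ≠ t → Commute t' t → ∀ c : Ω, t • c = c → t' • c ≠ c) : False := by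
  classical
  have ht := hV.t2
  have t2 := sq_one ht
  have t1 := ne_one ht
  have s2 := sq_one hV.s2
  have lt := h.lt hy
  have nt := lt.nontrivial
  obtain ⟨lw, linv, cen⟩ := lt.sl_cen hm (self_mem_W t) ht
  have winv : ∀ w ∈ W G (fixedBy Ω t), w * w = 1 → w = 1 ∨ w = t := fun w hw w2 => by
    by_contra hn
    push Not at hn
    have h1 := hK w t (ord_two w2 hn.1) ht (cen w (W_le_St hw)) hn.2
    have h2 : fixedBy Ω w ∩ fixedBy Ω t = fixedBy Ω t :=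
      Set.inter_eq_right.2 fun c hc => mem_W.1 hw c hc
    have := lt.four
    rw [h2] at h1
    omega
  obtain ⟨T, hT, hTC, sT, hodd, hmax, hconj⟩ :=
    exists_syl (St G (fixedBy Ω t)) (mem_St_fix hV.comm.symm) s2
  have tT : t ∈ T := by
    obtain ⟨c, hc, e⟩ := hconj t (mem_St_fix (Commute.refl t)) t2
    rwa [(cen c hc).eq, mul_inv_cancel_right] at e
  have dec : ∀ g ∈ T, g ∈ S.L (fixedBy Ω t) ⊔ W G (fixedBy Ω t) →
      ∃ a ∈ T ⊓ S.L (fixedBy Ω t), ∃ b ∈ T ⊓ W G (fixedBy Ω t), g = a * b := fun g hg hg' =>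
    syl_dec hT hTC hodd Sp.L_le_St W_le_St (fun g hg a ha => Sp.conj_mem_L hg ha)
      (fun g hg a ha => conj_mem_W hg ha) (fun a ha b hb => Sp.commute_L_W nt ha hb) hg hg'
  have dec2 : ∀ e ∈ T, orderOf e = 2 → e ≠ t → ∀ c, t • c = c → e • c = c →
      ∃ a ∈ T ⊓ S.L (fixedBy Ω t), ∃ b ∈ T ⊓ W G (fixedBy Ω t), e = a * b ∧ b ≠ 1 ∧ b ≠ t :=
    fun e he e2 et c tc ec => by
    obtain ⟨l, hl, r, hr, e1, -, -⟩ := sl1_dec h ht hy h4 hm hK nc (cen e (hTC he)) e2 et tc ec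
    obtain ⟨a, ha, b, hb, e3⟩ := dec e he (e1 ▸ mul_mem (mem_sup_left hl) (mem_sup_right hr))
    have hn : e ∉ S.L (fixedBy Ω t) := fun h1 => (linv e h1 (sq_one e2)).elim (ne_one e2) et
    refine ⟨a, ha, b, hb, e3, fun e4 => hn ?_, fun e4 => hn ?_⟩
    · rw [e3, e4, mul_one]; exact ha.2
    · rw [e3, e4]; exact mul_mem ha.2 hm
  have nR : ∀ g ∈ T, ∀ r ∈ T ⊓ W G (fixedBy Ω t), g * r * g⁻¹ ∈ T ⊓ W G (fixedBy Ω t) :=
    fun g hg r hr => ⟨T.mul_mem (T.mul_mem hg hr.1) (T.inv_mem hg), conj_mem_W (hTC hg) hr.2⟩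
  obtain ⟨w, hw, w2, hw1⟩ := exists_w1 (R := T ⊓ W G (fixedBy Ω t)) hT inf_le_left nR ht
    ⟨tT, self_mem_W t⟩ (fun r hr => winv r hr.2) (by
      obtain ⟨a, -, b, hb, -, h1⟩ := dec2 s sT hV.s2 hV.ts.symm x hV.tx hV.sx
      exact ⟨b, hb, h1⟩)
  -- `T` is a Sylow subgroup of `G`
  have hidx : ¬ 2 ∣ T.index := by
    obtain ⟨P, hP⟩ := hT.exists_le_sylow
    by_cases hle : (P : Subgroup G) ≤ T
    · rw [le_antisymm hP hle]
      exact P.not_dvd_index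
    obtain ⟨g, hg, hgT, hgn⟩ := Inv.exists_mem_normalizer_of_lt P.2 hP hle
    have h1 : g * t * g⁻¹ ≠ t := fun e =>
      hgT (hmax P P.2 hP g hg (mem_St_fix (mul_inv_eq_iff_eq_mul.1 e)))
    have h2 : ∀ r ∈ T, Commute r (g * t * g⁻¹) := fun r hr => by
      have h3 : g⁻¹ * r * g ∈ T := (mem_normalizer_iff.1 hgn _).2 (by
        rwa [show g * (g⁻¹ * r * g) * g⁻¹ = r by group])
      have h5 := (cen _ (hTC h3)).eq
      calc r * (g * t * g⁻¹) = g * (g⁻¹ * r * g * t) * g⁻¹ := by group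
        _ = g * t * g⁻¹ * r := by rw [h5]; group
    exact (sl1_sq h ht hy h4 hm hK nc (isConj_iff.2 ⟨g, rfl⟩) h1 (h2 t tT).symm (h2 w hw.1) w2).elim
  -- the conjugate `u` of `t` in `T`
  obtain ⟨u, uT, c1, c2⟩ : ∃ u ∈ T, IsConj t u ∧ u ≠ t := by
    obtain ⟨v, v1, v2, v3⟩ := h.zstar ht
    obtain ⟨k, hk⟩ := isConj_iff.1 v1
    obtain ⟨c, hc, e⟩ := hconj v (mem_St_fix v3) (by
      rw [← hk, show k * t * k⁻¹ * (k * t * k⁻¹) = k * (t * t) * k⁻¹ by group, t2]; group)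
    refine ⟨_, e, v1.trans (isConj_iff.2 ⟨c, rfl⟩), fun e' => v2 ?_⟩
    calc v = c⁻¹ * (c * v * c⁻¹ * c) := by group
      _ = t := by rw [e', ← (cen c hc).eq, inv_mul_cancel_left]
  have csq : ∀ {a b : G}, IsConj a b → a * a = 1 → b * b = 1 := fun {a b} e a2 => by
    obtain ⟨k, rfl⟩ := isConj_iff.1 e
    rw [show k * a * k⁻¹ * (k * a * k⁻¹) = k * (a * a) * k⁻¹ by group, a2]; group
  have u2 := csq c1 t2
  have iu : u⁻¹ = u := inv_eq_of_mul_eq_one_right u2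
  have c3 : Commute u t := cen u (hTC uT)
  have fu := nc u c1 c2 c3
  have hR := sl1_card h ht hy h4 hm hK nc c1 c2 c3 (R := T ⊓ W G (fixedBy Ω t))
    (hT.to_le inf_le_left) inf_le_right (nR u uT)
  have mR : ∀ r ∈ T ⊓ W G (fixedBy Ω t), r = 1 ∨ r = t ∨ r = w ∨ r = w * t :=
    fun r hr => mem_four hR hw w2 ht hr
  have wi : w⁻¹ = w * t := by
    rw [inv_eq_iff_mul_eq_one, ← mul_assoc, w2, t2]
  have uw : u * w * u⁻¹ = w⁻¹ := (hw1 u uT).resolve_left fun e =>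
    sl1_sq h ht hy h4 hm hK nc c1 c2 c3 (r := w) (mul_inv_eq_iff_eq_mul.1 e).symm w2
  have wt : Commute w t := cen w (hTC hw.1)
  obtain ⟨χ, C, _, ψ, hcyc, hLW, hf⟩ := lt.chi h4
  have hu := hf ⟨u, hTC uT⟩ (by rw [u2]; exact one_mem _) fu
  -- fixed point free involutions of `T`
  have fpf : ∀ e ∈ T, e * e = 1 → (∀ c, t • c = c → e • c ≠ c) →
      e * u ∈ S.L (fixedBy Ω t) ∨ e * u * w ∈ S.L (fixedBy Ω t) := fun e he e2 fe => by
    have h1 := hf ⟨e, hTC he⟩ (by rw [e2]; exact one_mem _) fe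
    obtain ⟨a, ha, b, hb, e3⟩ := dec (e * u) (mul_mem he uT)
      ((hLW (⟨e, hTC he⟩ * ⟨u, hTC uT⟩)).2 (by rw [map_mul, map_mul, h1.1, h1.2, hu.1, hu.2]; simp))
    rw [e3]
    rcases mR b hb with e4 | e4 | e4 | e4 <;> rw [e4]
    · exact Or.inl (by rw [mul_one]; exact ha.2)
    · exact Or.inl (mul_mem ha.2 hm)
    · exact Or.inr (by rw [mul_assoc, w2]; exact mul_mem ha.2 hm)
    · exact Or.inr (by rw [← wi, inv_mul_cancel_right]; exact ha.2)
  obtain ⟨z, hz⟩ := nt.nonempty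
  have hcu : ∀ g ∈ T, g * u * g⁻¹ * u ∈ S.L (fixedBy Ω t) := fun g hg => by
    have eT : g * u * g⁻¹ ∈ T := mul_mem (mul_mem hg uT) (inv_mem hg)
    have e1 : IsConj t (g * u * g⁻¹) := c1.trans (isConj_iff.2 ⟨g, rfl⟩)
    have e2 : g * u * g⁻¹ ≠ t := fun e => c2 (by
      calc u = g⁻¹ * (g * u * g⁻¹ * g) := by group
        _ = t := by rw [e, ← (cen g (hTC hg)).eq, inv_mul_cancel_left])
    have fe := nc _ e1 e2 (cen _ (hTC eT))
    have e3 := csq e1 t2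
    generalize g * u * g⁻¹ = e at eT e1 e2 fe e3
    refine (fpf e eT e3 fe).resolve_right fun h1 => ?_
    have uw2 : u * w * (u * w) = 1 := by
      calc u * w * (u * w) = u * w * u⁻¹ * w := by rw [iu]; group
        _ = 1 := by rw [uw, inv_mul_cancel]
    have fw : ∀ c : Ω, t • c = c → (u * w) • c ≠ c := fun c hc => by
      rw [mul_smul, mem_W.1 hw.2 c hc]
      exact fu c hc
    have hemp : ∀ a : G, (∀ c : Ω, t • c = c → a • c ≠ c) → (fixedBy Ω t ∩ fixedBy Ω a).ncard ≤ 2 :=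
      fun a ha => by
        rw [show fixedBy Ω t ∩ fixedBy Ω a = ∅ from
          Set.eq_empty_of_forall_notMem fun c hc => ha c hc.1 hc.2]
        simp
    have hSt : u * w ∈ St G (fixedBy Ω t) := hTC (mul_mem uT hw.1)
    obtain ⟨k, hk, h2⟩ := lt.d2 (hTC eT) hSt (by rw [e3]; exact one_mem _)
      (by rw [uw2]; exact one_mem _) (fun h2 => fe z hz (mem_W.1 h2 z hz))
      (fun h2 => fw z hz (mem_W.1 h2 z hz)) (hemp _ fe) (hemp _ fw)
      (by rw [← mul_assoc]; exact mem_sup_left h1)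
    have h3 : k * e * k⁻¹ * (u * w)⁻¹ ∈ S.L (fixedBy Ω t) := by
      have h5 := mul_mem (mul_mem hk h1) (Sp.conj_mem_L hSt (inv_mem hk))
      have h6 : (u * w)⁻¹ = u * w := inv_eq_of_mul_eq_one_right uw2
      have h7 : k * (e * u * w) * (u * w * k⁻¹ * (u * w)⁻¹) =
          k * e * (u * w * (u * w)) * k⁻¹ * (u * w)⁻¹ := by group
      rwa [h7, uw2, mul_one] at h5
    have e4 : IsConj t (k * e * k⁻¹) := e1.trans (isConj_iff.2 ⟨k, rfl⟩)
    rcases lw _ h3 h2 with h5 | h5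
    · rw [mul_inv_eq_one.1 h5] at e4
      exact sl1_not h ht hy h4 hm hK nc c1 c2 c3 hw.2 w2 uw e4
    · rw [mul_inv_eq_iff_eq_mul.1 h5, ← mul_assoc, ← c3.eq, mul_assoc, ← wt.eq, ← wi] at e4
      refine sl1_not h ht hy h4 hm hK nc c1 c2 c3 (inv_mem hw.2) ?_ ?_ e4
      · rw [← mul_inv_rev, w2, inv_eq_of_mul_eq_one_right t2]
      · rw [show u * w⁻¹ * u⁻¹ = (u * w * u⁻¹)⁻¹ by group, uw]
  -- the normal subgroup `K`
  let K : Subgroup T := (ext (S.L (fixedBy Ω t)) u u2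
    fun l hl => Sp.conj_mem_L (hTC uT) hl).subgroupOf T
  have mK : ∀ g : T, g ∈ K ↔ (g : G) ∈ S.L (fixedBy Ω t) ∨ (g : G) * u ∈ S.L (fixedBy Ω t) :=
    fun g => Iff.rfl
  haveI : K.Normal := ⟨fun k hk g => by
    rw [mK] at hk ⊢
    rcases hk with hk | hk
    · exact Or.inl (Sp.conj_mem_L (hTC g.2) hk)
    · refine Or.inr ?_
      have h1 := mul_mem (Sp.conj_mem_L (hTC g.2) hk) (hcu g g.2)
      have h2 : (g : G) * (k * u) * (g : G)⁻¹ * (g * u * (g : G)⁻¹ * u) =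
          g * k * (u * u) * (g : G)⁻¹ * u := by group
      rwa [h2, u2, mul_one] at h1⟩
  let π := QuotientGroup.mk' K
  have πL : ∀ g : T, (g : G) ∈ S.L (fixedBy Ω t) → π g = 1 := fun g hg =>
    (QuotientGroup.eq_one_iff g).2 ((mK g).2 (Or.inl hg))
  have πu : π ⟨u, uT⟩ = 1 :=
    (QuotientGroup.eq_one_iff _).2 ((mK _).2 (Or.inr (by rw [u2]; exact one_mem _)))
  have πt : π ⟨t, tT⟩ = 1 := πL _ hm
  have πw : π ⟨w, hw.1⟩ ≠ 1 := fun e => by
    rcases (mK _).1 ((QuotientGroup.eq_one_iff _).1 e) with h1 | h1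
    · rcases lw w h1 hw.2 with h2 | h2
      · exact t1 (by rw [← w2, h2, one_mul])
      · exact t1 (by rw [← w2, h2, t2])
    · have h2 := ((hLW (⟨w, hTC hw.1⟩ * ⟨u, hTC uT⟩)).1 (mem_sup_left h1)).2
      rw [map_mul, ((hLW ⟨w, hTC hw.1⟩).1 (mem_sup_right hw.2)).2, hu.1] at h2
      simp at h2
  have πR : ∀ b (hb : b ∈ T ⊓ W G (fixedBy Ω t)),
      ((b = 1 ∨ b = t) ∧ π ⟨b, hb.1⟩ = 1) ∨ π ⟨b, hb.1⟩ = π ⟨w, hw.1⟩ := fun b hb => by
    rcases mR b hb with e | e | e | e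
    · exact Or.inl ⟨Or.inl e, πL _ (show b ∈ _ by rw [e]; exact one_mem _)⟩
    · exact Or.inl ⟨Or.inr e, πL _ (show b ∈ _ by rw [e]; exact hm)⟩
    · exact Or.inr (by subst e; rfl)
    · refine Or.inr ?_
      rw [show (⟨b, hb.1⟩ : T) = ⟨w, hw.1⟩ * ⟨t, tT⟩ from Subtype.ext e, map_mul, πt, mul_one]
  have wc : π ⟨w, hw.1⟩ ∈ center (T ⧸ K) := mem_center_iff.2 fun q => by
    obtain ⟨g, rfl⟩ := QuotientGroup.mk'_surjective K q
    rw [← mul_inv_eq_iff_eq_mul, ← map_inv, ← map_mul, ← map_mul]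
    rcases hw1 g g.2 with e | e
    · exact congrArg π (Subtype.ext e)
    · rw [show g * ⟨w, hw.1⟩ * g⁻¹ = ⟨w, hw.1⟩ * ⟨t, tT⟩ from Subtype.ext (e.trans wi), map_mul, πt,
        mul_one]
  have πLW : ∀ g : T, (g : G) ∈ S.L (fixedBy Ω t) ⊔ W G (fixedBy Ω t) → π g ∈ center (T ⧸ K) :=
    fun g hg => by
    obtain ⟨a, ha, b, hb, e⟩ := dec g g.2 hg
    rw [show g = ⟨a, ha.1⟩ * ⟨b, hb.1⟩ from Subtype.ext e, map_mul, πL _ ha.2, one_mul]
    rcases πR b hb with e | e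
    · rw [e.2]; exact one_mem _
    · rw [e]; exact wc
  let ψ' : T →* C := ψ.comp (inclusion hTC)
  have hker : K ≤ ψ'.ker := fun g hg => by
    rcases (mK g).1 hg with h1 | h1
    · exact ((hLW ⟨g, hTC g.2⟩).1 (mem_sup_left h1)).1
    · have h2 := ((hLW (⟨g, hTC g.2⟩ * ⟨u, hTC uT⟩)).1 (mem_sup_left h1)).1
      rw [map_mul, hu.2, mul_one] at h2
      exact h2
  have hcomm : ∀ a b : T ⧸ K, a * b = b * a :=
    commutative_of_cyclic_center_quotient (QuotientGroup.lift K ψ' hker) fun q hq => by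
      obtain ⟨g, rfl⟩ := QuotientGroup.mk'_surjective K q
      have h1 : ψ ⟨g, hTC g.2⟩ = 1 := hq
      rcases Int.units_eq_one_or (χ ⟨g, hTC g.2⟩) with e | e
      · exact πLW g ((hLW ⟨g, hTC g.2⟩).2 ⟨h1, e⟩)
      · have h2 := πLW (g * ⟨u, uT⟩) ((hLW (⟨g, hTC g.2⟩ * ⟨u, hTC uT⟩)).2
          (by rw [map_mul, map_mul, h1, e, hu.1, hu.2]; simp))
        rwa [map_mul, πu, mul_one] at h2
  letI : CommGroup (T ⧸ K) := { (inferInstance : Group (T ⧸ K)) with mul_comm := hcomm }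
  refine πw (h.gt hidx π s2 fun v hv => ?_)
  have st : ¬ IsConj t v := fun e =>
    nc s (e.trans hv.symm) hV.ts.symm hV.comm.symm x hV.tx hV.sx
  have v2 := csq hv s2
  have v1 : (v : G) ≠ 1 := fun e => ne_one hV.s2 (by rw [e] at hv; simpa using hv)
  by_cases hfix : ∃ c : Ω, t • c = c ∧ (v : G) • c = c
  · obtain ⟨c, tc, vc⟩ := hfix
    obtain ⟨a, ha, b, hb, e, b1, bt⟩ := dec2 v v.2 (ord_two v2 v1) (fun e => st (by rw [e])) c tc vc
    rw [show v = ⟨a, ha.1⟩ * ⟨b, hb.1⟩ from Subtype.ext e, map_mul, πL _ ha.2, one_mul]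
    exact (πR b hb).resolve_left fun e => e.1.elim b1 bt
  · push Not at hfix
    have e0 : (v : G) * u * u = v := by rw [mul_assoc, u2, mul_one]
    rcases fpf v v.2 v2 hfix with h1 | h1
    · exact (st (e0 ▸ sl1_conj h ht hy h4 hm hK nc c1 c2 c3 h1 (by rw [e0, v2]))).elim
    · have h2 := πL (v * ⟨u, uT⟩ * ⟨w, hw.1⟩) h1
      rw [map_mul, map_mul, πu, mul_one, mul_eq_one_iff_eq_inv, ← map_inv,
        show (⟨w, hw.1⟩ : T)⁻¹ = ⟨w, hw.1⟩ * ⟨t, tT⟩ from Subtype.ext wi, map_mul, πt, mul_one] at h2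
      exact h2

end Cfsg.Agent.HKS
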