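import Mathlib
import Cfsg.Agent.HKS.SLc
import Cfsg.Agent.HKS.LFB
import Cfsg.Agent.HKS.LFE

/-! Piece SL3: type `SL₂(q)`, `q ≡ 3 (mod 4)`, with a four-group -/

set_option autoImplicit false
set_option linter.unusedSectionVars false

namespace Cfsg.Agent.HKS

open Subgroup MulAction Cfsg.Agent.TT Cfsg.Agent.Perm.TT Cfsg.Agent.Cl.L2
open Cfsg.Agent.KS (St)
open scoped MatrixGroups Pointwise commutatorElement

variable {G Ω : Type*} [Group G] [MulAction G Ω] [Finite G] [Finite Ω] {S : Sp G Ω}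
  {Δ Δ' : Set Ω} {x y : Ω}

/-- A Sylow 2-subgroup of a subgroup of odd index through a given involution. -/
theorem sl3_syl {C : Subgroup G} (hC : ¬ 2 ∣ C.index) {s : G} (hs : s ∈ C) (h2 : El2 s) :
    ∃ T ≤ C, IsPGroup 2 T ∧ s ∈ T ∧ ¬ 2 ∣ T.index ∧ ∀ g ∈ C, El2 g → ∃ c ∈ C, c * g * c⁻¹ ∈ T := by
  have key : ∀ g : C, El2 (g : G) → ∃ P : Sylow 2 C, g ∈ (P : Subgroup C) := fun g ⟨k, hk⟩ => by
    have : IsPGroup 2 (zpowers g) := by
      rintro ⟨_, i, rfl⟩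
      refine ⟨k, Subtype.ext (Subtype.ext ?_)⟩
      change ((g : G) ^ i) ^ 2 ^ k = 1
      rw [← zpow_natCast, ← zpow_mul, mul_comm, zpow_mul, zpow_natCast, hk, one_zpow]
    obtain ⟨P, hP⟩ := this.exists_le_sylow
    exact ⟨P, hP (mem_zpowers g)⟩
  obtain ⟨P, hP⟩ := key ⟨s, hs⟩ h2
  refine ⟨P.1.map C.subtype, map_subtype_le _, P.2.map _, ⟨_, hP, rfl⟩, ?_, fun g hg g2 => ?_⟩
  · rw [index_map_subtype]
    exact fun k => (Nat.prime_two.dvd_mul.1 k).elim P.not_dvd_index hC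
  · obtain ⟨Q, hQ⟩ := key ⟨g, hg⟩ g2
    obtain ⟨c, rfl⟩ := exists_smul_eq C Q P
    exact ⟨c, c.2, _, smul_mem_pointwise_smul _ (MulAut.conj c) _ hQ, rfl⟩

theorem sl3_el2 {r t : G} (ht : t * t = 1) (e : r * r = t) : El2 r :=
  ⟨2, by rw [pow_two 2, pow_mul, pow_two, pow_two, e, ht]⟩

namespace Sp.SL3

variable {t w : G}

theorem sl3_nc (hs : S.SL3 t) {g : G} (h1 : g * t * g⁻¹ ≠ t) (h2 : Commute (g * t * g⁻¹) t) (c : Ω)
    (hc : (g * t * g⁻¹) • c = c) : t • c ≠ c :=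
  (hs.conj g).nc t (isConj_iff.2 ⟨g, rfl⟩).symm h1.symm h2.symm c hc

/-- An involution with a fixed point on the axis does not centralize a square root of `t` in `W`. -/
theorem sl3_a (h : S.Ctx) (hs : S.SL3 t) (hA : S.AL) (hK : K1 G Ω) (hw : w ∈ W G (fixedBy Ω t))
    (w2 : w * w = t) {s : G} (s2 : orderOf s = 2) (hne : t ≠ s) (hc : Commute t s) (tx : t • x = x)
    (sx : s • x = x) : ¬ Commute w s := fun k => by
  obtain ⟨y, hV⟩ := h.exists_V4 hs.two s2 hc hne tx sx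
  have hL := h.lt (hA s s2 ⟨x, sx⟩)
  have h4 : (fixedBy Ω s).ncard % 4 = 0 := by rw [← h.par s2, h.par hs.two, hs.q4]
  have hW : t ∈ W G (fixedBy Ω s) := by
    rcases hL.b3 h4 (mem_St_fix k) (sl3_el2 (mul_self_two hs.two) w2) (x := x) (y := y) sx hV.sy hV.ne
      (mem_W.1 hw x tx) (mem_W.1 hw y hV.ty) with e | e
    · exact w2 ▸ mul_mem e e
    · refine hL.cl.mem_W (x := x) (y := y) sx hV.sy hV.ne tx hV.ty fun u hu => ?_
      refine (mul_inv_eq_iff_eq_mul.1 ?_).symm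
      calc t * u * t⁻¹ = w * (w * u * w⁻¹) * w⁻¹ := by rw [← w2]; group
        _ = u := by rw [e u hu, e _ (inv_mem hu), inv_inv]
  have h1 := hK s t s2 hs.two hc.symm hne.symm
  rw [Set.inter_eq_left.2 (show fixedBy Ω s ⊆ fixedBy Ω t from fun c hc => mem_W.1 hW c hc)] at h1
  have := hL.four
  omega

theorem sl3_form (h : S.Ctx) (hs : S.SL3 t) (hA : S.AL) (hK : K1 G Ω) (hw : w ∈ W G (fixedBy Ω t))
    (w2 : w * w = t) {e : G} (e2 : orderOf e = 2) (hne : t ≠ e) (hc : Commute t e) (k : Commute w e) :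
    ∃ l ∈ S.L (fixedBy Ω t), l * l = t ∧ e = l * w := by
  have t2 := mul_self_two hs.two
  obtain ⟨l, hl, r, hr, rfl, l2, r2⟩ := hs.dec h hc.symm (mul_self_two e2)
    fun c tc ec => hs.sl3_a h hA hK hw w2 e2 hne hc tc ec k
  have c1 : Commute l w := commute_L_W (h.lt hs.ty).nontrivial hl hw
  have c2 : Commute r w := by
    have := c1.inv_left.mul_left k.symm
    rwa [inv_mul_cancel_left] at this
  have c3 : Commute l t := l2 ▸ (Commute.refl l).mul_right (Commute.refl l)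
  rcases hs.r1 (r * w) (mul_mem hr hw) (by rw [← pow_two, c2.mul_pow, pow_two, pow_two, r2, w2, t2]) with e | e
  · refine ⟨l * t, mul_mem hl hs.mem, by rw [← pow_two, c3.mul_pow, pow_two, pow_two, l2, t2, mul_one], ?_⟩
    rw [mul_assoc, eq_inv_of_mul_eq_one_left e]
    congr 1
    exact inv_eq_of_mul_eq_one_left (by rw [mul_assoc, w2, t2])
  · exact ⟨l, hl, l2, by rw [mul_right_cancel (e.trans w2.symm)]⟩

end Sp.SL3

theorem Sp.SL3.no_four {t s : G} (h : S.Ctx) (hs : S.SL3 t) (hA : S.AL) (hK : K1 G Ω)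
    (hV : V4 x y t s) : False := by
  have t2 := mul_self_two hs.two
  have t1 : t ≠ 1 := fun e => by have := hs.two; rw [e, orderOf_one] at this; omega
  have hL := h.lt hs.ty
  have cm : ∀ {g : G}, g ∈ centralizer ({t} : Set G) ↔ Commute g t := mem_centralizer_singleton_iff
  obtain ⟨T, hTC, hT, hsT, hodd, hcj⟩ := sl3_syl (hs.central h) (cm.2 hV.comm.symm) ⟨1, by
    rw [pow_one, pow_two, mul_self_two hV.s2]⟩
  have ct : ∀ {c : G}, c ∈ centralizer ({t} : Set G) → c * t * c⁻¹ = t := fun hc =>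
    mul_inv_eq_iff_eq_mul.2 (cm.1 hc)
  have htT : t ∈ T := by
    obtain ⟨c, hc, k⟩ := hcj t (cm.2 (Commute.refl t)) ⟨1, by rw [pow_one, pow_two, t2]⟩
    rwa [ct hc] at k
  obtain ⟨t', h1, h2, h3⟩ := h.zstar hs.two
  obtain ⟨g, rfl⟩ := isConj_iff.1 h1
  have g2 : orderOf (g * t * g⁻¹) = 2 := (Basic.ord g t).trans hs.two
  obtain ⟨w, hw, w2, hwT⟩ := exists_w1 (R := T ⊓ W G (fixedBy Ω t)) hT inf_le_left
    (fun a ha r hr => ⟨T.mul_mem (T.mul_mem ha hr.1) (T.inv_mem ha), conj_mem_W (mem_St_fix (cm.1 (hTC ha))) hr.2⟩)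
    hs.two ⟨htT, self_mem_W t⟩ (fun r hr => hs.r1 r hr.2) (by
      obtain ⟨l, -, r, hr, -, -, r2⟩ := hs.dec h h3 (mul_self_two g2) (hs.nc _ h1 h2 h3)
      obtain ⟨c, hc, k⟩ := hcj r (cm.2 (r2 ▸ (Commute.refl r).mul_right (Commute.refl r))) (sl3_el2 t2 r2)
      have e : c * r * c⁻¹ * (c * r * c⁻¹) = t := by rw [conj_mul, r2, ct hc]
      refine ⟨_, ⟨k, conj_mem_W (mem_St_fix (cm.1 hc)) hr⟩, fun e1 => ?_, fun e1 => ?_⟩
      · rw [e1, one_mul] at e; exact t1 e.symm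
      · rw [e1, t2] at e; exact t1 e.symm)
  have hsw := hs.sl3_a h hA hK hw.2 w2 hV.s2 hV.ts hV.comm hV.tx hV.sx
  have cw : ∀ {a : G}, a * w * a⁻¹ = w ↔ Commute w a := mul_inv_eq_iff_eq_mul.trans eq_comm
  have sw := (hwT s hsT).resolve_left fun e => hsw (cw.1 e)
  have ww : w⁻¹ ≠ w := fun e => t1 (by rw [← w2]; nth_rw 1 [← e]; exact inv_mul_cancel w)
  have hidx : (centralizer ({w} : Set G) ⊓ T).relIndex T = 2 := by
    rw [inf_relIndex_right, relIndex_eq_two_iff]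
    refine ⟨s, hsT, fun b hb => ?_⟩
    have e : ∀ a : G, a ∈ centralizer ({w} : Set G) ↔ a * w * a⁻¹ = w := fun a =>
      mem_centralizer_singleton_iff.trans mul_inv_eq_iff_eq_mul.symm
    have e1 : b * s * w * (b * s)⁻¹ = (b * w * b⁻¹)⁻¹ := by
      calc _ = b * (s * w * s⁻¹) * b⁻¹ := by group
        _ = _ := by rw [sw]; group
    rw [e, e, e1]
    rcases hwT b hb with k | k <;> rw [k]
    · exact Or.inr ⟨rfl, ww⟩
    · exact Or.inl ⟨inv_inv w, ww⟩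
  obtain ⟨l', hl', r', hr', e', l2, -⟩ := (hs.conj g).dec h h3.symm t2 (hs.sl3_nc h2 h3)
  have c1 : Commute l' t := e' ▸ (Commute.refl l').mul_right
    (commute_L_W (h.lt (hs.conj g).ty).nontrivial hl' hr')
  obtain ⟨c, hc, k⟩ := hcj l' (cm.2 c1) (sl3_el2 (mul_self_two g2) l2)
  obtain ⟨l₁, hl₁, m₁, e₁⟩ := hs.sl3_form h hA hK hw.2 w2 (e := c * (g * t * g⁻¹) * c⁻¹)
    ((Basic.ord _ _).trans g2) (fun e => h2 (mul_left_cancel (mul_right_cancel ((ct hc).trans e))).symm)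
    (by nth_rw 1 [← ct hc]; exact Basic.cm.2 h3.symm) (by
      rw [← l2, ← conj_mul, ← cw]
      generalize c * l' * c⁻¹ = a at k
      have e : a * a * w * (a * a)⁻¹ = a * (a * w * a⁻¹) * a⁻¹ := by group
      rcases hwT a k with k1 | k1
      · rw [e, k1, k1]
      · rw [e, k1, ← conj_inv, k1, inv_inv])
  obtain ⟨a, ha, haT⟩ := h.thompson hodd hidx (mul_self_two hV.s2)
  refine hs.nc s ?_ hV.ts.symm hV.comm.symm x hV.tx hV.sx
  refine IsConj.trans ?_ (isConj_iff.2 ⟨a, rfl⟩).symm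
  by_cases e : t = a * s * a⁻¹
  · exact e ▸ IsConj.refl t
  obtain ⟨l₂, hl₂, m₂, e₂⟩ := hs.sl3_form h hA hK hw.2 w2 ((Basic.ord a s).trans hV.s2) e
    (cm.1 (hTC haT)).symm (show Commute (a * s * a⁻¹) w from mem_centralizer_singleton_iff.1 ha).symm
  obtain ⟨b, hb, e₃⟩ := hL.b5 hs.mem (self_mem_W t) hs.two hl₁ hl₂ m₁ m₂
  refine (h1.trans (isConj_iff.2 ⟨c, rfl⟩)).trans (isConj_iff.2 ⟨b, ?_⟩)
  rw [e₁, e₂, ← e₃, ← conj_mul, cw.2 (commute_L_W hL.nontrivial hb hw.2).symm]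

end Cfsg.Agent.HKS
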