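import Mathlib
import Cfsg.Agent.HKS.D4a
import Cfsg.Agent.HKS.D4b
import Cfsg.Agent.HKS.PSL13
import Cfsg.Agent.HKS.SL3
import Cfsg.Agent.HKS.SL1b

/-! Four-groups have no fixed points -/

set_option autoImplicit false

namespace Cfsg.Agent.HKS

open Subgroup MulAction Cfsg.Agent.TT Cfsg.Agent.Perm.TT Cfsg.Agent.Cl.L2
open Cfsg.Agent.KS (St)
open scoped MatrixGroups Pointwise commutatorElement

variable {G Ω : Type*} [Group G] [MulAction G Ω] [Finite G] [Finite Ω] {S : Sp G Ω}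
  {Δ Δ' : Set Ω} {x y : Ω}

theorem Sp.Ctx.n4 (h : S.Ctx) (hA : S.AL) : N4 G Ω := by
  have hK := h.k1 hA
  intro a b ha hb hab hne c ac bc
  obtain ⟨y, hV⟩ := h.exists_V4 ha hb hab hne ac bc
  obtain ⟨t, s, hc, hz⟩ := h.exists_cen hA hK hV
  have hy := hA t hc.t2 ⟨c, hc.tx⟩
  have h2 : (fixedBy Ω t).ncard % 4 = 0 ∨ (fixedBy Ω t).ncard % 4 = 2 := by
    obtain ⟨k, hk⟩ := h.even_fix hc.t2
    omega
  by_cases ht : t ∈ S.L (fixedBy Ω t)
  · rcases h2 with h4 | h4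
    · exact (hc.sl3 h ht h4).no_four h hA hK hc.toV4
    · exact h.sl1 hc.toV4 hy h4 ht hK (hc.nc h)
  · rcases h2 with h4 | h4
    · exact hc.psl3 h ht h4 hz
    · exact hc.psl1 h ht h4

end Cfsg.Agent.HKS
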