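import Mathlib
import Cfsg.Agent.HKS.A
import Cfsg.Agent.HKS.D4
import Cfsg.Agent.HKS.C2a
import Cfsg.Agent.FG.ClassCount
import Cfsg.Agent.Perm.TwoCount

/-! Piece E8: Sylow 2-subgroups elementary abelian of order eight -/

set_option autoImplicit false

namespace Cfsg.Agent.HKS

open Subgroup MulAction Cfsg.Agent.TT Cfsg.Agent.Perm.TT Cfsg.Agent.Cl.L2
open Cfsg.Agent.KS (St)
open scoped MatrixGroups Pointwise commutatorElement

variable {G Ω : Type*} [Group G] [MulAction G Ω] [Finite G] [Finite Ω] {S : Sp G Ω}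
  {Δ Δ' : Set Ω} {x y : Ω}

namespace E8

open SL1b

omit [Finite G] in
theorem comm_of_sq {R : Subgroup G} (h : ∀ g ∈ R, g * g = 1) {a b : G} (ha : a ∈ R) (hb : b ∈ R) :
    Commute a b := by
  have ia : a⁻¹ = a := inv_eq_of_mul_eq_one_right (h a ha)
  have ib : b⁻¹ = b := inv_eq_of_mul_eq_one_right (h b hb)
  have := inv_eq_of_mul_eq_one_right (h _ (mul_mem ha hb))
  rw [mul_inv_rev, ia, ib] at this
  exact this.symm

omit [Finite G] in
theorem conj_sq {a : G} (k : G) (h : a * a = 1) : k * a * k⁻¹ * (k * a * k⁻¹) = 1 := by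
  rw [show k * a * k⁻¹ * (k * a * k⁻¹) = k * (a * a) * k⁻¹ by group, h]; group

theorem conj_into (P : Sylow 2 G) {R : Subgroup G} (hR : IsPGroup 2 R) :
    ∃ g : G, ∀ r ∈ R, g * r * g⁻¹ ∈ (P : Subgroup G) := by
  obtain ⟨Q, hQ⟩ := hR.exists_le_sylow
  obtain ⟨g, hg⟩ := MulAction.exists_smul_eq G Q P
  refine ⟨g, fun r hr => ?_⟩
  rw [← hg]
  exact Subgroup.smul_mem_pointwise_smul _ (MulAut.conj g) _ (hQ hr)

theorem two_sub (P : Sylow 2 G) (h8 : Nat.card (P : Subgroup G) = 8)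
    (hsq : ∀ g ∈ (P : Subgroup G), g * g = 1) {R : Subgroup G} (hR : IsPGroup 2 R) :
    Nat.card R ≤ 8 ∧ ∀ r ∈ R, r * r = 1 := by
  obtain ⟨g, hg⟩ := conj_into P hR
  refine ⟨?_, fun r hr => ?_⟩
  · rw [← h8]
    refine Nat.card_le_card_of_injective (fun r : R => (⟨_, hg r r.2⟩ : (P : Subgroup G)))
      fun a b e => Subtype.ext ?_
    simpa using congrArg Subtype.val e
  · have := conj_sq g⁻¹ (hsq _ (hg r hr))
    simpa [mul_assoc] using this

omit [Finite G] in
theorem pg_of_sq {R : Subgroup G} (h : ∀ g ∈ R, g * g = 1) : IsPGroup 2 R :=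
  fun g => ⟨1, Subtype.ext (by rw [pow_one, pow_two]; exact h g g.2)⟩

omit [Finite G] in
theorem pg_sup {N : Subgroup G} (h : ∀ g ∈ N, g * g = 1) {t : G} (t2 : t * t = 1)
    (hc : ∀ n ∈ N, Commute n t) : IsPGroup 2 ↥(N ⊔ zpowers t) := by
  refine (pg_of_sq h).to_sup_of_normal_left' (pg_zpowers t2) ?_
  rw [zpowers_le]
  exact Subgroup.centralizer_le_normalizer _ (mem_centralizer_iff.2 fun n hn => (hc n hn).eq)

theorem lt_sup_card {N : Subgroup G} {t : G} (hn : t ∉ N) : Nat.card N < Nat.card ↥(N ⊔ zpowers t) := by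
  have h1 : (N : Set G) ⊂ (N ⊔ zpowers t : Subgroup G) :=
    ⟨fun a ha => mem_sup_left ha, fun h => hn (h (mem_sup_right (mem_zpowers t)))⟩
  exact Set.ncard_lt_ncard h1

/-- The normalizer of the Sylow subgroup is transitive on its involutions. -/
theorem trans (P : Sylow 2 G) (h8 : Nat.card (P : Subgroup G) = 8)
    (hsq : ∀ g ∈ (P : Subgroup G), g * g = 1)
    (hz : ∀ t : G, orderOf t = 2 → ∃ t', IsConj t t' ∧ t' ≠ t ∧ Commute t' t) {a b : G}
    (ha : a ∈ (P : Subgroup G)) (hb : b ∈ (P : Subgroup G)) (a1 : a ≠ 1) (b1 : b ≠ 1) :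
    ∃ n ∈ normalizer ((P : Subgroup G) : Set G), n * a * n⁻¹ = b := by
  classical
  set N := normalizer ((P : Subgroup G) : Set G) with hN
  haveI : IsMulCommutative (P : Subgroup G) :=
    ⟨⟨fun a b => Subtype.ext (comm_of_sq hsq a.2 b.2).eq⟩⟩
  let O : G → Set G := fun a => {y | ∃ h ∈ N, h * a * h⁻¹ = y}
  let Z : Set G := (P : Subgroup G) \ {1}
  have hZ : Z.ncard = 7 := by
    have h1 := Set.ncard_diff_singleton_add_one (s := ((P : Subgroup G) : Set G)) (P.1.one_mem)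
    have h2 : ((P : Subgroup G) : Set G).ncard = Nat.card (P : Subgroup G) := rfl
    have h3 : Z.ncard + 1 = 8 := h1.trans (h2.trans h8)
    omega
  have hO : ∀ a ∈ Z, O a ⊆ Z ∧ (O a).ncard % 2 = 1 ∧ 2 ≤ (O a).ncard := fun a ha => by
    have aP : a ∈ (P : Subgroup G) := ha.1
    have hle : (P : Subgroup G) ≤ centralizer {a} := fun g hg =>
      mem_centralizer_singleton_iff.2 (comm_of_sq hsq hg aP).eq
    refine ⟨?_, ?_, ?_⟩
    · rintro _ ⟨n, hn, rfl⟩
      exact ⟨(mem_normalizer_iff.1 hn a).1 aP, fun e => ha.2 (by simpa using e)⟩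
    · rw [FG.ncard_conj_orbit_subgroup]
      have h1 := (relIndex_dvd_of_le_left N hle).trans
        (relIndex_dvd_index_of_le (H := (P : Subgroup G)) (K := N) le_normalizer)
      have h2 := P.not_dvd_index
      by_contra hc
      exact h2 (Dvd.dvd.trans (by omega) h1)
    · obtain ⟨v, v1, v2, v3⟩ := hz a (ord_two (hsq a aP) ha.2)
      obtain ⟨k, hk⟩ := isConj_iff.1 v1
      obtain ⟨Q, hQ⟩ := (pg_sup (N := zpowers v) (t := a) (by
        rintro _ ⟨i, rfl⟩
        have : v * v = 1 := hk ▸ conj_sq k (hsq a aP)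
        change v ^ i * v ^ i = 1
        rw [← (Commute.refl v).mul_zpow, this, one_zpow]) (hsq a aP) (by
        rintro _ ⟨i, rfl⟩
        exact v3.zpow_left i)).exists_le_sylow
      obtain ⟨g, hg⟩ := MulAction.exists_smul_eq G Q P
      have m : ∀ r ∈ (Q : Subgroup G), g * r * g⁻¹ ∈ (P : Subgroup G) := fun r hr => by
        rw [← hg]
        exact Subgroup.smul_mem_pointwise_smul _ (MulAut.conj g) _ hr
      obtain ⟨n, hn, e1⟩ := P.conj_eq_normalizer_conj_of_mem a g⁻¹ aP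
        (by rw [inv_inv]; exact m a (hQ (mem_sup_right (mem_zpowers a))))
      obtain ⟨n', hn', e2⟩ := P.conj_eq_normalizer_conj_of_mem a (g * k)⁻¹ aP (by
        rw [inv_inv, show g * k * a * (g * k)⁻¹ = g * (k * a * k⁻¹) * g⁻¹ by group, hk]
        exact m v (hQ (mem_sup_left (mem_zpowers v))))
      refine (Set.one_lt_ncard (Set.toFinite _)).2 ⟨_, ⟨n⁻¹, inv_mem hn, rfl⟩, _, ⟨n'⁻¹, inv_mem hn', rfl⟩,
        fun e => v2 ?_⟩
      simp only [inv_inv] at e e1 e2
      rw [← e1, ← e2, show g * k * a * (g * k)⁻¹ = g * (k * a * k⁻¹) * g⁻¹ by group, hk] at e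
      simpa using e.symm
  have hd : ∀ a b, b ∉ O a → Disjoint (O a) (O b) := fun a b hb => Set.disjoint_left.2 (by
    rintro _ ⟨n, hn, rfl⟩ ⟨m, hm, e⟩
    exact hb ⟨m⁻¹ * n, mul_mem (inv_mem hm) hn, by
      rw [show m⁻¹ * n * a * (m⁻¹ * n)⁻¹ = m⁻¹ * (n * a * n⁻¹) * m by group, ← e]; group⟩)
  by_contra hn
  have hb' : b ∉ O a := hn
  obtain ⟨s1, o1, l1⟩ := hO a ⟨ha, a1⟩
  obtain ⟨s2, o2, l2⟩ := hO b ⟨hb, b1⟩
  have u1 := Set.ncard_union_eq (hd a b hb')
  have u2 := Set.ncard_le_ncard (Set.union_subset s1 s2)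
  obtain ⟨c, hc, hc'⟩ : ∃ c ∈ Z, c ∉ O a ∪ O b := by
    by_contra h
    push Not at h
    have := Set.ncard_le_ncard (show Z ⊆ O a ∪ O b from h)
    omega
  obtain ⟨s3, o3, l3⟩ := hO c hc
  have u3 := Set.ncard_union_eq (Set.disjoint_union_left.2
    ⟨hd a c fun h => hc' (Or.inl h), hd b c fun h => hc' (Or.inr h)⟩)
  have u4 := Set.ncard_le_ncard (Set.union_subset (Set.union_subset s1 s2) s3)
  omega

theorem two_mul_dvd (h : S.Cl Δ) (h3 : 2 < Δ.ncard) {t : G} (ht : orderOf t = 2) (hS : t ∈ St G Δ)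
    (hx : x ∈ Δ) (tx : t • x = x) : 2 * Δ.ncard ∣ Nat.card G := by
  have h1 : orbit (St G Δ) x = Δ := by
    ext c
    refine ⟨?_, fun hc => ?_⟩
    · rintro ⟨g, rfl⟩
      exact KS.St.smul_mem g.2 hx
    · have nt : Δ.Nontrivial := Set.one_lt_ncard_iff_nontrivial.1 (by omega)
      obtain ⟨b, hb, bx⟩ := nt.exists_ne x
      obtain ⟨d, hd, dc⟩ := nt.exists_ne c
      obtain ⟨l, hl, e, -⟩ := h.two_trans h3 hx hb hc hd bx.symm dc.symm
      exact ⟨⟨l, Sp.L_le_St hl⟩, e⟩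
  have h2 := (stabilizer (St G Δ) x).card_mul_index
  rw [index_stabilizer, h1] at h2
  have h4 : 2 ∣ Nat.card (stabilizer (St G Δ) x) := by
    have := orderOf_dvd_natCard (⟨⟨t, hS⟩, tx⟩ : stabilizer (St G Δ) x)
    rwa [← Subgroup.orderOf_coe, ← Subgroup.orderOf_coe, ht] at this
  exact ((Nat.mul_dvd_mul_right h4 _).trans h2.dvd).trans (card_subgroup_dvd_card _)

end E8

open E8 SL1b

theorem Sp.Ctx.e8 (h : S.Ctx) (h8 : ES8 G) (he : HE G Ω) : ∃ q A, S.DR Set.univ q A := by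
  classical
  obtain ⟨P, h8, hsq⟩ := h8
  obtain ⟨t, ht, x, tx⟩ := he
  have tr := @trans G _ _ P h8 hsq fun t ht => h.zstar ht
  have sub := @two_sub G _ _ P h8 hsq
  have h16 : ¬ 16 ∣ Nat.card G := fun e => by
    rw [← (P : Subgroup G).card_mul_index, h8] at e
    exact P.not_dvd_index (by omega)
  have allc : ∀ a b : G, orderOf a = 2 → orderOf b = 2 → IsConj a b := fun a b ha hb => by
    obtain ⟨g, hg⟩ := conj_into P (pg_zpowers (sq_one ha))
    obtain ⟨k, hk⟩ := conj_into P (pg_zpowers (sq_one hb))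
    obtain ⟨n, -, e⟩ := tr (hg a (mem_zpowers a)) (hk b (mem_zpowers b))
      (by simpa using ne_one ha) (by simpa using ne_one hb)
    exact isConj_iff.2 ⟨k⁻¹ * n * g, by
      rw [show k⁻¹ * n * g * a * (k⁻¹ * n * g)⁻¹ = k⁻¹ * (n * (g * a * g⁻¹) * n⁻¹) * k by group, e]
      group⟩
  have same : ∀ a : G, orderOf a = 2 → (fixedBy Ω a).ncard = (fixedBy Ω t).ncard := fun a ha => by
    obtain ⟨g, rfl⟩ := isConj_iff.1 (allc t a ht ha)
    rw [fix_conj, Set.ncard_smul_set]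
  have stU : ∀ g : G, g ∈ St G (Set.univ : Set Ω) := fun g c => by simp
  have n4 := h.four
  -- if `4 ∤ n`, some four-group fixes a point
  have four : ¬ 4 ∣ Nat.card Ω → ∃ (a b : G) (c d : Ω), V4 c d a b := fun hn => by
    obtain ⟨c, -, hc⟩ := big_stab (Δ := (Set.univ : Set Ω)) P.2 (fun g _ => stU g) (j := 1)
      (by rwa [Set.ncard_univ])
    rw [h8] at hc
    have h1 := Set.ncard_diff_singleton_add_one
      (s := (((P : Subgroup G) ⊓ stabilizer G c : Subgroup G) : Set G)) (Subgroup.one_mem _)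
    have h2 : (((P : Subgroup G) ⊓ stabilizer G c : Subgroup G) : Set G).ncard =
      Nat.card ↥((P : Subgroup G) ⊓ stabilizer G c) := rfl
    obtain ⟨a, ha, b, hb, ab⟩ := (Set.one_lt_ncard (s := (((P : Subgroup G) ⊓ stabilizer G c :
      Subgroup G) : Set G) \ {1}) (Set.toFinite _)).1 (by omega)
    obtain ⟨d, hd⟩ := h.exists_V4 (ord_two (hsq a ha.1.1) ha.2) (ord_two (hsq b hb.1.1) hb.2)
      (comm_of_sq hsq ha.1.1 hb.1.1) ab ha.1.2 hb.1.2
    exact ⟨a, b, c, d, hd⟩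
  obtain ⟨y, hy, ty⟩ := h.two_le ht tx
  have par := h.par ht
  have ev := h.even_fix ht
  have big : 2 < (fixedBy Ω t).ncard := by
    have h1 : 1 < (fixedBy Ω t).ncard := (Set.one_lt_ncard (Set.toFinite _)).2 ⟨y, ty, x, tx, hy⟩
    by_contra hn
    have h2 : (fixedBy Ω t).ncard = 2 := by omega
    obtain ⟨a, b, c, d, V⟩ := four (by omega)
    have := S.wielandt h.even V
    rw [same a V.t2, same b V.s2, same _ V.mul.s2, h2] at this
    have := Nat.eq_one_of_mul_eq_one_right this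
    omega
  have nosup : ∀ (a : G) (N : Subgroup G), orderOf a = 2 → N ≤ S.L (fixedBy Ω a) →
      (∀ n ∈ N, n * n = 1) → a ∉ N → Nat.card N < 8 := fun a N ha hle h2 hn =>
    (lt_sup_card hn).trans_le (sub (pg_sup h2 (sq_one ha) fun n hn => Sp.commute_L_W
      (Set.one_lt_ncard_iff_nontrivial.1 (by rw [same a ha]; omega)) (hle hn) (self_mem_W a))).1
  have AL : S.AL := fun a ha hne => by
    rcases h.ty_fix ha (by rw [same a ha]; exact big) with ⟨h1, N, D⟩ | h1 | ⟨q, D⟩ | ⟨q, A, D⟩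
    · obtain ⟨c, hc⟩ := hne
      have := nosup a N ha D.le D.sq fun hn => ne_one ha (D.free a hn c hc hc)
      rw [D.card] at this
      omega
    · exact h1
    · exact (h.noU a ha q D).elim
    · have := nosup a A ha D.le D.sq fun hn =>
        PA.not_mem_odd D.odd ha ⟨D.le hn, self_mem_W a⟩
      rw [D.card] at this
      omega
  have N4 := h.n4 AL
  have lt : ∀ a : G, orderOf a = 2 → S.LT (fixedBy Ω a) := fun a ha =>
    h.lt (AL a ha (Set.nonempty_of_ncard_ne_zero (by rw [same a ha]; omega)))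
  have nosl : ∀ a : G, orderOf a = 2 → ∀ z ∈ S.L (fixedBy Ω a), z ∈ W G (fixedBy Ω a) →
      orderOf z ≠ 2 := fun a ha z hz hw z2 => by
    obtain ⟨⟨i, -, -, -, i2, -⟩, -⟩ := (lt a ha).sl_der hz hw z2 (q := (fixedBy Ω a).ncard - 1)
      (by rw [same a ha]; omega)
    have h1 : IsPGroup 2 (zpowers i) := by
      have h2 : orderOf i ∣ 2 ^ 2 := orderOf_dvd_of_pow_eq_one (by
        rw [show i ^ 2 ^ 2 = i * i * (i * i) by rw [show 2 ^ 2 = 2 + 2 by norm_num, pow_add, pow_two], i2, sq_one z2])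
      obtain ⟨k, -, hk⟩ := (Nat.dvd_prime_pow Nat.prime_two).1 h2
      exact IsPGroup.of_card ((Nat.card_zpowers i).trans hk)
    exact ne_one z2 (i2 ▸ (sub h1).2 i (mem_zpowers i))
  have d4 : 4 ∣ Nat.card Ω := by
    by_contra hn
    obtain ⟨a, b, c, d, V⟩ := four hn
    exact N4 a b V.t2 V.s2 V.comm V.ts c V.tx V.sx
  have d8 : ¬ 8 ∣ Nat.card Ω := fun e => h16 (by
    have := two_mul_dvd (S := S) Sp.cl_univ (by rw [Set.ncard_univ]; omega) ht (stU t)
      (Set.mem_univ x) tx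
    rw [Set.ncard_univ] at this
    exact Dvd.dvd.trans (by omega) this)
  have d8' : ¬ 8 ∣ (fixedBy Ω t).ncard := fun e => h16
    (Dvd.dvd.trans (by omega) (two_mul_dvd (S := S) (Sp.cl_fix t) big ht
      (mem_St_fix (Commute.refl t)) tx tx))
  have wU : ∀ g : G, g ∈ W G (Set.univ : Set Ω) ↔ g = 1 := fun g =>
    ⟨fun hg => h.two.faith g fun c => mem_W.1 hg c (Set.mem_univ c), fun e => e ▸ one_mem _⟩
  have inv : ∀ s : G, s * s ∈ W G (Set.univ : Set Ω) → s ∉ W G (Set.univ : Set Ω) → orderOf s = 2 :=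
    fun s h1 h2 => ord_two ((wU _).1 h1) fun e => h2 ((wU _).2 e)
  refine ⟨(fixedBy Ω t).ncard - 1, P, Sp.cl_univ, by omega, h.gen ▸ le_top, h8, hsq,
    fun a ha b hb a1 b1 => ?_, ?_, fun R _ hR => ⟨?_, fun a ha b hb => ?_⟩, fun s _ h1 h2 => ?_,
    fun s _ h1 h2 h3 => ?_, fun a ha b hb a1 b1 ab c _ ac bc => ?_, ?_, fun h3 => ?_⟩
  · obtain ⟨n, hn, e⟩ := tr ha hb a1 b1
    exact ⟨n, h.gen ▸ mem_top n, fun c hc => (mem_normalizer_iff.1 hn c).1 hc, e⟩
  · rw [show S.L Set.univ ⊓ W G (Set.univ : Set Ω) = ⊥ from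
      eq_bot_iff.2 fun g hg => (wU g).1 hg.2]
    simp
  · have := Nat.card_pos (α := ↥(R ⊓ W G (Set.univ : Set Ω)))
    have := (sub hR).1
    omega
  · rw [(comm_of_sq (sub hR).2 ha hb).eq, wU]
    group
  · rw [Set.univ_inter, same s (inv s h1 h2)]
    omega
  · rw [Set.univ_inter] at h3
    exact nosl s (inv s h1 h2) s h3 (self_mem_W s) (inv s h1 h2)
  · exact N4 a b (ord_two (hsq a ha) a1) (ord_two (hsq b hb) b1) (comm_of_sq hsq ha hb) ab c ac bc
  · rw [Set.ncard_univ]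
    omega
  · have k4 : (fixedBy Ω t).ncard = 4 := by omega
    obtain ⟨N, D⟩ := (lt t ht).ds_of_four k4 ((lt t ht).cen.resolve_right
      fun ⟨z, hz, hw, z2⟩ => nosl t ht z hz hw z2)
    have C : S.C2 t N := ⟨ht, D, fun w hw w2 hc => by
      by_contra hn
      push Not at hn
      exact N4 w t (ord_two w2 hn.1) ht hc hn.2 x (mem_W.1 hw x tx) tx,
      fun t' h1 h2 h3 c tc t'c => N4 t' t (by
        obtain ⟨g, rfl⟩ := isConj_iff.1 h1
        rw [← ht]
        exact (MulAut.conj g).orderOf_eq t) ht h3 h2 c t'c tc, Or.inr N4⟩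
    have ho : Odd {d ∈ {d : G | orderOf d = 2} | d • x = x ∧ d • y = y}.ncard := by
      have e : ∀ (d : G) (c : Ω), t • c = c → d • c = c → (t * d * t⁻¹) • c = c := fun d c h1 h2 => by
        rw [mul_smul, mul_smul, inv_smul_eq_iff.2 h1.symm, h2, h1]
      have h1 := Perm.TwoCount.parity (Δ := {d ∈ {d : G | orderOf d = 2} | d • x = x ∧ d • y = y})
        (x := ConjAct.toConjAct t) (fun d hd => ⟨((MulAut.conj t).orderOf_eq d).trans hd.1,
          e d x tx hd.2.1, e d y ty hd.2.2⟩) fun d _ => by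
          rw [← mul_smul, ← map_mul, sq_one ht, map_one, one_smul]
      have h2 : {d ∈ {d : G | orderOf d = 2} | d • x = x ∧ d • y = y} ∩
          fixedBy G (ConjAct.toConjAct t) = {t} := by
        ext d
        refine ⟨fun hd => ?_, ?_⟩
        · by_contra hn
          exact N4 d t hd.1.1 ht (mul_inv_eq_iff_eq_mul.1 hd.2).symm hn x hd.1.2.1 tx
        · rintro rfl
          exact ⟨⟨ht, tx, ty⟩, mul_inv_cancel_right _ _⟩
      rw [h2, Set.ncard_singleton] at h1
      exact Nat.odd_iff.2 h1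
    have tN : t ∉ N := fun hn => ne_one ht (D.free t hn x tx tx)
    have pE := pg_sup D.sq (sq_one ht) fun n hn => Sp.commute_L_W D.sf_nt (D.le hn) (self_mem_W t)
    obtain ⟨e8, e2⟩ := sub pE
    have c8 : Nat.card ↥(N ⊔ zpowers t) = 8 := by
      have h1 := lt_sup_card tN
      have h2 := card_dvd_of_le (le_sup_left : N ≤ N ⊔ zpowers t)
      rw [D.card, k4] at h1 h2
      omega
    let Z : Set G := (N ⊔ zpowers t : Subgroup G) \ {1}
    have hZ : Z.ncard = 7 := by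
      have h1 := Set.ncard_diff_singleton_add_one
        (s := ((N ⊔ zpowers t : Subgroup G) : Set G)) (Subgroup.one_mem _)
      have h3 : Z.ncard + 1 = 8 := h1.trans c8
      omega
    have hcov : ∀ c : Ω, ∃ d ∈ Z, d • c = c := fun c => by
      obtain ⟨d, hd, h1, h2⟩ := h.cover (D := {d : G | orderOf d = 2})
        (fun g d hd => ((MulAut.conj g).orderOf_eq d).trans hd) ht ht hy ho c
      exact ⟨d, ⟨C.mem_E h (allc t d ht hd) h1, ne_one hd⟩, h2⟩
    choose f f1 f2 using hcov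
    have := Fintype.ofFinite Ω
    have h1 := Finset.card_eq_sum_card_fiberwise (s := Finset.univ) (t := Z.toFinite.toFinset) (f := f)
      fun c _ => by simpa using f1 c
    have h2 : ∀ d ∈ Z.toFinite.toFinset, (Finset.univ.filter fun c => f c = d).card = 4 :=
      fun d hd => by
      have dZ : d ∈ Z := by simpa using hd
      rw [← k4, ← same d (ord_two (e2 d dZ.1) dZ.2), ← Set.ncard_coe_finset]
      congr 1
      ext c
      simp only [Finset.coe_filter, Finset.mem_univ, true_and, Set.mem_setOf_eq, mem_fixedBy]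
      refine ⟨fun e => e ▸ f2 c, fun e => ?_⟩
      by_contra hn
      exact N4 (f c) d (ord_two (e2 _ (f1 c).1) (f1 c).2) (ord_two (e2 d dZ.1) dZ.2)
        (comm_of_sq e2 (f1 c).1 dZ.1) hn c (f2 c) e
    rw [Finset.sum_congr rfl h2, Finset.sum_const, ← Set.ncard_eq_toFinset_card, hZ,
      Finset.card_univ] at h1
    rw [Set.ncard_univ, Nat.card_eq_fintype_card, h1]
    rfl

end Cfsg.Agent.HKS
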