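import Mathlib
import Cfsg.Agent.HKS.Ctx
import Cfsg.Agent.HKS.LFA
import Cfsg.Agent.HKS.LFB
import Cfsg.Agent.HKS.LFC
import Cfsg.Agent.HKS.LFD

/-! Piece EGp1: the endgame, type `PSL₂`, the centralizer -/

set_option autoImplicit false

namespace Cfsg.Agent.HKS

open Subgroup MulAction Cfsg.Agent.TT Cfsg.Agent.Perm.TT Cfsg.Agent.Cl.L2
open Cfsg.Agent.KS (St)
open scoped MatrixGroups Pointwise commutatorElement

variable {G Ω : Type*} [Group G] [MulAction G Ω] [Finite G] [Finite Ω] {S : Sp G Ω}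
  {Δ Δ' : Set Ω} {x y : Ω}

namespace EGp1

/-- The involution `t` has type `PSL₂(q)` with `q ≡ 3 (mod 4)`. -/
structure P (S : Sp G Ω) (t : G) : Prop where
  n4 : N4 G Ω
  two : orderOf t = 2
  lt : S.LT (fixedBy Ω t)
  h4 : (fixedBy Ω t).ncard % 4 = 0
  hb : S.L (fixedBy Ω t) ⊓ W G (fixedBy Ω t) = ⊥

variable {t : G}

theorem sq {K : Type*} [Group K] {a : K} (h : orderOf a = 2) : a * a = 1 := by
  rw [← pow_two, ← h, pow_orderOf_eq_one]

theorem ne {K : Type*} [Group K] {a : K} (h : orderOf a = 2) : a ≠ 1 := by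
  rintro rfl
  simp at h

theorem ord {K : Type*} [Group K] {a : K} (h : a * a = 1) (h1 : a ≠ 1) : orderOf a = 2 :=
  orderOf_eq_prime (by rw [pow_two, h]) h1

theorem P.conj (h : P S t) {t' : G} (hc : IsConj t t') : P S t' := by
  obtain ⟨g, rfl⟩ := isConj_iff.1 hc
  refine ⟨h.n4, by rw [Basic.ord, h.two], ?_, ?_, ?_⟩
  · rw [fix_conj]; exact h.lt.smul g
  · rw [fix_conj, Set.ncard_smul_set]; exact h.h4
  · rw [fix_conj, ← card_eq_one, Sp.card_LW, h.hb, card_bot]

theorem P.one (h : P S t) {g : G} (h1 : g ∈ S.L (fixedBy Ω t)) (h2 : g ∈ W G (fixedBy Ω t)) :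
    g = 1 := mem_bot.1 (h.hb ▸ mem_inf.2 ⟨h1, h2⟩)

theorem P.lw (h : P S t) {l w : G} (h1 : l ∈ S.L (fixedBy Ω t)) (h2 : w ∈ W G (fixedBy Ω t)) :
    Commute l w := S.commute_L_W h.lt.nontrivial h1 h2

theorem P.nmem (h : P S t) : t ∉ S.L (fixedBy Ω t) := fun e => ne h.two (h.one e (self_mem_W t))

theorem P.fa (h : P S t) {w : G} (hw : w ∈ W G (fixedBy Ω t)) (w2 : w * w = 1) (hc : Commute w t) :
    w = 1 ∨ w = t := by
  by_contra hn
  push Not at hn
  obtain ⟨c, hc', -⟩ := h.lt.nontrivial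
  exact h.n4 w t (ord w2 hn.1) h.two hc hn.2 c (mem_W.1 hw c hc') hc'

theorem P.fb (h : P S t) {e : G} (e2 : e * e = 1) (hc : Commute e t) :
    ∃ l ∈ S.L (fixedBy Ω t), l * l = 1 ∧ (e = l ∨ e = l * t) := by
  by_cases e1 : e = 1
  · exact ⟨1, one_mem _, one_mul _, Or.inl e1⟩
  by_cases et : e = t
  · exact ⟨1, one_mem _, one_mul _, Or.inr (by rw [one_mul, et])⟩
  obtain ⟨l, hl, w, hw, rfl⟩ := h.lt.b1 h.h4 (mem_St_fix hc) (by rw [e2]; exact one_mem _)
    fun c hc' e' => h.n4 e t (ord e2 e1) h.two hc et c e' hc'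
  have hlw := h.lw hl hw
  have e3 : l * l * (w * w) = 1 := by rw [← e2, hlw.mul_mul_mul_comm]
  have w2 : w * w = 1 := h.one (by rw [← inv_eq_of_mul_eq_one_right e3]; exact inv_mem (mul_mem hl hl))
    (mul_mem hw hw)
  have hwt : Commute w t := by
    have := (h.lw hl (self_mem_W t)).inv_left.mul_left hc
    rwa [inv_mul_cancel_left] at this
  refine ⟨l, hl, by rwa [w2, mul_one] at e3, ?_⟩
  rcases h.fa hw w2 hwt with rfl | rfl
  · exact Or.inl (mul_one _)
  · exact Or.inr rfl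

/-- A commuting conjugate. -/
theorem P.ex (h : P S t) (hC : S.Ctx) : ∃ t' z : G, P S t' ∧ t' ≠ t ∧ Commute t' t ∧
    z ∈ S.L (fixedBy Ω t) ∧ orderOf z = 2 ∧ (t' = z ∨ t' = z * t) := by
  obtain ⟨t', h1, h2, h3⟩ := hC.zstar h.two
  have h' := h.conj h1
  obtain ⟨z, hz, z2, e⟩ := h.fb (sq h'.two) h3
  refine ⟨t', z, h', h2, h3, hz, ord z2 ?_, e⟩
  rintro rfl
  rcases e with e | e
  · exact ne h'.two e
  · exact h2 (by rw [e, one_mul])

theorem cw {A : Subgroup G} {a b : G} (h : Commute a b) : a * b * a⁻¹ * b⁻¹ ∈ A := by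
  rw [h.eq, mul_inv_cancel_right, mul_inv_cancel]
  exact one_mem _

theorem P.no_root (h : P S t) (hC : S.Ctx) {r : G} (hr : r ∈ W G (fixedBy Ω t)) : r * r ≠ t := by
  intro e
  obtain ⟨t', z, h', h2, h3, hz, z2, ez⟩ := h.ex hC
  obtain ⟨v, hv, v2, vz, cvz⟩ := h.lt.g0 h.hb hz z2
  have crt : Commute r t := e ▸ (Commute.refl r).mul_right (Commute.refl r)
  have cvt : Commute v t := h.lw hv (self_mem_W t)
  have cvr : Commute v r := h.lw hv hr
  have ct : ∀ g, Commute g z → Commute g t → Commute g t' := fun g a1 a2 => by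
    rcases ez with rfl | rfl
    · exact a1
    · exact a1.mul_right a2
  have t1 : t ∉ W G (fixedBy Ω t') := fun e' => by
    rcases h'.fa e' (sq h.two) h3.symm with e' | e'
    · exact ne h.two e'
    · exact h2 e'.symm
  have tv : t * v * (t * v) = 1 := by rw [cvt.mul_mul_mul_comm, sq h.two, sq v2, one_mul]
  have key := h'.lt.four_self h'.h4 (a := t) (b := v) (g := r) (mem_St_fix h3.symm)
    (mem_St_fix (ct v cvz cvt)) (mem_St_fix (ct r (h.lw hz hr).symm crt))
    (by rw [sq h.two]; exact one_mem _) (by rw [sq v2]; exact one_mem _) (cw cvt.symm) t1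
    (fun e' => by
      rcases h'.fa e' (sq v2) (ct v cvz cvt) with e' | e'
      · exact ne v2 e'
      · rcases ez with rfl | rfl
        · exact vz e'
        · exact h.nmem ((mul_mem_cancel_left hz).1 (e' ▸ hv)))
    (fun e' => by
      rcases h'.fa e' tv (h3.symm.mul_left (ct v cvz cvt)) with e' | e'
      · exact h.nmem ((mul_mem_cancel_right hv).1 (e' ▸ one_mem _))
      · rcases ez with rfl | rfl
        · exact h.nmem ((mul_mem_cancel_right hv).1 (e' ▸ hz))
        · rw [← cvt.eq] at e'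
          exact vz (mul_right_cancel e'))
    ⟨2, by rw [show 2 ^ 2 = 2 * 2 from rfl, pow_mul, pow_two r, e, pow_two, sq h.two]⟩
    (cw crt) (cw cvr.symm)
  have fin : ∀ a, Commute r a → a * a = 1 → r * a ∈ W G (fixedBy Ω t') → False := fun a c a2 m => by
    have := mul_mem m m
    rw [c.symm.mul_mul_mul_comm, a2, mul_one, e] at this
    exact t1 this
  rcases key with k | k | k | k
  · exact fin 1 (Commute.one_right _) (one_mul _) (by rwa [mul_one])
  · exact fin t crt (sq h.two) k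
  · exact fin v cvr.symm (sq v2) k
  · exact fin _ (crt.mul_right cvr.symm) tv k

theorem P.el2 (h : P S t) (hC : S.Ctx) (k : ℕ) : ∀ w ∈ W G (fixedBy Ω t), w ^ 2 ^ k = 1 →
    Commute w t → w = 1 ∨ w = t := by
  induction k with
  | zero => exact fun w _ e _ => Or.inl (by simpa using e)
  | succ k ih =>
    intro w hw e hc
    rcases ih (w * w) (mul_mem hw hw) (by rw [← pow_two, ← pow_mul, ← pow_succ', e])
      (hc.mul_left hc) with e' | e'
    · exact h.fa hw e' hc
    · exact absurd e' (h.no_root hC hw)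

omit [Finite G] in
theorem inv_pow {A : Subgroup G} {m : G} (h : Inv m A) {j : ℕ} (hj : Odd j) : Inv (m ^ j) A := by
  obtain ⟨i, rfl⟩ := hj
  intro u hu
  have h2 : Commute (m ^ 2) u := by
    have e1 := h u hu
    have e2 := h _ (inv_mem hu)
    rw [Commute, SemiconjBy, pow_two]
    calc m * m * u = m * (m * u * m⁻¹) * m⁻¹ * (m * m) := by group
      _ = u * (m * m) := by rw [e1, e2, inv_inv]
  have h3 := (h2.pow_left i).inv_right
  rw [pow_succ, pow_mul]
  calc (m ^ 2) ^ i * m * u * ((m ^ 2) ^ i * m)⁻¹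
      = (m ^ 2) ^ i * (m * u * m⁻¹) * ((m ^ 2) ^ i)⁻¹ := by group
    _ = u⁻¹ := by rw [h u hu, h3.eq, mul_inv_cancel_right]

theorem two_part (m : G) : ∃ j k : ℕ, Odd j ∧ (m ^ j) ^ 2 ^ k = 1 := by
  obtain ⟨k, j, hj, e⟩ := Nat.exists_eq_two_pow_mul_odd (orderOf_pos m).ne'
  exact ⟨j, k, hj, by rw [← pow_mul, mul_comm, ← e, pow_orderOf_eq_one]⟩

theorem P.no_s (h : P S t) (hC : S.Ctx) (h5 : 4 < (fixedBy Ω t).ncard) {s : G}
    (hx : x ∈ fixedBy Ω t) (hy : y ∈ fixedBy Ω t) (hxy : y ≠ x) (sx : s • x = x) (sy : s • y = y)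
    (hi : Inv s (S.UD (fixedBy Ω t) x)) (e : s * s = t) : False := by
  obtain ⟨t', z, h', h2, h3, hz, z2, ez⟩ := h.ex hC
  have cst : Commute s t := e ▸ (Commute.refl s).mul_right (Commute.refl s)
  obtain ⟨l, hl, v, hv, c1, v2, cvz, -, k2⟩ :=
    h.lt.g1 h.h4 h5 h.hb (mem_St_fix cst) hx hy hxy sx sy hi hz z2
  have clt := h.lw hl (self_mem_W t)
  have e' : l * s * l⁻¹ * (l * s * l⁻¹) = t := by
    calc l * s * l⁻¹ * (l * s * l⁻¹) = l * (s * s) * l⁻¹ := by group
      _ = t := by rw [e, clt.eq, mul_inv_cancel_right]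
  generalize l * s * l⁻¹ = s' at c1 k2 e'
  have ct : ∀ g, Commute g z → Commute g t → Commute g t' := fun g a1 a2 => by
    rcases ez with rfl | rfl
    · exact a1
    · exact a1.mul_right a2
  have cvt : Commute v t := h.lw hv (self_mem_W t)
  have c2 : Commute s' t := e' ▸ (Commute.refl s').mul_right (Commute.refl s')
  have c3 := ct s' c1 c2
  have c4 := ct v cvz cvt
  obtain ⟨z', hz', z2', ez'⟩ := h'.fb (sq h.two) h3.symm
  obtain ⟨l', hl', -, el'⟩ := h'.fb v2 c4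
  have cz' := h'.lw hz' (self_mem_W t')
  have hk : s' * v * s'⁻¹ * v ∈ S.L (fixedBy Ω t') := by
    have m := mul_mem (S.conj_mem_L (mem_St_fix c3) hl') hl'
    rcases el' with rfl | rfl
    · exact m
    · have cl' := h'.lw hl' (self_mem_W t')
      have : s' * (l' * t') * s'⁻¹ * (l' * t') = s' * l' * s'⁻¹ * l' := by
        calc s' * (l' * t') * s'⁻¹ * (l' * t') = s' * l' * (t' * s'⁻¹) * (l' * t') := by group
          _ = s' * l' * s'⁻¹ * (t' * l') * t' := by rw [← c3.inv_left.eq]; group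
          _ = s' * l' * s'⁻¹ * l' * (t' * t') := by rw [← cl'.eq]; group
          _ = _ := by rw [sq h'.two, mul_one]
      rwa [this]
  have ck : ∀ a, Commute s' a → Commute v a → Commute (s' * v * s'⁻¹ * v) a := fun a a1 a2 =>
    ((a1.mul_left a2).mul_left a1.inv_left).mul_left a2
  have ckz : Commute (s' * v * s'⁻¹ * v) z' := by
    rcases ez' with rfl | ez'
    · exact ck _ c2 cvt
    · have : z' = t * t'⁻¹ := by rw [ez', mul_inv_cancel_right]
      rw [this]
      exact (ck _ c2 cvt).mul_right (ck _ c3 c4).inv_right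
  have key := h'.lt.g2 h'.h4 hz' (by rw [z2']; exact one_mem _)
    (fun m => by
      rw [h'.one hz' m] at ez'
      rcases ez' with e1 | e1
      · exact ne h.two e1
      · exact h2 (by rw [e1, one_mul]))
    (mem_St_fix c3)
    ⟨2, by rw [show 2 ^ 2 = 2 * 2 from rfl, pow_mul, pow_two s', e', pow_two, sq h.two]⟩
    (by
      rw [e']
      rcases ez' with e1 | e1
      · rw [← e1, mul_inv_cancel]; exact one_mem _
      · rw [e1, cz'.eq, mul_inv_cancel_right]; exact self_mem_W _)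
    hk (cw ckz) (fun m => k2 (by rw [pow_two]; exact h'.one (mul_mem hk hk) m))
  have k1 := h'.one (mul_mem (S.conj_mem_L (mem_St_fix c3) hk) (inv_mem hk)) key
  have vi : v⁻¹ = v := inv_eq_of_mul_eq_one_right v2
  have k3 : s' * (s' * v * s'⁻¹ * v) * s'⁻¹ = (s' * v * s'⁻¹ * v)⁻¹ := by
    calc s' * (s' * v * s'⁻¹ * v) * s'⁻¹ = s' * s' * v * (s' * s')⁻¹ * (s' * v * s'⁻¹) := by group
      _ = v⁻¹ * (s' * v⁻¹ * s'⁻¹) := by rw [e', ← cvt.eq, mul_inv_cancel_right, vi]
      _ = _ := by group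
  rw [k3, ← mul_inv_rev, inv_eq_one, ← pow_two] at k1
  exact k2 k1

end EGp1

open EGp1 in
theorem Sp.Ctx.egp1 {t : G} (h : S.Ctx) (hN : N4 G Ω) (ht : orderOf t = 2)
    (hy : S.TyL (fixedBy Ω t)) (h4 : (fixedBy Ω t).ncard % 4 = 0) (h5 : 4 < (fixedBy Ω t).ncard)
    (hb : S.L (fixedBy Ω t) ⊓ W G (fixedBy Ω t) = ⊥) {g : G} (h1 : Commute g t) (h2 : El2 g) :
    g ∈ S.L (fixedBy Ω t) ⊔ zpowers t := by
  have hP : P S t := ⟨hN, ht, h.lt hy, h4, hb⟩
  by_cases hg : g ∈ S.L (fixedBy Ω t) ⊔ W G (fixedBy Ω t)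
  · obtain ⟨l, hl, w, hw, rfl⟩ := (S.mem_sup_LW hP.lt.nontrivial).1 hg
    obtain ⟨k, hk⟩ := h2
    rw [(hP.lw hl hw).mul_pow] at hk
    have w2 : w ^ 2 ^ k = 1 := hP.one
      (by rw [← inv_eq_of_mul_eq_one_right hk]; exact inv_mem (pow_mem hl _)) (pow_mem hw _)
    have hwt : Commute w t := by
      have := (hP.lw hl (self_mem_W t)).inv_left.mul_left h1
      rwa [inv_mul_cancel_left] at this
    refine mul_mem (mem_sup_left hl) (mem_sup_right ?_)
    rcases hP.el2 h k w hw w2 hwt with rfl | rfl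
    · exact one_mem _
    · exact mem_zpowers _
  exfalso
  obtain ⟨x, hx, y, hy', hxy⟩ := hP.lt.nontrivial
  obtain ⟨l, hl, mx, my, hi⟩ := hP.lt.g3 h4 (mem_St_fix h1) h2 hg hx hy' hxy.symm
  obtain ⟨j, k, hj, hk⟩ := two_part (l * g)
  have hi' := EGp1.inv_pow hi hj
  have sx : (l * g) ^ j • x = x := pow_mem (mem_stabilizer_iff.2 mx) j
  have sy : (l * g) ^ j • y = y := pow_mem (mem_stabilizer_iff.2 my) j
  have cs : Commute ((l * g) ^ j) t := ((hP.lw hl (self_mem_W t)).mul_left h1).pow_left j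
  generalize (l * g) ^ j = s at hk hi' sx sy cs
  have hW : s * s ∈ W G (fixedBy Ω t) := by
    refine hP.lt.cl.mem_W hx hy' hxy.symm (by rw [mul_smul, sx, sx]) (by rw [mul_smul, sy, sy])
      fun u hu => ?_
    have e1 := hi' u hu
    have e2 := hi' _ (inv_mem hu)
    rw [Commute, SemiconjBy]
    calc u * (s * s) = s * (s * u * s⁻¹) * s⁻¹ * (s * s) := by rw [e1, e2, inv_inv]
      _ = _ := by group
  have nc : ∀ u ∈ S.UD (fixedBy Ω t) x, Commute u s → u = 1 := fun u hu c => by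
    have e1 := hi' u hu
    rw [← c.eq, mul_inv_cancel_right] at e1
    have o1 : orderOf u ∣ 2 :=
      orderOf_dvd_of_pow_eq_one (by rw [pow_two]; exact mul_eq_one_iff_eq_inv.2 e1)
    have o2 : Odd (orderOf u) := (h.odd_U x).of_dvd_nat (Subgroup.orderOf_dvd_natCard _ hu.1)
    rcases (Nat.dvd_prime Nat.prime_two).1 o1 with e | e
    · exact orderOf_eq_one_iff.1 e
    · rw [e] at o2
      exact absurd o2 (by decide)
  have hne : S.UD (fixedBy Ω t) x ≠ ⊥ := fun e => by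
    have := hP.lt.cl.card_UD hx hP.lt.nontrivial
    rw [e, card_bot] at this
    omega
  obtain ⟨⟨u, hu⟩, u1⟩ := ne_bot_iff_exists_ne_one.1 hne
  have u1' : u ≠ 1 := fun e => u1 (Subtype.ext e)
  rcases hP.el2 h k _ hW (by rw [← pow_two, ← pow_mul, mul_comm, pow_mul, hk, one_pow])
    (cs.mul_left cs) with e | e
  · refine hN s t (EGp1.ord e ?_) ht cs ?_ x sx hx
    · rintro rfl
      exact u1' (nc u hu (Commute.one_right _))
    · rintro rfl
      exact u1' (nc u hu ((S.mem_UD_fix hxy.symm hx hy').1 hu).2)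
  · exact hP.no_s h h5 hx hy' hxy.symm sx sy hi' e

end Cfsg.Agent.HKS
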