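import Mathlib
import Cfsg.Agent.HKS.Ctx
import Cfsg.Agent.HKS.Mp
import Cfsg.Agent.HKS.LFA
import Cfsg.Agent.HKS.LFB

/-! Piece I0: an involution with two fixed points, first facts -/

set_option autoImplicit false

namespace Cfsg.Agent.HKS

open Subgroup MulAction Cfsg.Agent.TT Cfsg.Agent.Perm.TT Cfsg.Agent.Cl.L2
open Cfsg.Agent.KS (St)
open scoped MatrixGroups Pointwise commutatorElement

variable {G Ω : Type*} [Group G] [MulAction G Ω] [Finite G] [Finite Ω] {S : Sp G Ω}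
  {Δ Δ' : Set Ω} {x y : Ω}

namespace Sp.I0

variable {t s : G}

omit [Finite G] [Finite Ω] in
theorem i0_mem (hI : S.I0 x y t) {c : Ω} : t • c = c ↔ c = x ∨ c = y := by
  rw [← mem_fixedBy, hI.fix]
  simp

theorem i0_sq {K : Type*} [Group K] {a : K} (h : orderOf a = 2) : a * a = 1 := by
  rw [← pow_two, ← h, pow_orderOf_eq_one]

theorem i0_ne {K : Type*} [Group K] {a : K} (h : orderOf a = 2) : a ≠ 1 := by
  rintro rfl
  simp at h

theorem tx (hI : S.I0 x y t) : t • x = x :=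
  hI.i0_mem.2 (Or.inl rfl)

theorem ty (hI : S.I0 x y t) : t • y = y :=
  hI.i0_mem.2 (Or.inr rfl)

theorem swap (hI : S.I0 x y t) : S.I0 y x t :=
  ⟨hI.ne.symm, hI.two, by rw [hI.fix, Set.pair_comm], hI.ll⟩

theorem i0_one (hI : S.I0 x y t) {c : G} (hc : c ∈ S.U x) (h : Commute c t) : c = 1 := by
  have e : t • c • y = c • y := by rw [← mul_smul, ← h.eq, mul_smul, hI.ty]
  rcases hI.i0_mem.1 e with e | e
  · exact absurd e (S.smul_ne hc hI.ne)
  · exact S.free x y hI.ne c hc e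

theorem inv (h : S.Ctx) (hI : S.I0 x y t) : Inv t (S.U x) := by
  intro u hu
  obtain ⟨c, hc, w, -, e, h1, h2, -⟩ := odd_dec (h.odd_U x) (i0_sq hI.two)
    (fun u hu => S.conj_fix hI.tx hu) hu
  rw [hI.i0_one hc h1, one_mul] at e
  rw [e, h2]

theorem comm (h : S.Ctx) (hI : S.I0 x y t) : ∀ u ∈ S.U x, ∀ v ∈ S.U x, Commute u v := by
  intro u hu v hv
  have e := hI.inv h _ (mul_mem hu hv)
  have e' : t * (u * v) * t⁻¹ = (t * u * t⁻¹) * (t * v * t⁻¹) := by group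
  rw [e', hI.inv h u hu, hI.inv h v hv, ← mul_inv_rev, inv_inj] at e
  exact e.symm

theorem i0_eq (h : S.Ctx) (hne : y ≠ x) {r r' : G} (rx : r • x = x) (ry : r • y = y)
    (rx' : r' • x = x) (ry' : r' • y = y) (e : ∀ u ∈ S.U x, r * u * r⁻¹ = r' * u * r'⁻¹) :
    r = r' := by
  have : r'⁻¹ * r = 1 := by
    refine h.two.faith _ (S.fix_all hne ?_ ?_ fun u hu => ?_)
    · rw [mul_smul, rx, inv_smul_eq_iff, rx']
    · rw [mul_smul, ry, inv_smul_eq_iff, ry']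
    · have := e u hu
      rw [Commute, SemiconjBy]
      calc u * (r'⁻¹ * r) = r'⁻¹ * (r' * u * r'⁻¹) * r := by group
        _ = r'⁻¹ * r * u := by rw [← this]; group
  rw [inv_mul_eq_one] at this
  exact this.symm

theorem cen (h : S.Ctx) (hI : S.I0 x y t) {g : G}
    (hg : (g • x = x ∧ g • y = y) ∨ (g • x = y ∧ g • y = x)) : Commute g t := by
  have key : g * t * g⁻¹ = t := by
    have fx : ∀ c, (g • c = x ∨ g • c = y) → (c = x ∨ c = y) → (g * t * g⁻¹) • g • c = g • c :=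
      fun c _ hc => by rw [Basic.sm, hI.i0_mem.2 hc]
    have hx : (g * t * g⁻¹) • x = x := by
      rcases hg with ⟨h1, -⟩ | ⟨-, h1⟩
      · simpa only [h1] using fx x (Or.inl h1) (Or.inl rfl)
      · simpa only [h1] using fx y (Or.inl h1) (Or.inr rfl)
    have hy : (g * t * g⁻¹) • y = y := by
      rcases hg with ⟨-, h1⟩ | ⟨h1, -⟩
      · simpa only [h1] using fx y (Or.inr h1) (Or.inr rfl)
      · simpa only [h1] using fx x (Or.inr h1) (Or.inl rfl)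
    refine i0_eq h hI.ne hx hy hI.tx hI.ty fun u hu => ?_
    obtain ⟨k, rfl⟩ := Basic.cs g u
    have hk : t * k * t⁻¹ = k⁻¹ := by
      rcases hg with ⟨h1, -⟩ | ⟨-, h1⟩
      · exact hI.inv h k (S.conj_iff.1 (h1.symm ▸ hu))
      · exact hI.swap.inv h k (S.conj_iff.1 (h1.symm ▸ hu))
    rw [hI.inv h _ hu]
    calc g * t * g⁻¹ * (g * k * g⁻¹) * (g * t * g⁻¹)⁻¹ = g * (t * k * t⁻¹) * g⁻¹ := by group
      _ = _ := by rw [hk]; group
  rw [Commute, SemiconjBy]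
  calc g * t = g * t * g⁻¹ * g := by group
    _ = t * g := by rw [key]

theorem spec (h : S.Ctx) (hI : S.I0 x y t) {a : G} (ha : a ∈ S.U x) (a1 : a ≠ 1) : S.Spec x y a := by
  have e := S.de_conj hI.ne hI.tx hI.ty ha a1
  rw [hI.inv h a ha, hI.swap.inv h _ S.de_mem] at e
  exact e.symm

theorem mu_sq (h : S.Ctx) (hI : S.I0 x y t) {a : G} (ha : a ∈ S.U x) (a1 : a ≠ 1) :
    S.mu x y a * S.mu x y a = 1 := by
  have e := S.mu_conj hI.ne hI.tx hI.ty ha a1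
  have c := hI.cen h (Or.inr ⟨S.mu_x hI.ne ha a1, S.mu_y hI.ne ha a1⟩)
  rw [hI.inv h a ha, S.mu_inv, ← c.eq, mul_inv_cancel_right] at e
  exact mul_eq_one_iff_eq_inv.2 e

theorem mu_inj (h : S.Ctx) (hI : S.I0 x y t) {a b : G} (ha : a ∈ S.U x) (a1 : a ≠ 1)
    (hb : b ∈ S.U x) (b1 : b ≠ 1) (e : S.mu x y b = S.mu x y a) : b = a ∨ b = a⁻¹ := by
  by_contra hn
  push Not at hn
  have q2 : ∀ c ∈ S.U x, c ≠ 1 → S.mu x y c ^ 2 = 1 := fun c hc c1 => by
    rw [pow_two, hI.mu_sq h hc c1]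
  have q4 : ∀ c ∈ S.U x, c ≠ 1 → S.mu x y c ^ 4 = 1 := fun c hc c1 => by
    rw [show 4 = 2 * 2 from rfl, pow_mul, q2 c hc c1, one_pow]
  have h1 := (S.mprime h.even hI.ne (hI.comm h) ha hb a1 b1 (hI.spec h ha a1) (q4 a ha a1) e
    hn.1 hn.2).2
  have h2 := (S.mprime h.even hI.ne (hI.comm h) hb ha b1 a1 (hI.spec h hb b1) (q4 b hb b1) e.symm
    hn.1.symm (fun e' => hn.2 (by rw [e', inv_inv]))).1
  have h3 := h1 h2
  rw [q2 a ha a1, one_mul, inv_one, mul_one] at h3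
  apply b1
  calc b = b ^ 3 * (b * b)⁻¹ := by group
    _ = 1 := by rw [h2, mul_eq_one_iff_eq_inv.2 h3]; simp

theorem n4 (h : S.Ctx) (hI : S.I0 x y t) : Nat.card Ω % 4 = 2 := by
  rw [h.par hI.two, hI.fix, Set.ncard_pair hI.ne.symm]

theorem lt (h : S.Ctx) (hI : S.I0 x y t) (hV : V4 x y t s) :
    S.LT (fixedBy Ω s) ∧ (fixedBy Ω s).ncard % 4 = 2 := by
  refine ⟨h.lt (hI.ll s hV.s2 ?_), by rw [← h.par hV.s2, hI.n4 h]⟩
  by_contra hn
  have hsub : ({x, y} : Set Ω) ⊆ fixedBy Ω s := by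
    rintro c (rfl | rfl)
    · exact hV.sx
    · exact hV.sy
  have he : fixedBy Ω s = {x, y} :=
    (Set.eq_of_subset_of_ncard_le hsub (by rw [Set.ncard_pair hI.ne.symm]; omega)).symm
  have hI' : S.I0 x y s := ⟨hI.ne, hV.s2, he, hI.ll⟩
  exact hV.ts (i0_eq h hI.ne hI.tx hI.ty hV.sx hV.sy fun u hu => by
    rw [hI.inv h u hu, hI'.inv h u hu])

theorem i0_mu_comm (h : S.Ctx) (hI : S.I0 x y t) {r a : G} (rx : r • x = x) (ry : r • y = y)
    (ha : a ∈ S.U x) (a1 : a ≠ 1) (e : Commute a r ∨ r * a * r⁻¹ = a⁻¹) :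
    Commute (S.mu x y a) r := by
  have e1 := S.mu_conj hI.ne rx ry ha a1
  have e2 : r * S.mu x y a * r⁻¹ = S.mu x y a := by
    rcases e with e | e
    · rw [e1, ← e.eq, mul_inv_cancel_right]
    · rw [e1, e, S.mu_inv, inv_eq_of_mul_eq_one_right (hI.mu_sq h ha a1)]
  rw [Commute, SemiconjBy]
  calc S.mu x y a * r = r * S.mu x y a * r⁻¹ * r := by rw [e2]
    _ = _ := by group

theorem an (h : S.Ctx) (hI : S.I0 x y t) (hV : V4 x y t s) {a : G} (ha : a ∈ S.U x) (a1 : a ≠ 1)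
    (e : s * a * s⁻¹ = a⁻¹) : Commute (S.mu x y a) s ∧ S.AN (fixedBy Ω s) x y (S.mu x y a) := by
  have hc := hI.i0_mu_comm h hV.sx hV.sy ha a1 (Or.inr e)
  refine ⟨hc, hV.sx, hV.sy, hI.ne, mem_St_fix hc, S.mu_x hI.ne ha a1, S.mu_y hI.ne ha a1,
    by rw [hI.mu_sq h ha a1]; exact one_mem _, fun b hb b1 eb hw => ?_⟩
  obtain ⟨hbU, hbs⟩ := (S.mem_UD_fix hI.ne hV.sx hV.sy).1 hb
  refine S.an0 h.even hI.ne (hI.comm h) hV.sx hV.sy (i0_sq hV.s2) (ε := 1) (Or.inl rfl) ha hbU a1 b1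
    (hI.spec h ha a1) (hI.spec h hbU b1) (by rw [e, zpow_neg_one]) ?_
    ((hI.i0_mu_comm h hV.sx hV.sy hbU b1 (Or.inl hbs)).mul_left hc) eb fun u hu eu => ?_
  · rw [zpow_one, ← hbs.eq, mul_inv_cancel_right]
  · rw [zpow_one] at eu
    have hus : Commute u s := by
      rw [Commute, SemiconjBy]
      calc u * s = s * u * s⁻¹ * s := by rw [eu]
        _ = _ := by group
    have hx : x ∈ fixedBy Ω s := hV.sx
    have hy : y ∈ fixedBy Ω s := hV.sy
    exact (S.commute_L_W ⟨y, hy, x, hx, hI.ne⟩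
      (S.UD_le_L hx ((S.mem_UD_fix hI.ne hV.sx hV.sy).2 ⟨hu, hus⟩)) hw).symm

theorem i0_inv_iff (h : S.Ctx) (hI : S.I0 x y t) {a : G} (ha : a ∈ S.U x) :
    Commute a (t * s) ↔ s * a * s⁻¹ = a⁻¹ := by
  have e := hI.inv h _ (inv_mem ha)
  rw [inv_inv] at e
  constructor
  · intro c
    have : t * (s * a * s⁻¹) * t⁻¹ = t * a⁻¹ * t⁻¹ := by
      rw [e]
      calc t * (s * a * s⁻¹) * t⁻¹ = t * s * a * (t * s)⁻¹ := by group
        _ = a := by rw [← c.eq, mul_inv_cancel_right]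
    exact mul_left_cancel (mul_right_cancel this)
  · intro c
    rw [Commute, SemiconjBy]
    calc a * (t * s) = t * a⁻¹ * t⁻¹ * (t * s) := by rw [e]
      _ = t * (s * a * s⁻¹) * s := by rw [c]; group
      _ = _ := by group

theorem i0_om (h : S.Ctx) (hI : S.I0 x y t) (hV : V4 x y t s) {r : G} (rx : r • x = x)
    (ry : r • y = y) (r2 : r * r = 1) (hc : Commute r s) :
    (∀ u ∈ S.U x, Commute u s → r * u * r⁻¹ = u) ∨
      ∀ u ∈ S.U x, Commute u s → r * u * r⁻¹ = u⁻¹ := by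
  have hrt := hI.cen h (Or.inl ⟨rx, ry⟩)
  have hV' := hV.mul
  have hL' := (hI.lt h hV').1
  have hx' : x ∈ fixedBy Ω (t * s) := hV'.sx
  have hcard := hL'.cl.card_UD hx' hL'.nontrivial
  have h4 := hL'.four
  have hle : S.UD (fixedBy Ω (t * s)) x ≤ S.U x := inf_le_left
  have hne : S.UD (fixedBy Ω (t * s)) x ≠ ⊥ := fun e => by
    rw [e, card_bot] at hcard
    omega
  obtain ⟨⟨u, hu⟩, u1⟩ := ne_bot_iff_exists_ne_one.1 hne
  have u1' : u ≠ 1 := fun e => u1 (Subtype.ext e)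
  obtain ⟨c, hc', w, hw, e, h1, h2, -⟩ := odd_dec
    ((h.odd_U x).of_dvd_nat (card_dvd_of_le hle)) r2
    (fun u hu => S.conj_mem_UD (mem_St_fix (hrt.mul_right hc)) rx hu) hu
  obtain ⟨a, ha, a1, ea⟩ : ∃ a ∈ S.UD (fixedBy Ω (t * s)) x, a ≠ 1 ∧
      (Commute a r ∨ r * a * r⁻¹ = a⁻¹) := by
    by_cases c1 : c = 1
    · exact ⟨w, hw, fun w1 => u1' (by rw [e, c1, w1, one_mul]), Or.inr h2⟩
    · exact ⟨c, hc', c1, Or.inl h1⟩
  obtain ⟨haU, has⟩ := (S.mem_UD_fix hI.ne hV'.sx hV'.sy).1 ha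
  have hA := (hI.an h hV haU a1 ((hI.i0_inv_iff h haU).1 has)).2
  have hm := hI.i0_mu_comm h rx ry haU a1 ea
  have hL := (hI.lt h hV).1
  have hx : x ∈ fixedBy Ω s := hV.sx
  rcases hL.an_a hA (mem_St_fix hc) rx ry (by rw [r2]; exact one_mem _)
    (by rw [← hm.eq, mul_inv_cancel_right, mul_inv_cancel]; exact one_mem _) with hW | hW
  · left
    intro u hu hs
    have := S.commute_L_W hL.nontrivial
      (S.UD_le_L hx ((S.mem_UD_fix hI.ne hV.sx hV.sy).2 ⟨hu, hs⟩)) hW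
    rw [← this.eq, mul_inv_cancel_right]
  · exact Or.inr fun u hu hs => hW u ((S.mem_UD_fix hI.ne hV.sx hV.sy).2 ⟨hu, hs⟩)

theorem i0_dec (h : S.Ctx) (hI : S.I0 x y t) (hV : V4 x y t s) {u : G} (hu : u ∈ S.U x) :
    ∃ b ∈ S.U x, ∃ a ∈ S.U x, u = b * a ∧ Commute b s ∧ Commute a (t * s) := by
  obtain ⟨c, hc, w, hw, e, h1, h2, -⟩ := odd_dec (h.odd_U x) (i0_sq hV.s2)
    (fun u hu => S.conj_fix hV.sx hu) hu
  exact ⟨c, hc, w, hw, e, h1, (hI.i0_inv_iff h hw).2 h2⟩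

/-- The involutions of the two-point stabilizer commuting with `s`. -/
theorem omega (h : S.Ctx) (hI : S.I0 x y t) (hV : V4 x y t s) {r : G} (rx : r • x = x)
    (ry : r • y = y) (r2 : r * r = 1) (hc : Commute r s) : r = 1 ∨ r = t ∨ r = s ∨ r = t * s := by
  have hrt := hI.cen h (Or.inl ⟨rx, ry⟩)
  have hV' := hV.mul
  have key : ∀ r' : G, r' • x = x → r' • y = y →
      (∀ u ∈ S.U x, Commute u s → r * u * r⁻¹ = r' * u * r'⁻¹) →
      (∀ u ∈ S.U x, Commute u (t * s) → r * u * r⁻¹ = r' * u * r'⁻¹) → r = r' := by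
    intro r' h1 h2 h3 h4
    refine i0_eq h hI.ne rx ry h1 h2 fun u hu => ?_
    obtain ⟨b, hb, a, ha, rfl, hbs, has⟩ := hI.i0_dec h hV hu
    calc r * (b * a) * r⁻¹ = (r * b * r⁻¹) * (r * a * r⁻¹) := by group
      _ = _ := by rw [h3 b hb hbs, h4 a ha has]; group
  have ets : t * (t * s) = s := by rw [← mul_assoc, i0_sq hI.two, one_mul]
  rcases hI.i0_om h hV rx ry r2 hc with h1 | h1 <;>
    rcases hI.i0_om h hV' rx ry r2 (hrt.mul_right hc) with h2 | h2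
  · exact Or.inl (key 1 (one_smul _ _) (one_smul _ _) (fun u hu e => by rw [h1 u hu e]; simp)
      fun u hu e => by rw [h2 u hu e]; simp)
  · refine Or.inr (Or.inr (Or.inl (key s hV.sx hV.sy (fun u hu e => ?_) fun u hu e => ?_)))
    · rw [h1 u hu e, ← e.eq, mul_inv_cancel_right]
    · rw [h2 u hu e, (hI.i0_inv_iff h hu).1 e]
  · refine Or.inr (Or.inr (Or.inr (key _ hV'.sx hV'.sy (fun u hu e => ?_) fun u hu e => ?_)))
    · rw [h1 u hu e, (hI.i0_inv_iff h hu).1 (ets.symm ▸ e)]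
    · rw [h2 u hu e, ← e.eq, mul_inv_cancel_right]
  · exact Or.inr (Or.inl (key t hI.tx hI.ty (fun u hu e => by rw [h1 u hu e, hI.inv h u hu])
      fun u hu e => by rw [h2 u hu e, hI.inv h u hu]))

theorem mu_ne (h : S.Ctx) (hI : S.I0 x y t) (hV : V4 x y t s) {c : G} (hc : c ∈ S.U x)
    (c1 : c ≠ 1) : S.mu x y c * s * (S.mu x y c)⁻¹ ≠ t * s := by
  intro e
  have hV' := hV.mul
  have hn : ¬ Commute (S.mu x y c) s := fun hm => by
    rw [hm.eq, mul_inv_cancel_right, eq_comm, mul_eq_right] at e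
    exact i0_ne hI.two e
  obtain ⟨b, hb, a, ha, ec, hbs, has⟩ := hI.i0_dec h hV hc
  have hsa := (hI.i0_inv_iff h ha).1 has
  have a1 : a ≠ 1 := fun a1 => hn (hI.i0_mu_comm h hV.sx hV.sy hc c1
    (Or.inl (by rw [ec, a1, mul_one]; exact hbs)))
  have b1 : b ≠ 1 := fun b1 => hn (hI.i0_mu_comm h hV.sx hV.sy hc c1
    (Or.inr (by rw [ec, b1, one_mul]; exact hsa)))
  have hac : a ≠ c := fun e' => b1 (by rw [ec, eq_comm, mul_eq_right] at e'; exact e')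
  have hp := (S.pair hI.ne ha hc a1 c1 hac (hI.spec h ha a1) (hI.spec h hc c1) (hI.comm h a ha c hc)
    (hI.swap.comm h _ S.de_mem _ S.de_mem)).1
  have e1 : a * c⁻¹ = b⁻¹ := by rw [ec]; group
  have max := S.mu_x hI.ne ha a1
  have may := S.mu_y hI.ne ha a1
  rw [e1, inv_eq_of_mul_eq_one_right (hI.mu_sq h ha a1),
    (hI.spec h hb b1).ap_inv hI.ne max may hb b1] at hp
  obtain ⟨hm, hA⟩ := hI.an h hV ha a1 hsa
  have q1 := (S.ap_swap hI.ne max may hb b1).2.1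
  have p1 := (S.ap_swap hI.ne (S.mu_x hI.ne hc c1) (S.mu_y hI.ne hc c1) (inv_mem hb)
    (inv_ne_one.2 b1)).2.1
  set q := S.ap x y (S.mu x y a) b with hq
  set p := S.ap x y (S.mu x y c) b⁻¹ with hp'
  have hqU : q ∈ S.U x := S.ap_mem
  have hpU : p ∈ S.U x := S.ap_mem
  have hqs : Commute q s := Basic.comm hqU hI.ne hV.sx hV.sy (by
    rw [q1, ← mul_smul, ← hm.eq, mul_smul, ← mul_smul s, ← hbs.eq, mul_smul, hV.sy])
  have hps : Commute p (t * s) := Basic.comm hpU hI.ne hV'.sx hV'.sy (by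
    rw [p1, ← e, Basic.sm, ← mul_smul s, ← hbs.inv_left.eq, mul_smul, hV.sy])
  have ed : b * q⁻¹ = a⁻¹ * a⁻¹ * p := by
    have hab := (hI.comm h a ha b hb).eq
    have : p = c * (a * q⁻¹) := by rw [← hp]; group
    rw [this, ec]
    calc b * q⁻¹ = a⁻¹ * (a⁻¹ * (a * (a * b))) * q⁻¹ := by group
      _ = a⁻¹ * (a⁻¹ * ((a * b) * a)) * q⁻¹ := by rw [hab, ← mul_assoc a b a, hab]
      _ = _ := by rw [hab]; group
  have d1 : Commute (b * q⁻¹) s := hbs.mul_left hqs.inv_left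
  have d2 : Commute (b * q⁻¹) (t * s) := by
    rw [ed]
    exact (has.inv_left.mul_left has.inv_left).mul_left hps
  have d3 : Commute (b * q⁻¹) t := by
    have := d2.mul_right d1
    rwa [mul_assoc, i0_sq hV.s2, mul_one] at this
  have d4 := hI.i0_one (mul_mem hb (inv_mem hqU)) d3
  rw [mul_inv_eq_one] at d4
  obtain ⟨hL, h4⟩ := hI.lt h hV
  exact hL.an_b h4 hA ((S.mem_UD_fix hI.ne hV.sx hV.sy).2 ⟨hb, hbs⟩) b1 (by rw [← q1, ← d4])

end Sp.I0

end Cfsg.Agent.HKS
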