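import Mathlib
import Cfsg.Agent.HKS.I0

/-! Piece I2: no involution interchanges `s` and `t * s` -/

set_option autoImplicit false

namespace Cfsg.Agent.HKS

open Subgroup MulAction Cfsg.Agent.TT Cfsg.Agent.Perm.TT Cfsg.Agent.Cl.L2
open Cfsg.Agent.KS (St)
open scoped MatrixGroups Pointwise commutatorElement

namespace I2

variable {F : Type*} [Field F] [Fintype F]

/-- An additive map that intertwines a non-square scalar with its inverse vanishes. -/
theorem tw_zero (h2 : (2 : F) ≠ 0) (h1 : IsSquare (-1 : F)) {κ κ' : F} (hκ : ¬ IsSquare κ) (e : κ * κ' = 1)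
    {A : F → F} (add : ∀ a b, A (a + b) = A a + A b) (hA : ∀ a, A (κ * a) = κ' * A a) (a : F) : A a = 0 := by
  by_contra n
  have c2 : ringChar F ≠ 2 := fun c => h2 (by simpa [c] using ringChar.Nat.cast_ringChar (R := F))
  have p : ∀ m a, A ((1 + κ) ^ m * a) = (1 + κ') ^ m * A a := fun m => by
    induction m with
    | zero => simp
    | succ m ih => exact fun a => by rw [pow_succ', mul_assoc, add_mul, one_mul, add, hA, ih]; ring
  have η0 : 1 + κ ≠ 0 := fun z => hκ (eq_neg_of_add_eq_zero_right z ▸ h1)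
  have q : (1 + κ') ^ (Fintype.card F / 2) = (1 + κ) ^ (Fintype.card F / 2) := by
    refine mul_right_cancel₀ n ((p _ a).symm.trans ?_)
    rcases FiniteField.pow_dichotomy c2 η0 with k | k <;> rw [k]
    · rw [one_mul, one_mul]
    · have z : A 0 = 0 := by simpa using add 0 0
      have := add (-1 * a) a
      rw [neg_one_mul, neg_add_cancel, z] at this
      rw [neg_one_mul, neg_one_mul]
      exact eq_neg_of_add_eq_zero_left this.symm
  refine hκ ((FiniteField.isSquare_iff c2 (left_ne_zero_of_mul_eq_one e)).2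
    (mul_right_cancel₀ (pow_ne_zero (Fintype.card F / 2) η0) ?_))
  rw [one_mul, ← q, ← mul_pow, q, mul_add, e, mul_one, add_comm]

/-- An element commuting with `g` preserves the eigenspace of `s`. -/
theorem step {G : Type*} [Group G] (h2 : (2 : F) ≠ 0) (h1 : IsSquare (-1 : F)) {κ κ' : F} (hκ : ¬ IsSquare κ)
    (e : κ * κ' = 1) {U : Subgroup G} (hc : ∀ u ∈ U, ∀ v ∈ U, Commute u v) {s k g : G} (s2 : s * s = 1)
    (ns : ∀ u ∈ U, s * u * s⁻¹ ∈ U) (nk : ∀ u ∈ U, k * u * k⁻¹ ∈ U) (gs : Commute g s) (gk : Commute g k)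
    {e1 e2 : F → G} (m1 : ∀ a, e1 a ∈ U) (a1 : ∀ a b, e1 (a + b) = e1 a * e1 b)
    (a2 : ∀ a b, e2 (a + b) = e2 a * e2 b) (i2 : Function.Injective e2)
    (su : ∀ u ∈ U, s * u * s⁻¹ = u⁻¹ → ∃ a, u = e2 a) (g1 : ∀ a, g * e1 a * g⁻¹ = e1 (κ * a))
    (g2 : ∀ a, g * e2 a * g⁻¹ = e2 (κ' * a)) (a : F) : Commute (k * e1 a * k⁻¹) s := by
  have m := fun a => nk _ (m1 a)
  choose A hA using fun a => su (k * e1 a * k⁻¹ * (s * (k * e1 a * k⁻¹) * s⁻¹)⁻¹)
    (mul_mem (m a) (inv_mem (ns _ (m a)))) (by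
      rw [inv_eq_of_mul_eq_one_right s2, mul_inv_rev (k * e1 a * k⁻¹), inv_inv]
      generalize k * e1 a * k⁻¹ = v
      calc _ = s * v * s⁻¹ * (s * s⁻¹ * v⁻¹ * (s * s)⁻¹ * s * s) := by group
        _ = _ := by rw [s2, inv_eq_of_mul_eq_one_right s2, s2, inv_one, one_mul, mul_one, mul_assoc v⁻¹, s2, mul_one])
  have z := tw_zero h2 h1 hκ e (A := A) (fun a b => i2 ?_) (fun a => i2 ?_) a
  · have z0 : e2 0 = 1 := by simpa using a2 0 0
    have := hA a
    rw [z, z0, mul_inv_eq_one, eq_mul_inv_iff_mul_eq] at this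
    exact this
  · rw [a2, ← hA, ← hA, ← hA, a1, ← conj_mul, ← conj_mul, mul_inv_rev, (hc _ (ns _ (m a)) _ (ns _ (m b))).inv_inv.symm.eq,
      mul_assoc (k * e1 a * k⁻¹), mul_assoc (k * e1 a * k⁻¹), ← mul_assoc (k * e1 b * k⁻¹),
      (hc _ (m b) _ (ns _ (m a))).inv_right.eq, mul_assoc _ (k * e1 b * k⁻¹)]
  · rw [← g2, ← hA, ← hA, ← g1]
    have k1 : k * (g * e1 a * g⁻¹) * k⁻¹ = g * (k * e1 a * k⁻¹) * g⁻¹ := by
      rw [← mul_assoc, ← mul_assoc, ← gk.eq, mul_assoc _ g⁻¹, gk.inv_inv.eq]; group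
    rw [k1]
    generalize k * e1 a * k⁻¹ = v
    have k2 : s * (g * v * g⁻¹) * s⁻¹ = g * (s * v * s⁻¹) * g⁻¹ := by
      rw [← mul_assoc, ← mul_assoc, ← gs.eq, mul_assoc _ g⁻¹, gs.inv_inv.eq]; group
    rw [k2]
    group

omit [Fintype F] in
theorem up_add (a b : F) : up (a + b) = up a * up b := by
  ext i j
  rw [Matrix.SpecialLinearGroup.coe_mul]
  fin_cases i <;> fin_cases j <;> simp [up, Matrix.mul_apply, Fin.sum_univ_two, add_comm]

end I2

open I2

variable {G Ω : Type*} [Group G] [MulAction G Ω] [Finite G] [Finite Ω] {S : Sp G Ω}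
  {Δ Δ' : Set Ω} {x y : Ω}

theorem Sp.I0.no_swap {t s r : G} (h : S.Ctx) (hI : S.I0 x y t) (hV : V4 x y t s) (rx : r • x = x)
    (ry : r • y = y) (r2 : r * r = 1) : r * s * r⁻¹ ≠ t * s := by
  intro e
  have sq : ∀ r : G, orderOf r = 2 → r * r = 1 := fun r hr => by rw [← pow_two, ← hr, pow_orderOf_eq_one]
  have s2 := sq s hV.s2
  have ri := inv_eq_of_mul_eq_one_right r2
  have ne := hV.ne
  have hc := hI.comm h
  obtain ⟨hL, h4⟩ := hI.lt h hV
  obtain ⟨F, _, _, E, π, H, rfl, rfl, n⟩ := hL.exists_lc (x := x) (y := y) hV.sx hV.sy ne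
  have h1 : IsSquare (-1 : F) := FiniteField.isSquare_neg_one_iff.2 (by omega)
  have mU : ∀ a, π (up a) ∈ S.U (E inf) := H.up_mem
  have cs : ∀ a, Commute (π (up a)) s := fun a => ((Sp.mem_UD_fix ne hV.sx hV.sy).1 (H.b_up_UD a)).2
  have su : ∀ u ∈ S.U (E inf), Commute u s → ∃ a, u = π (up a) := fun u hu c =>
    H.ud u ((Sp.mem_UD_fix ne hV.sx hV.sy).2 ⟨hu, c⟩)
  have iv : ∀ u ∈ S.U (E inf), ∀ s' : G, s' • E inf = E inf → (s' * u * s'⁻¹ = u⁻¹ ↔ Commute u (t * s')) :=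
    fun u hu s' f => by
      rw [commute_iff_eq, @eq_comm _ (u * _), ← @mul_inv_eq_iff_eq_mul _ _ (t * s' * u), show t * s' * u * (t * s')⁻¹ = t * (s' * u * s'⁻¹) * t⁻¹ by
        group, hI.inv h _ (Sp.conj_fix f hu), inv_eq_iff_eq_inv]
  have ct : ∀ a, Commute (r * π (up a) * r⁻¹) (t * s) := fun a => e ▸ (cs a).map (MulAut.conj r)
  have su' : ∀ u ∈ S.U (E inf), Commute u (t * s) → ∃ a, u = r * π (up a) * r⁻¹ := fun u hu c => by
    obtain ⟨a, ha⟩ := su _ (Sp.conj_fix (inv_smul_eq_iff.2 rx.symm) hu) (by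
      simpa [← e, mul_assoc] using c.map (MulAut.conj r⁻¹))
    exact ⟨a, by rw [← ha]; group⟩
  have inj : Function.Injective fun a => π (up a) := fun a b e => by
    have := H.b_up_pt a 0
    rwa [show π (up a) = π (up b) from e, H.b_up_pt, H.b_pt_inj, zero_add, zero_add, eq_comm] at this
  set b := π (up 1) with hb
  set a := r * b * r⁻¹ with ha
  have bU : b ∈ S.U (E inf) := mU 1
  have aU : a ∈ S.U (E inf) := Sp.conj_fix rx bU
  have b2 : b * b ≠ 1 := by rw [hb, ← map_mul, ← up_add, one_add_one_eq_two]; exact H.b_up_ne.2 H.two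
  have a2 : a * a ≠ 1 := by rwa [ha, conj_mul, Ne, conj_eq_one_iff]
  have b1 : b ≠ 1 := fun z => b2 (by rw [z, one_mul])
  have a1 : a ≠ 1 := fun z => a2 (by rw [z, one_mul])
  have sa : s * a * s⁻¹ = a⁻¹ := (iv a aU s hV.sx).2 (ct 1)
  have sb : s * b * s⁻¹ = b := by rw [← (cs 1).eq, mul_inv_cancel_right]
  have ab : a ≠ b := fun z => b2 (by rw [z, sb] at sa; exact mul_eq_one_iff_eq_inv.2 sa)
  have cU : b * a⁻¹ ∈ S.U (E inf) := mul_mem bU (inv_mem aU)
  have c1 : b * a⁻¹ ≠ 1 := fun z => ab (mul_inv_eq_one.1 z).symm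
  obtain ⟨ms, an⟩ := hI.an h hV aU a1 sa
  obtain ⟨l, nl, el⟩ := H.an an
  have l0 : l ≠ 0 := fun z => nl (by simp [z])
  obtain ⟨-, m1, m2, m3⟩ := H.b_mu_pt (b := 1) one_ne_zero
  have pr := (Sp.pair ne aU bU a1 b1 ab (hI.spec h aU a1) (hI.spec h bU b1) (hc _ aU _ bU)
    (hI.swap.comm h _ Sp.de_mem _ Sp.de_mem)).2.2
  have ma := hI.mu_sq h aU a1
  have mb := hI.mu_sq h bU b1
  have ra := Sp.mu_conj ne rx ry aU a1
  have rb := Sp.mu_conj ne rx ry bU b1
  have bs := Sp.mu_conj ne hV.sx hV.sy bU b1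
  have cc := Sp.mu_conj ne hV.sx hV.sy cU c1
  have cx := Sp.mu_x ne cU c1
  have cy := Sp.mu_y ne cU c1
  have mi := hI.mu_inj h cU c1 (mul_mem bU aU) (fun z => a2 (by
    have := congrArg (fun v => s * v * s⁻¹) z
    simp only [← conj_mul, sa, sb, mul_one, mul_inv_cancel, mul_inv_eq_one] at this
    rwa [this] at z))
  rw [show r * a * r⁻¹ = b by rw [ha, ri, show r * (r * b * r) * r = r * r * b * (r * r) by group, r2, one_mul,
    mul_one]] at ra
  rw [sb, mul_inv_eq_iff_eq_mul] at bs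
  rw [← conj_mul, sb, ← conj_inv, sa, inv_inv] at cc
  rw [← hb] at m1 m2 m3
  rw [← ha] at rb
  generalize S.mu (E inf) (E (pt 0)) a = μa at *
  generalize S.mu (E inf) (E (pt 0)) b = μb at *
  generalize S.mu (E inf) (E (pt 0)) (b * a⁻¹) = μc at *
  have gi : (μb * μa)⁻¹ = μa * μb := by
    rw [mul_inv_rev, inv_eq_of_mul_eq_one_right ma, inv_eq_of_mul_eq_one_right mb]
  have gx : (μb * μa) • E inf = E inf := by rw [mul_smul, an.sx, m2]
  have gy : (μb * μa) • E (pt 0) = E (pt 0) := by rw [mul_smul, an.sy, m1]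
  have kx : (μc * μa) • E inf = E inf := by rw [mul_smul, an.sx, cy]
  have ky : (μc * μa) • E (pt 0) = E (pt 0) := by rw [mul_smul, an.sy, cx]
  have g1 : ∀ z, μb * μa * π (up z) * (μb * μa)⁻¹ = π (up ((-l)⁻¹ * z)) := fun z => by
    refine Sp.ext_U (Sp.conj_fix gx (mU z)) (mU _) ne ?_
    rw [mul_smul, mul_smul, inv_smul_eq_iff.2 gy.symm, H.b_up_pt, H.b_up_pt, zero_add, zero_add]
    by_cases z0 : z = 0
    · rw [z0, gy, mul_zero]
    · rw [mul_smul, el z z0, m3 _ (div_ne_zero l0 z0), H.b_pt_inj]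
      field_simp
  have g2 : ∀ z, μb * μa * (r * π (up z) * r⁻¹) * (μb * μa)⁻¹ = r * π (up (-l * z)) * r⁻¹ := fun z => by
    have := g1 (-l * z)
    rw [inv_mul_cancel_left₀ (neg_ne_zero.2 l0)] at this
    have rg : μb * μa = r * (μb * μa)⁻¹ * r⁻¹ := by rw [gi, ← conj_mul, ra, rb]
    generalize μb * μa = g at this rg ⊢
    calc _ = r * g⁻¹ * r⁻¹ * (r * π (up z) * r⁻¹) * (r * g⁻¹ * r⁻¹)⁻¹ := by rw [← rg]
      _ = _ := by rw [← this]; group
  have gs : Commute (μb * μa) s := (show Commute μb s from bs.symm).mul_left ms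
  have gk : Commute (μb * μa) (μc * μa) := by
    rw [commute_iff_eq, ← mul_assoc, pr]
    group
  have nk := fun u (hu : u ∈ S.U (E inf)) => Sp.conj_fix kx hu
  have ad : ∀ a b, π (up (a + b)) = π (up a) * π (up b) := fun a b => by rw [up_add, map_mul]
  have ad' : ∀ a b, r * π (up (a + b)) * r⁻¹ = r * π (up a) * r⁻¹ * (r * π (up b) * r⁻¹) := fun a b => by
    rw [ad, conj_mul]
  have k1 := step H.two h1 (fun z => nl (by simpa using z.inv)) (inv_mul_cancel₀ (neg_ne_zero.2 l0)) hc s2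
    (fun u hu => Sp.conj_fix hV.sx hu) nk gs gk mU ad ad' (fun a b z => inj (mul_left_cancel (mul_right_cancel z)))
    (fun u hu z => su' u hu ((iv u hu s hV.sx).1 z)) g1 g2
  have k2 := step H.two h1 nl (mul_inv_cancel₀ (neg_ne_zero.2 l0)) hc (sq _ hV.mul.s2)
    (fun u hu => Sp.conj_fix hV.mul.sx hu) nk ((hI.cen h (.inl ⟨gx, gy⟩)).mul_right gs) gk
    (fun a => Sp.conj_fix rx (mU a)) ad' ad inj
    (fun u hu z => su u hu (by simpa [← mul_assoc, sq t hV.t2] using (iv u hu _ hV.mul.sx).1 z)) g2 g1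
  have kt := hI.cen h (.inl ⟨kx, ky⟩)
  generalize hk : μc * μa = k at *
  have ks : s⁻¹ * (k⁻¹ * s * k) = 1 := h.two.faith _ (Sp.fix_all (S := S) ne
    (by rw [mul_smul, mul_smul, mul_smul, kx, hV.sx, inv_smul_eq_iff.2 kx.symm, inv_smul_eq_iff.2 hV.sx.symm])
    (by rw [mul_smul, mul_smul, mul_smul, ky, hV.sy, inv_smul_eq_iff.2 ky.symm, inv_smul_eq_iff.2 hV.sy.symm])
    fun u hu => by
      obtain ⟨c, hc', w, hw, rfl, c2, w2, -⟩ := odd_dec (Sp.odd_U h.even ne) s2 (fun u hu => Sp.conj_fix hV.sx hu) hu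
      obtain ⟨z, rfl⟩ := su c hc' c2
      have w3 := (iv w hw s hV.sx).1 w2
      obtain ⟨z', rfl⟩ := su' w hw w3
      refine Commute.mul_left (c2.inv_right.mul_right (by simpa [mul_assoc] using (k1 z).map (MulAut.conj k⁻¹))) ?_
      rw [show s⁻¹ * (k⁻¹ * s * k) = (t * s)⁻¹ * (k⁻¹ * (t * s) * k) by
        rw [← mul_assoc k⁻¹ t, kt.inv_left.eq]; group]
      exact w3.inv_right.mul_right (by simpa [mul_assoc] using (k2 z').map (MulAut.conj k⁻¹)))
  have sc : s * μc * s⁻¹ = μc := by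
    have : Commute k s := by
      rw [inv_mul_eq_one, mul_assoc, eq_inv_mul_iff_mul_eq] at ks
      exact ks
    rw [eq_mul_inv_iff_mul_eq.2 hk, ← (this.mul_left ms.inv_left).eq, mul_inv_cancel_right]
  rcases mi (cc.symm.trans sc) with z | z
  · exact a2 (mul_eq_one_iff_eq_inv.2 (mul_left_cancel z))
  · rw [mul_inv_rev, inv_inv, (hc _ bU _ aU).eq] at z
    exact b2 (mul_eq_one_iff_eq_inv.2 (mul_left_cancel z))

end Cfsg.Agent.HKS
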