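import Mathlib
import Cfsg.Agent.HKS.L2a
import Cfsg.Agent.S0813
import Cfsg.Agent.Cl.LinearIso

/-! Piece L2b: `PSL₂(q)` in a non-defining characteristic -/

set_option autoImplicit false
set_option linter.unusedSectionVars false

namespace Cfsg.Agent.HKS

open Subgroup MulAction Cfsg.Agent.TT Cfsg.Agent.Perm.TT Cfsg.Agent.Cl.L2
open Cfsg.Agent.KS (St)
open scoped MatrixGroups Pointwise commutatorElement

theorem l2b_arith {r f q d t n m y : ℕ} (hq : q = r ^ f) (h4 : 4 ≤ q)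
    (hd : (r = 2 ∧ d = 1) ∨ (3 ≤ r ∧ d = 2)) (ht : t * d = q - 1 ∨ t * d = q + 1)
    (hn : 2 * t * n * d = q * (q - 1) * (q + 1)) (hU : y * m + 1 = n) (hy : y ≤ t) (hm : m ≤ f) :
    (q = 4 ∧ n = 6) ∨ q = 8 := by
  have h1 : y * m ≤ t * f := Nat.mul_le_mul hy hm
  have hn' : 2 * n * (t * d) = q * (q - 1) * (q + 1) := by rw [← hn]; ring
  rcases ht with ht | ht
  · exfalso
    have h2 : 2 * f ≤ q := (Nat.mul_le_pow (by norm_num) f).trans
      (hq ▸ Nat.pow_le_pow_left (by omega) f)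
    obtain ⟨k, rfl⟩ : ∃ k, q = k + 1 := ⟨q - 1, by omega⟩
    rw [ht, Nat.add_sub_cancel, mul_right_comm (k + 1)] at hn'
    have h3 := Nat.eq_of_mul_eq_mul_right (show 0 < k by omega) hn'
    rw [Nat.add_sub_cancel] at ht
    have h5 : t ≤ k := by rcases hd with ⟨-, rfl⟩ | ⟨-, rfl⟩ <;> omega
    have h6 : t * (2 * f) ≤ k * (k + 1) := Nat.mul_le_mul h5 h2
    nlinarith
  · rw [ht] at hn'
    have h3 := Nat.eq_of_mul_eq_mul_right (by omega) hn'
    obtain ⟨k, rfl⟩ : ∃ k, q = k + 2 := ⟨q - 2, by omega⟩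
    have h5 : t * (k * d) ≤ t * (2 * f) := by
      have : t * (k * d) = k * (t * d) := by ring
      rw [this, ht]
      have : k + 2 - 1 = k + 1 := by omega
      rw [this] at h3
      nlinarith
    have h6 := Nat.le_of_mul_le_mul_left h5 (Nat.pos_of_ne_zero (by rintro rfl; omega))
    rcases hd with ⟨rfl, rfl⟩ | ⟨hr, rfl⟩
    · by_cases hf : 4 ≤ f
      · obtain ⟨j, rfl⟩ := Nat.exists_eq_add_of_le hf
        have := Nat.lt_two_pow_self (n := j)
        rw [pow_add] at hq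
        omega
      · have hf' : f ≤ 3 := by omega
        interval_cases f
        · omega
        · omega
        · obtain rfl : k = 2 := by omega
          exact Or.inl ⟨rfl, by omega⟩
        · exact Or.inr (by omega)
    · exfalso
      by_cases hf : 2 ≤ f
      · obtain ⟨j, rfl⟩ := Nat.exists_eq_add_of_le hf
        have h7 := Nat.lt_pow_self (n := j) (show 1 < 3 by norm_num)
        have h8 : 3 ^ (2 + j) ≤ r ^ (2 + j) := Nat.pow_le_pow_left hr _
        rw [pow_add 3] at h8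
        omega
      · omega

variable {G Ω : Type*} [Group G] [MulAction G Ω] [Finite G] [Finite Ω] {S : Sp G Ω}
  {Δ Δ' : Set Ω} {x y : Ω}

/-- The group embeds in the automorphism group of its socle. -/
theorem l2b_dvd_aut {M : Subgroup G} (hM : MM M) {K : Type*} [Group K] (e : M ≃* K) :
    Nat.card K * M.index ∣ Nat.card (MulAut K) := by
  have := hM.normal
  rw [← Nat.card_congr e.toEquiv, M.card_mul_index, ← Nat.card_congr (MulAut.congr e).toEquiv]
  refine card_dvd_of_injective (MulAut.conjNormal (H := M)) ((injective_iff_map_eq_one _).2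
    fun g hg => mem_bot.1 (hM.cen ▸ mem_centralizer_iff.2 fun m hm => ?_))
  have := congrArg (fun φ : MulAut M => (φ ⟨m, hm⟩ : G)) hg
  exact (mul_inv_eq_iff_eq_mul.1 this).symm

theorem Sp.Ctx.l2b_card (h : S.Ctx) {M : Subgroup G} (hM : MM M) (x : Ω) :
    Nat.card ↥(S.U x ⊓ M) * M.index + 1 = Nat.card Ω := by
  have := hM.normal
  rw [← relIndex_top_right, ← h.sup_U hM x, relIndex_sup_left, card_inf_mul_relIndex, h.card_U]

theorem Sp.Ctx.l2b_prime (h : S.Ctx) {M : Subgroup G} (hM : MM M) (x : Ω) :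
    ∃ p : ℕ, p.Prime ∧ p ≠ 2 ∧ p ∣ Nat.card ↥(S.U x ⊓ M) := by
  obtain ⟨p, hp, hpd⟩ := Nat.exists_prime_and_dvd
    (fun e => h.U_inf_ne hM x (Subgroup.card_eq_one.1 e))
  refine ⟨p, hp, ?_, hpd⟩
  rintro rfl
  exact (h.odd_U x).not_two_dvd_nat (hpd.trans (card_dvd_of_le inf_le_left))

theorem Sp.Ctx.l2 (h : S.Ctx) (hG : G1 G) : S.TyL Set.univ ∨ (ES8 G ∧ HE G Ω) := by
  obtain ⟨M, hM, F, _, _, h4, ⟨e⟩⟩ := hG
  obtain ⟨x, -⟩ := h.ctx_nontrivial
  obtain ⟨p, hp, hp2, hpd⟩ := h.l2b_prime hM x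
  have := Fact.mk hp
  obtain ⟨r, hr⟩ := CharP.exists F
  obtain ⟨⟨f, hf⟩, hrp, hq⟩ := FiniteField.card F r
  have := Fact.mk hrp
  by_cases hpr : p = r
  · subst hpr
    exact Or.inl (h.l2a hM e hpd)
  obtain ⟨P, X, h1, h2, h3, h5, h6⟩ := h.l2a_syl hM e hpd
  have hP1 : (P : Subgroup PSL(2, F)) ≠ ⊥ := fun h0 => h1 (le_bot_iff.1 (h0 ▸ h2))
  have : Nontrivial (P : Subgroup PSL(2, F)) := (nontrivial_iff_ne_bot _).2 hP1
  have := P.isPGroup'.center_nontrivial
  obtain ⟨⟨⟨g, hgP⟩, hgc⟩, hg1⟩ := exists_ne (1 : center (P : Subgroup PSL(2, F)))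
  have hg1' : g ≠ 1 := fun h0 => hg1 (Subtype.ext (Subtype.ext h0))
  have hgo : ∀ s : ℕ, s.Prime → orderOf g = s → s = p := fun s hs h0 => by
    obtain ⟨k, hk⟩ := P.isPGroup' ⟨g, hgP⟩
    exact (Nat.prime_dvd_prime_iff_eq hs hp).1 (hs.dvd_of_dvd_pow
      (h0 ▸ orderOf_dvd_of_pow_eq_one (congrArg Subtype.val hk)))
  have ht : tau (emb g) ≠ 4 := fun h0 => by
    obtain ⟨z, hz⟩ := exists_mem_uniS h0
    exact hpr (hgo r hrp (orderOf_of_mem_uniS r hz hg1')).symm
  have hPT : (P : Subgroup PSL(2, F)) ≤ torS g := fun a ha => by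
    rw [← centralizer_eq_torS_of_orderOf hg1' fun h0 => hp2 (hgo 2 Nat.prime_two h0).symm,
      mem_centralizer_singleton_iff]
    exact congrArg Subtype.val (mem_center_iff.1 hgc ⟨a, ha⟩)
  rw [normalizer_eq_ntorS ht hPT hP1] at h6
  rw [normalizer_eq_ntorS ht (h2.trans hPT) h1] at h5
  have hn := h.l2a_index hM e fun k => ⟨h5 k, h6 k⟩
  have hY : (S.U x).comap (l2aHom e) ≤ torS g := fun k hk => by
    by_contra hk'
    have h0 := orderOf_of_mem_ntorS ht (h5 k (S.fix x _ hk)) hk'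
    rw [← orderOf_injective _ (l2aHom_injective e)] at h0
    exact (h.odd_U x).not_two_dvd_nat (h0 ▸ orderOf_dvd_natCard _ hk)
  have hy := card_le_of_le hY
  rw [card_comap_of_injective (l2aHom_injective e), l2aHom_range] at hy
  have hq' : Nat.card F = r ^ f := by rw [Nat.card_eq_fintype_card, hq]; rfl
  have h4' : 4 ≤ Nat.card F := by rwa [Nat.card_eq_fintype_card]
  have hd : (r = 2 ∧ Nat.gcd 2 (Nat.card F - 1) = 1) ∨
      (3 ≤ r ∧ Nat.gcd 2 (Nat.card F - 1) = 2) := by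
    by_cases h0 : (2 : F) = 0
    · exact Or.inl ⟨(Nat.prime_dvd_prime_iff_eq hrp Nat.prime_two).1
        ((CharP.cast_eq_zero_iff F r 2).1 (by exact_mod_cast h0)), gcd_of_two_eq_zero h0⟩
    · refine Or.inr ⟨?_, gcd_of_two_ne_zero h0⟩
      have := hrp.two_le
      have : r ≠ 2 := by
        rintro rfl
        exact h0 (by exact_mod_cast CharP.cast_eq_zero F 2)
      omega
  have hm : M.index ≤ f := by
    have h7 := l2b_dvd_aut hM e
    rw [S0813.result r f hf hq 2 le_rfl (fun _ => hq' ▸ h4'), if_pos rfl, one_mul, card_PGL,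
      ← card_PSL_mul, mul_left_comm] at h7
    have h8 := Nat.dvd_of_mul_dvd_mul_left Nat.card_pos h7
    refine Nat.le_of_dvd hf ?_
    rcases hd with ⟨-, h9⟩ | ⟨-, h9⟩
    · rwa [h9, mul_one] at h8
    · rw [h9] at h8
      exact (Nat.coprime_two_right.2 hM.odd).dvd_of_dvd_mul_right h8
  have hc := h.l2b_card hM x
  rcases l2b_arith hq' h4' hd (card_torS_mul_or ht) (n := Nat.card Ω)
    (by rw [← card_ntorS ht, hn, card_mul_index, card_PSL_mul]) hc hy hm with ⟨h7, h8⟩ | h7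
  · have h9 : p ∣ 5 := hpd.trans ⟨M.index, by omega⟩
    obtain rfl := (Nat.prime_dvd_prime_iff_eq hp Nat.prime_five).1 h9
    obtain ⟨e1⟩ := Cl.psl2_four_equiv_alt h7
    obtain ⟨e2⟩ := Cl.psl2_zmod_five_equiv_alt
    exact Or.inl (h.l2a hM (e.trans (e1.trans e2.symm)) hpd)
  · obtain rfl : r = 2 := (Nat.prime_dvd_prime_iff_eq hrp Nat.prime_two).1
      (hrp.dvd_of_dvd_pow (n := 3) ((dvd_pow_self r hf.ne').trans (by rw [← hq', h7]; norm_num)))
    have hc8 : Nat.card ((uniS (inf : P1 F)).map (l2aHom e)) = 8 := by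
      rw [card_map_of_injective (l2aHom_injective e), card_uniS, h7]
    have hi : ¬ 2 ∣ ((uniS (inf : P1 F)).map (l2aHom e)).index := by
      have e1 := ((uniS (inf : P1 F)).map (l2aHom e)).card_mul_index
      have e2 := M.card_mul_index
      have e3 := card_PSL_mul (F := F)
      rw [h7, ← Nat.card_congr e.toEquiv] at e3
      norm_num at e3
      rw [hc8, ← e2, e3] at e1
      obtain ⟨k, hk⟩ := hM.odd
      omega
    obtain ⟨n, hn1, hn2⟩ := exists_mem_ntorS_not_mem ht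
    refine Or.inr ⟨⟨((isPGroup_uniS 2 inf).map (l2aHom e)).toSylow hi, hc8, ?_⟩, l2aHom e n, ?_,
      x, h6 n hn1⟩
    · rintro _ ⟨u, hu, rfl⟩
      rw [← map_mul, show u * u = 1 from emb_injective (by
        rw [map_mul, ← pow_two, pow_char_of_mem_uni 2 hu, map_one]), map_one]
    · rw [orderOf_injective _ (l2aHom_injective e), orderOf_of_mem_ntorS ht hn1 hn2]

end Cfsg.Agent.HKS
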