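import Mathlib
import Cfsg.Agent.HKS.Tr
import Cfsg.Agent.S4593

/-! Piece Lift: from `L univ` to the whole group -/

set_option autoImplicit false

namespace Cfsg.Agent.HKS

open Subgroup MulAction Cfsg.Agent.TT Cfsg.Agent.Perm.TT Cfsg.Agent.Cl.L2
open Cfsg.Agent.KS (St)
open scoped MatrixGroups Pointwise commutatorElement

namespace Lift

theorem comm_of_sq {A : Type*} [Group A] (sq : ∀ a : A, a * a = 1) (a b : A) : a * b = b * a := by
  have inv : ∀ a : A, a⁻¹ = a := fun a => inv_eq_of_mul_eq_one_right (sq a)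
  rw [← inv (a * b), mul_inv_rev, inv, inv]

/-- An involution of `Aut(2³)` normalises no subgroup of odd order transitive on the involutions. -/
theorem aut8 {A : Type*} [Group A] [Finite A] (hc : Nat.card A = 8) (sq : ∀ a : A, a * a = 1)
    {Y : Subgroup (MulAut A)} (ho : Odd (Nat.card Y))
    (tr : ∀ a b : A, a ≠ 1 → b ≠ 1 → ∃ y ∈ Y, y a = b)
    {t : MulAut A} (ht : t * t = 1) (nt : ∀ u ∈ Y, t * u * t⁻¹ ∈ Y) : t = 1 := by
  have cm := comm_of_sq sq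
  have tt : ∀ a, t (t a) = a := fun a => by rw [← MulAut.mul_apply, ht]; rfl
  let φ : A →* A := MonoidHom.mk' (fun a => a * t a) fun a b => by
    rw [map_mul, mul_assoc, mul_assoc, ← mul_assoc b, cm b (t a), mul_assoc]
  have fx : ∀ a, φ a = 1 → t a = a := fun a ha =>
    mul_left_cancel (a := a) ((show a * t a = 1 from ha).trans (sq a).symm)
  have hle : φ.range ≤ φ.ker := by
    rintro _ ⟨a, rfl⟩
    show a * t a * t (a * t a) = 1
    rw [map_mul, tt, cm (t a) a, sq]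
  have hne : ¬ φ.ker ≤ φ.range := fun h => by
    have e := φ.ker.card_mul_index
    rw [index_ker, ← le_antisymm hle h, hc] at e
    generalize Nat.card φ.range = n at e
    have : n ≤ 3 := by nlinarith
    interval_cases n <;> omega
  obtain ⟨b, hb, hb'⟩ := SetLike.not_le_iff_exists.1 hne
  by_contra h1
  obtain ⟨x, hx⟩ : ∃ x, φ x ≠ 1 := by
    by_contra! h
    exact h1 (MulEquiv.ext fun x => fx x (h x))
  obtain ⟨u, hu, e⟩ := tr (φ x) b hx fun h => hb' (h ▸ one_mem _)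
  obtain ⟨c, -, w, -, e', hct, -, hw⟩ := odd_dec ho ht nt hu
  have hm : u⁻¹ * (t * u * t⁻¹) ∈ stabilizer (MulAut A) (φ x) := by
    have h2 : t⁻¹ (φ x) = φ x := by
      rw [inv_eq_of_mul_eq_one_right ht]; exact fx _ (hle ⟨x, rfl⟩)
    show u⁻¹ (t (u (t⁻¹ (φ x)))) = φ x
    rw [h2, e, fx b hb, ← e, ← MulAut.mul_apply, inv_mul_cancel, MulAut.one_apply]
  have hw' : w (φ x) = φ x := zpowers_le.2 hm hw
  refine hb' ⟨c x, ?_⟩
  rw [← e, e', MulAut.mul_apply, hw']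
  show c x * t (c x) = c (x * t x)
  rw [map_mul, ← MulAut.mul_apply, ← hct.eq, MulAut.mul_apply]

theorem aut8' {A : Type*} [Group A] [Finite A] (hc : Nat.card A = 8) (sq : ∀ a : A, a * a = 1)
    {Y : Subgroup (MulAut A)} (ho : Odd (Nat.card Y))
    (tr : ∀ a b : A, a ≠ 1 → b ≠ 1 → ∃ y ∈ Y, y a = b) (k : ℕ)
    {t : MulAut A} (ht : t ^ 2 ^ k = 1) (nt : ∀ u ∈ Y, t * u * t⁻¹ ∈ Y) : t = 1 := by
  induction k generalizing t with
  | zero => simpa using ht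
  | succ k ih =>
    refine aut8 hc sq ho tr (ih (by rw [← pow_two, ← pow_mul, ← pow_succ', ht]) fun u hu => ?_) nt
    have := nt _ (nt u hu)
    rwa [show t * (t * u * t⁻¹) * t⁻¹ = t * t * u * (t * t)⁻¹ by group] at this

variable {G : Type*} [Group G] [Finite G]

/-- The 2-elements of `N(A)` centralise `A`. -/
theorem cent {K A : Subgroup G} [hK : K.Normal] (hA : A ≤ K) (hi : Odd (A.relIndex K))
    (hc : Nat.card A = 8) (sq : ∀ a ∈ A, a * a = 1)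
    (tr : ∀ a ∈ A, ∀ b ∈ A, a ≠ 1 → b ≠ 1 →
      ∃ σ ∈ K, (∀ c ∈ A, σ * c * σ⁻¹ ∈ A) ∧ σ * a * σ⁻¹ = b)
    {g : G} (hg : g ∈ normalizer (A : Set G)) (h2 : El2 g) {a : G} (ha : a ∈ A) :
    g * a * g⁻¹ = a := by
  have sq' : ∀ a : A, a * a = 1 := fun a => Subtype.ext (sq a a.2)
  set N := normalizer (A : Set G) with hN
  let ρ : N →* MulAut A := A.normalizerMonoidHom
  have hρ : ∀ (n : N) (a : A), (ρ n a : G) = n * a * (n : G)⁻¹ := fun _ _ => rfl
  let ρ' := ρ.comp (K.subgroupOf N).subtype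
  have ho : Odd (Nat.card ρ'.range) := by
    rw [← index_ker]
    have h1 : (A.subgroupOf N).subgroupOf (K.subgroupOf N) ≤ ρ'.ker := fun n hn => by
      refine MulEquiv.ext fun a => Subtype.ext ?_
      have := congrArg Subtype.val (comm_of_sq sq' ⟨n.1.1, hn⟩ a)
      exact (hρ n a).trans (mul_inv_eq_iff_eq_mul.2 this)
    refine Odd.of_dvd_nat hi ((index_dvd_of_le h1).trans ?_)
    show (A.subgroupOf N).relIndex (K.subgroupOf N) ∣ _
    rw [← inf_subgroupOf_right K N, relIndex_subgroupOf inf_le_right]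
    exact Dvd.intro _ (relIndex_mul_relIndex A (K ⊓ N) K (le_inf hA le_normalizer) inf_le_left)
  obtain ⟨k, hk⟩ := h2
  have := aut8' hc sq' ho (fun a b ha hb => by
      obtain ⟨σ, hσ, h1, h2⟩ := tr a a.2 b b.2 (fun h => ha (Subtype.ext h)) fun h => hb (Subtype.ext h)
      exact ⟨_, ⟨⟨⟨σ, mem_normalizer_fintype h1⟩, hσ⟩, rfl⟩, Subtype.ext h2⟩) k (t := ρ ⟨g, hg⟩)
    (by rw [← map_pow, show (⟨g, hg⟩ : N) ^ 2 ^ k = 1 from Subtype.ext hk, map_one]) (by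
      rintro _ ⟨n, rfl⟩
      refine ⟨⟨⟨g, hg⟩ * n * ⟨g, hg⟩⁻¹, hK.conj_mem _ n.2 g⟩, ?_⟩
      show ρ _ = ρ _ * ρ _ * _
      rw [← map_inv, ← map_mul, ← map_mul]; rfl)
  rw [← hρ ⟨g, hg⟩ ⟨a, ha⟩, this]; rfl

theorem exists_odd_pow (g : G) : ∃ m, Odd m ∧ El2 (g ^ m) := by
  obtain ⟨k, m, hm, e⟩ := Nat.exists_eq_two_pow_mul_odd (orderOf_pos g).ne'
  exact ⟨m, hm, k, by rw [← pow_mul, mul_comm, ← e, pow_orderOf_eq_one]⟩

/-- All 2-elements lie in `K`. -/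
theorem mem_of_el2 {K : Subgroup G} [hK : K.Normal] (hZ : center K = ⊥) (hO : oddCore K = ⊥)
    (hC : ∀ c : G, (∀ k ∈ K, c * k * c⁻¹ = k) → c = 1) (P : Sylow 2 K)
    (hc : Nat.card (P : Subgroup K) = 8) (sq : ∀ a ∈ (P : Subgroup K), a * a = 1)
    (tr : ∀ a ∈ (P : Subgroup K), ∀ b ∈ (P : Subgroup K), a ≠ 1 → b ≠ 1 →
      ∃ σ : K, (∀ c ∈ (P : Subgroup K), σ * c * σ⁻¹ ∈ (P : Subgroup K)) ∧ σ * a * σ⁻¹ = b)
    {g : G} (h2 : El2 g) : g ∈ K := by
  set A := (P : Subgroup K).map K.subtype with hA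
  have key : ∀ n ∈ normalizer (A : Set G), El2 n → n ∈ K := fun n hn h2 => by
    have h1 : ∀ a ∈ A, n * a * n⁻¹ = a := fun a ha => by
      refine cent (K := K) (map_subtype_le _) ?_ ?_ ?_ ?_ hn h2 ha
      · rw [relIndex, subgroupOf, comap_map_eq_self_of_injective K.subtype_injective]
        exact Nat.odd_iff.2 (Nat.two_dvd_ne_zero.1 P.not_dvd_index)
      · rw [card_map_of_injective K.subtype_injective, hc]
      · rintro _ ⟨a, ha, rfl⟩
        exact congrArg Subtype.val (sq a ha)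
      · rintro _ ⟨a, ha, rfl⟩ _ ⟨b, hb, rfl⟩ h1 h2
        obtain ⟨σ, h3, h4⟩ := tr a ha b hb (fun h => h1 (congrArg Subtype.val h))
          fun h => h2 (congrArg Subtype.val h)
        refine ⟨σ, σ.2, ?_, congrArg Subtype.val h4⟩
        rintro _ ⟨c, hc, rfl⟩
        exact ⟨_, h3 c hc, rfl⟩
    obtain ⟨k, hk⟩ := h2
    obtain ⟨j, -, hj⟩ := (Nat.dvd_prime_pow Nat.prime_two).1 (orderOf_dvd_of_pow_eq_one
      (show (MulAut.conjNormal n : MulAut K) ^ 2 ^ k = 1 by rw [← map_pow, hk, map_one]))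
    obtain ⟨l, hl⟩ := S4593.result hZ hO P
      ⟨⟨comm_of_sq fun a => Subtype.ext (sq a a.2)⟩⟩ (MulAut.conjNormal n) ⟨j, hj⟩
      fun x hx => Subtype.ext (h1 x ⟨x, hx, rfl⟩)
    have := hC ((l : G)⁻¹ * n) fun x hx => by
      have e : n * x * n⁻¹ = l * x * (l : G)⁻¹ := congrArg Subtype.val (hl ⟨x, hx⟩)
      calc _ = (l : G)⁻¹ * (n * x * n⁻¹) * l := by group
        _ = x := by rw [e]; group
    rw [← inv_mul_eq_one.1 this]; exact l.2
  have hg : g ∈ normalizer (A : Set G) ⊔ K := by rw [P.normalizer_sup_eq_top]; trivial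
  obtain ⟨n, hn, l, hl, rfl⟩ := mem_sup_of_normal_right.1 hg
  obtain ⟨m, hm, h3⟩ := exists_odd_pow n
  obtain ⟨k, hk⟩ := h2
  have e1 : ((n : G ⧸ K)) ^ m = 1 := by
    rw [← QuotientGroup.mk_pow, QuotientGroup.eq_one_iff]; exact key _ (pow_mem hn m) h3
  have e2 : ((n : G ⧸ K)) ^ 2 ^ k = 1 := by
    rw [← QuotientGroup.mk_mul_of_mem n hl, ← QuotientGroup.mk_pow, hk, QuotientGroup.mk_one]
  have e3 := (pow_eq_one_iff_of_coprime ((Nat.coprime_two_right.2 hm).pow_right k)).1 ⟨e1, e2⟩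
  exact mul_mem ((QuotientGroup.eq_one_iff n).1 e3) hl

end Lift

variable {G Ω : Type*} [Group G] [MulAction G Ω] [Finite G] [Finite Ω] {S : Sp G Ω}
  {Δ Δ' : Set Ω} {x y : Ω}

theorem Sp.lift_cen (S : Sp G Ω) (h2 : Two G Ω) (h4 : 4 ≤ Nat.card Ω) (c : G)
    (hc : ∀ k ∈ S.L Set.univ, c * k * c⁻¹ = k) : c = 1 := by
  refine h2.faith c fun x => ?_
  by_contra hx
  have h1 := Sp.card_U (S := S) hx
  have : Nontrivial (S.U x) := Finite.one_lt_card_iff_nontrivial.1 (by omega)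
  obtain ⟨u, hu⟩ := exists_ne (1 : S.U x)
  have h3 := S.conj c x u u.2
  rw [hc u (Sp.UD_le_L (Set.mem_univ x) (by rw [Sp.UD_univ]; exact u.2))] at h3
  exact hu (Subtype.ext (S.free x _ hx u u.2 (S.fix _ _ h3)))

theorem Sp.Res.lift {S' : Sp (S.L Set.univ) Ω} (h : S.Res (S.L Set.univ) S') (h2 : Two G Ω)
    (h4 : 4 ≤ Nat.card Ω) (ht : S'.Ty0) : S.Ty0 := by
  haveI := S.L_univ_normal
  have hK := h.two h2 (by omega)
  have : Nontrivial Ω := Finite.one_lt_card_iff_nontrivial.1 (by omega)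
  obtain ⟨a, b, hab⟩ := exists_pair_ne Ω
  by_cases hr : HasReg (S.L Set.univ) Ω
  · exact Or.inl (h2.hasReg_of_normal hK hab hr)
  have htop : S'.L Set.univ = ⊤ := eq_top_iff.2 fun g _ => h.mem_L.2 g.2
  rcases ht with ht | ht | ⟨F, _, _, q, h5, h6, ⟨e⟩⟩ | ⟨q, A, d⟩
  · exact absurd ht hr
  · exact Or.inr (Or.inl (h.tyL ht))
  · exact Or.inr (Or.inr (Or.inl ⟨F, _, _, q, h5, h6,
      ⟨(topEquiv.symm.trans (MulEquiv.subgroupCongr htop.symm)).trans e⟩⟩))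
  have hW : W G (Set.univ : Set Ω) = ⊥ :=
    eq_bot_iff.2 fun g hg => h2.faith g fun c => mem_W.1 hg c trivial
  have hW' : W (S.L Set.univ) (Set.univ : Set Ω) = ⊥ :=
    eq_bot_iff.2 fun g hg => hK.faith g fun c => mem_W.1 hg c trivial
  have hSt : ∀ g : S.L Set.univ, g ∈ St (S.L Set.univ) (Set.univ : Set Ω) := fun g c => by simp
  have hsyl := fun P hP => d.syl P (fun g _ => hSt g) hP
  simp only [hW', inf_bot_eq, card_bot, mul_one] at hsyl
  simp only [mem_bot] at hsyl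
  obtain ⟨P, hP⟩ := (IsPGroup.of_card (p := 2) (n := 3) d.card).exists_le_sylow
  obtain rfl : A = P := eq_of_le_of_card_ge hP (d.card ▸ (hsyl _ P.isPGroup').1)
  haveI := hK.faithful
  haveI := hK.isPreprimitive
  have key : ∀ g : G, El2 g → g ∈ S.L Set.univ := fun g hg =>
    Lift.mem_of_el2 (center_eq_bot hr) (oddCore_eq_bot hr) (S.lift_cen h2 h4) P d.card d.sq
      (fun a ha b hb h1 h2 => let ⟨σ, _, h3⟩ := d.tr a ha b hb h1 h2; ⟨σ, h3⟩) hg
  have key2 : ∀ s : G, s * s = 1 → s ∈ S.L Set.univ := fun s hs => key s ⟨1, by rw [pow_one, sq, hs]⟩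
  have hfix : ∀ s : S.L Set.univ, fixedBy Ω s = fixedBy Ω (s : G) := fun _ => rfl
  refine Or.inr (Or.inr (Or.inr ⟨q, (P : Subgroup (S.L Set.univ)).map (S.L Set.univ).subtype,
    Sp.cl_univ, d.q8, map_subtype_le _, ?_, ?_, ?_, ?_, ?_, ?_, ?_, ?_, d.card8, d.three⟩))
  · rw [card_map_of_injective (subtype_injective _), d.card]
  · rintro _ ⟨a, ha, rfl⟩
    exact congrArg Subtype.val (d.sq a ha)
  · rintro _ ⟨a, ha, rfl⟩ _ ⟨b, hb, rfl⟩ h1 h2
    obtain ⟨σ, -, h3, h4⟩ := d.tr a ha b hb (fun h => h1 (congrArg Subtype.val h))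
      fun h => h2 (congrArg Subtype.val h)
    refine ⟨σ, σ.2, ?_, congrArg Subtype.val h4⟩
    rintro _ ⟨c, hc, rfl⟩
    exact ⟨_, h3 c hc, rfl⟩
  · rw [hW, inf_bot_eq, card_bot]; exact odd_one
  · intro Q _ hQ
    have hle : Q ≤ S.L Set.univ := fun g hg =>
      let ⟨k, hk⟩ := hQ ⟨g, hg⟩; key g ⟨k, congrArg Subtype.val hk⟩
    obtain ⟨h5, h6⟩ := hsyl (Q.subgroupOf _) (hQ.comap_of_injective _ (subtype_injective _))
    rw [hW, inf_bot_eq, card_bot, mul_one, ← Nat.card_congr (subgroupOfEquivOfLe hle).toEquiv]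
    exact ⟨h5, fun a ha b hb => congrArg Subtype.val (h6 ⟨a, hle ha⟩ ha ⟨b, hle hb⟩ hb)⟩
  · intro s _ hs hs'
    rw [hW, mem_bot] at hs hs'
    exact d.fix ⟨s, key2 s hs⟩ (hSt _) (hW' ▸ mem_bot.2 (Subtype.ext hs))
      (hW' ▸ fun h => hs' (congrArg Subtype.val (mem_bot.1 h)))
  · intro s _ hs hs' hm
    rw [hW, mem_bot] at hs hs'
    exact d.nmem ⟨s, key2 s hs⟩ (hSt _) (hW' ▸ mem_bot.2 (Subtype.ext hs))
      (hW' ▸ fun h => hs' (congrArg Subtype.val (mem_bot.1 h))) (h.mem_L.2 hm)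
  · rintro _ ⟨a, ha, rfl⟩ _ ⟨b, hb, rfl⟩ h1 h2 h3
    exact d.four a ha b hb (fun h => h1 (congrArg Subtype.val h))
      (fun h => h2 (congrArg Subtype.val h)) fun h => h3 (congrArg Subtype.val h)

end Cfsg.Agent.HKS
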