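import Mathlib
import Cfsg.Agent.HKS.Tr
import Cfsg.Agent.TT.AffTwo
import Cfsg.Agent.GT.CoprimeFixed
import Cfsg.Agent.GT.CoprimeAbelian

/-! Piece STr: lifting a regular normal subgroup -/

set_option autoImplicit false

namespace Cfsg.Agent.HKS

open Subgroup MulAction Cfsg.Agent.TT Cfsg.Agent.Perm.TT Cfsg.Agent.Cl.L2
open Cfsg.Agent.KS (St)
open scoped MatrixGroups Pointwise commutatorElement

variable {G Ω : Type*} [Group G] [MulAction G Ω] [Finite G] [Finite Ω] {S : Sp G Ω}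
  {Δ Δ' : Set Ω} {x y : Ω}

namespace STr

omit [Finite G] in
theorem comm_eq {a b : G} (h : Commute (a * a) b) :
    a * b * a⁻¹ * b⁻¹ = a * b * (a * b) * (a * a)⁻¹ * (b * b)⁻¹ := by
  have e : (a * a)⁻¹ * b⁻¹ = b⁻¹ * (a * a)⁻¹ := h.inv_inv.eq
  calc a * b * a⁻¹ * b⁻¹ = a * b * (a * b) * (b⁻¹ * (a * a)⁻¹) * b⁻¹ := by group
    _ = _ := by rw [← e]; group

omit [Finite G] in
theorem comm_mem {P Z : Subgroup G} (hc : ∀ z ∈ Z, ∀ p ∈ P, Commute z p)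
    (h2 : ∀ p ∈ P, p * p ∈ Z) {a b : G} (ha : a ∈ P) (hb : b ∈ P) : a * b * a⁻¹ * b⁻¹ ∈ Z := by
  rw [comm_eq (hc _ (h2 a ha) b hb)]
  exact mul_mem (mul_mem (h2 _ (mul_mem ha hb)) (inv_mem (h2 a ha))) (inv_mem (h2 b hb))

omit [Finite G] in
theorem comm_sq {P Z : Subgroup G} (hc : ∀ z ∈ Z, ∀ p ∈ P, Commute z p)
    (h2 : ∀ p ∈ P, p * p ∈ Z) {a b : G} (ha : a ∈ P) (hb : b ∈ P) :
    a * b * a⁻¹ * b⁻¹ * (a * b * a⁻¹ * b⁻¹) = 1 := by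
  have e1 := (hc _ (comm_mem hc h2 ha hb) a ha).eq
  have e2 := (hc _ (h2 a ha) b hb).eq
  calc a * b * a⁻¹ * b⁻¹ * (a * b * a⁻¹ * b⁻¹)
      = (a * b * a⁻¹ * b⁻¹ * a) * (b * a⁻¹ * b⁻¹) := by group
    _ = (a * a * b) * (a * a)⁻¹ * b⁻¹ := by rw [e1]; group
    _ = 1 := by rw [e2]; group

/-- An element outside finitely many cosets. -/
theorem exists_out {P Z : Subgroup G} (s : Finset G) (h : s.card * Nat.card Z < Nat.card P) :
    ∃ p ∈ P, ∀ t ∈ s, p * t ∉ Z := by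
  by_contra hh
  push Not at hh
  choose f hf hf' using hh
  have := Nat.card_le_card_of_injective
    (fun p : P => ((⟨f p p.2, hf p p.2⟩ : s), (⟨p * f p p.2, hf' p p.2⟩ : Z))) fun p q e => by
      have e1 : f p p.2 = f q q.2 := congrArg (fun z => (z.1 : G)) e
      have e2 : p * f p p.2 = q * f q q.2 := congrArg (fun z => (z.2 : G)) e
      rw [e1] at e2
      exact Subtype.ext (mul_right_cancel e2)
  rw [Nat.card_prod, Nat.card_eq_fintype_card (α := s), Fintype.card_coe] at this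
  omega

omit [Finite G] in
theorem sup_dec {P N Z : Subgroup G} (hN : N ≤ P) (hc : ∀ z ∈ Z, ∀ p ∈ P, Commute z p) {p : G}
    (hp : p ∈ N ⊔ Z) : ∃ n ∈ N, ∃ z ∈ Z, p = n * z := by
  refine iSup_induction (fun i : Bool => cond i N Z) (C := fun p => ∃ n ∈ N, ∃ z ∈ Z, p = n * z)
    (by rwa [iSup_bool_eq]) ?_ ⟨1, one_mem _, 1, one_mem _, by simp⟩ ?_
  · rintro (_ | _) g hg
    · exact ⟨1, one_mem _, g, hg, by simp⟩
    · exact ⟨g, hg, 1, one_mem _, by simp⟩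
  · rintro _ _ ⟨n, hn, z, hz, rfl⟩ ⟨n', hn', z', hz', rfl⟩
    refine ⟨n * n', mul_mem hn hn', z * z', mul_mem hz hz', ?_⟩
    rw [mul_assoc, ← mul_assoc z, (hc z hz n' (hN hn')).eq]
    group

omit [Finite G] in
theorem conj_comm {P O : Subgroup G} {g : G} (h1 : ∀ p ∈ P, g * p * g⁻¹ ∈ P)
    (h2 : ∀ p ∈ O, g * p * g⁻¹ ∈ O) {n : G} (hn : n ∈ ⁅P, O⁆) : g * n * g⁻¹ ∈ ⁅P, O⁆ := by
  have : ⁅P, O⁆.map (MulAut.conj g).toMonoidHom ≤ ⁅P, O⁆ := by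
    rw [Subgroup.map_commutator]
    refine commutator_mono ?_ ?_
    · rintro _ ⟨p, hp, rfl⟩; exact h1 p hp
    · rintro _ ⟨p, hp, rfl⟩; exact h2 p hp
  exact this ⟨n, hn, rfl⟩

/-- The 2-elements of a group whose squares are central. -/
def two (P Z : Subgroup G) (hZ : Z ≤ P) (hc : ∀ z ∈ Z, ∀ p ∈ P, Commute z p)
    (h2 : ∀ p ∈ P, p * p ∈ Z) : Subgroup G where
  carrier := {g | g ∈ P ∧ El2 g}
  one_mem' := ⟨one_mem _, 0, by simp⟩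
  inv_mem' := fun ⟨h, k, hk⟩ => ⟨inv_mem h, k, by rw [inv_pow, hk, inv_one]⟩
  mul_mem' := fun {a b} ⟨ha, k, hk⟩ ⟨hb, l, hl⟩ => ⟨mul_mem ha hb, k + l + 2, by
    have e : a * b * (a * b) = a * b * a⁻¹ * b⁻¹ * (b * b) * (a * a) := by
      rw [comm_eq (hc _ (h2 a ha) b hb)]; group
    have m := comm_mem hc h2 ha hb
    have c1 : Commute (a * b * a⁻¹ * b⁻¹ * (b * b)) (a * a) :=
      hc _ (mul_mem m (h2 b hb)) _ (hZ (h2 a ha))
    have c2 : Commute (a * b * a⁻¹ * b⁻¹) (b * b) := hc _ m _ (hZ (h2 b hb))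
    have p1 : (a * b * a⁻¹ * b⁻¹) ^ 2 ^ (k + l + 1) = 1 := by
      rw [pow_succ', pow_mul, sq, comm_sq hc h2 ha hb, one_pow]
    have p2 : (a * a) ^ 2 ^ (k + l + 1) = 1 := by
      rw [← sq, ← pow_mul, show 2 * 2 ^ (k + l + 1) = 2 ^ k * 2 ^ (l + 2) by ring, pow_mul, hk,
        one_pow]
    have p3 : (b * b) ^ 2 ^ (k + l + 1) = 1 := by
      rw [← sq, ← pow_mul, show 2 * 2 ^ (k + l + 1) = 2 ^ l * 2 ^ (k + 2) by ring, pow_mul, hl,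
        one_pow]
    rw [show 2 ^ (k + l + 2) = 2 * 2 ^ (k + l + 1) by ring, pow_mul, sq, e, c1.mul_pow, c2.mul_pow,
      p1, p2, p3, one_mul, one_mul]⟩

theorem exists_odd_pow (g : G) : ∃ m, Odd m ∧ El2 (g ^ m) := by
  obtain ⟨k, m, hm, e⟩ := Nat.exists_eq_two_pow_mul_odd (orderOf_pos g).ne'
  exact ⟨m, hm, k, by rw [← pow_mul, mul_comm, ← e, pow_orderOf_eq_one]⟩

end STr

open STr in
/-- Central extensions of an elementary abelian 2-group with a transitive group of odd order. -/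
theorem cov2 {P Z O : Subgroup G} (hP : IsPGroup 2 P) (hZ : Z ≤ P)
    (hc : ∀ z ∈ Z, ∀ p ∈ P, Commute z p) (ho : Odd (Nat.card O))
    (hn : ∀ u ∈ O, ∀ p ∈ P, u * p * u⁻¹ ∈ P) (hz : ∀ u ∈ O, ∀ z ∈ Z, Commute u z)
    (h2 : ∀ p ∈ P, p * p ∈ Z) (h8 : 8 * Nat.card Z ≤ Nat.card P)
    (tr : ∀ a ∈ P, ∀ b ∈ P, a ∉ Z → b ∉ Z → ∃ u ∈ O, u * a * u⁻¹ * b⁻¹ ∈ Z) :
    (∀ n ∈ ⁅P, O⁆, n * n = 1) ∧ ⁅P, O⁆ ⊓ Z = ⊥ ∧ ⁅P, O⁆ ⊔ Z = P := by
  classical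
  have pos : 0 < Nat.card Z := Nat.card_pos
  have nO : O ≤ normalizer (P : Set G) := fun u hu => mem_normalizer_fintype (hn u hu)
  have cop : (Nat.card O).Coprime (Nat.card P) := by
    obtain ⟨k, hk⟩ := hP.exists_card_eq
    rw [hk]
    exact (Nat.coprime_two_right.2 ho).pow_right k
  have out : ∀ s : Finset G, s.card ≤ 4 → ∃ p ∈ P, ∀ t ∈ s, p * t ∉ Z := fun s hs =>
    exists_out s (by nlinarith)
  have ZC : Z ≤ centralizer (O : Set G) := fun z h u hu => (hz u hu z h).eq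
  have hC : P ⊓ centralizer (O : Set G) = Z := by
    refine le_antisymm (fun p ⟨hp, hpc⟩ => by_contra fun h => ?_) (le_inf hZ ZC)
    obtain ⟨b, hb, e⟩ := out {1, p⁻¹} (Finset.card_le_two.trans (by norm_num))
    obtain ⟨u, hu, e'⟩ := tr p hp b hb h (by simpa using e 1 (by simp))
    rw [show u * p = p * u from hpc u hu, mul_inv_cancel_right] at e'
    exact e p⁻¹ (by simp) (by simpa using inv_mem e')
  have hsup : ⁅P, O⁆ ⊔ Z = P := by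
    have := hP.isNilpotent
    rw [← hC]
    exact GT.CopAct.commutator_sup_centralizer nO cop (Or.inr inferInstance)
  have hN : ⁅P, O⁆ ≤ P := le_sup_left.trans hsup.le
  let E : Subgroup G :=
    { carrier := {z | z ∈ Z ∧ z * z = 1}
      one_mem' := ⟨one_mem _, by simp⟩
      inv_mem' := fun ⟨h, e⟩ => ⟨inv_mem h, by rw [← _root_.mul_inv_rev, e, inv_one]⟩
      mul_mem' := fun {a b} ⟨ha, ea⟩ ⟨hb, eb⟩ => ⟨mul_mem ha hb, by
        rw [mul_assoc, ← mul_assoc b, (hc b hb a (hZ ha)).eq, mul_assoc, eb, mul_one, ea]⟩ }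
  have hE : ⁅⁅P, O⁆, ⁅P, O⁆⁆ ≤ E := Subgroup.commutator_le.2 fun a ha b hb =>
    ⟨comm_mem hc h2 (hN ha) (hN hb), comm_sq hc h2 (hN ha) (hN hb)⟩
  have z2 : ∀ z ∈ ⁅P, O⁆, z ∈ Z → z * z = 1 := fun z h1 h3 =>
    (hE (GT.CopAct.commutator_inf_centralizer_le' nO cop ⟨h1, ZC h3⟩)).2
  have cst : ∀ a ∈ ⁅P, O⁆, ∀ b ∈ ⁅P, O⁆, a ∉ Z → b ∉ Z → a * a = b * b := fun a ha b hb h1 h3 => by
    obtain ⟨u, hu, e⟩ := tr a (hN ha) b (hN hb) h1 h3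
    have m : u * a * u⁻¹ * b⁻¹ ∈ ⁅P, O⁆ := mul_mem (conj_comm (hn u hu)
      (fun p hp => mul_mem (mul_mem hu hp) (inv_mem hu)) ha) (inv_mem hb)
    have e1 := z2 _ m e
    have e2 := (hc _ e b (hN hb)).eq
    have e3 := (hz u hu _ (h2 a (hN ha))).eq
    calc a * a = u * (a * a) * u⁻¹ := by rw [e3]; group
      _ = u * a * u⁻¹ * b⁻¹ * (b * (u * a * u⁻¹ * b⁻¹)) * b := by group
      _ = u * a * u⁻¹ * b⁻¹ * (u * a * u⁻¹ * b⁻¹) * (b * b) := by rw [← e2]; group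
      _ = b * b := by rw [e1, one_mul]
  have out' : ∀ s : Finset G, s.card ≤ 4 → (∀ t ∈ s, t ∈ P) →
      ∃ p ∈ ⁅P, O⁆, ∀ t ∈ s, p * t ∉ Z := fun s hs hs' => by
    obtain ⟨p, hp, e⟩ := out s hs
    obtain ⟨n, h1, z, h3, rfl⟩ := sup_dec hN hc (hsup.ge hp)
    refine ⟨n, h1, fun t ht m => e t ht ?_⟩
    rw [mul_assoc, (hc z h3 t (hs' t ht)).eq, ← mul_assoc]
    exact mul_mem m h3
  have cm : ∀ a ∈ ⁅P, O⁆, ∀ b ∈ ⁅P, O⁆, a ∉ Z → b ∉ Z → a * b ∉ Z →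
      a * b * a⁻¹ * b⁻¹ = (a * a)⁻¹ := fun a ha b hb h1 h3 h4 => by
    rw [comm_eq (hc _ (h2 a (hN ha)) b (hN hb)), cst _ (mul_mem ha hb) a ha h4 h1,
      cst b hb a ha h3 h1, mul_inv_cancel, one_mul]
  have sq : ∀ n ∈ ⁅P, O⁆, n * n = 1 := fun c hc' => by
    by_cases h : c ∈ Z
    · exact z2 c hc' h
    obtain ⟨b, hb, eb⟩ := out' {1, c} (Finset.card_le_two.trans (by norm_num)) (by
      simp only [Finset.mem_insert, Finset.mem_singleton]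
      rintro _ (rfl | rfl)
      exacts [one_mem _, hN hc'])
    obtain ⟨a, ha, ea⟩ := out' {1, b, c, b * c} Finset.card_le_four (by
      simp only [Finset.mem_insert, Finset.mem_singleton]
      rintro _ (rfl | rfl | rfl | rfl)
      exacts [one_mem _, hN hb, hN hc', mul_mem (hN hb) (hN hc')])
    have a1 : a ∉ Z := by simpa using ea 1 (by simp)
    have b1 : b ∉ Z := by simpa using eb 1 (by simp)
    have e1 := cm a ha b hb a1 b1 (ea b (by simp))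
    have e2 := cm a ha c hc' a1 h (ea c (by simp))
    have e3 := cm a ha _ (mul_mem hb hc') a1 (eb c (by simp)) (ea _ (by simp))
    have e4 := (hc _ (inv_mem (h2 a (hN ha))) b (hN hb)).eq
    have e5 : a * (b * c) * a⁻¹ * (b * c)⁻¹ =
        a * b * a⁻¹ * b⁻¹ * (b * (a * c * a⁻¹ * c⁻¹) * b⁻¹) := by group
    rw [e3, e1, e2, ← e4, mul_inv_cancel_right, left_eq_mul, inv_eq_one] at e5
    rw [cst c hc' a ha h a1, e5]
  refine ⟨sq, ?_, hsup⟩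
  have := GT.CopAct.commutator_inf_centralizer_eq_bot' (A := O) (K := P)
    ⟨⟨fun a b => Subtype.ext (comm_of_sq_aff sq a.2 b.2)⟩⟩ nO cop
  rw [eq_bot_iff, ← this]
  exact inf_le_inf_left _ ZC

theorem Sp.Im.ds {B Γ : Type*} [Group B] [MulAction B Γ] {S' : Sp B Γ} {π : St G Δ →* B}
    {ι : Γ → Ω} (h : S.Im Δ S' π ι) (he : Even (Nat.card Ω)) (h4 : 4 < Δ.ncard)
    (hr : HasReg B Γ) : 8 ≤ Δ.ncard ∧ ∃ N, S.DS Δ N := by
  classical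
  have := h.con.finite
  have := h.con.finite_pts
  have nt : Δ.Nontrivial := Set.one_lt_ncard_iff_nontrivial.1 (by omega)
  obtain ⟨x, hx⟩ := nt.nonempty
  obtain ⟨c, rfl⟩ := h.con.exists_eq hx
  have ev := h.cl.even he nt
  obtain ⟨V, hV, v1, v2, v3, v4, v5⟩ :=
    (h.two (by omega)).exists_reg_two hr (by rwa [h.con.card_pts]) c
  rw [h.con.card_pts] at v5
  have h8 : 8 ≤ Δ.ncard := by
    have : IsPGroup 2 V := fun g => ⟨1, Subtype.ext (by simpa [sq] using v4 g g.2)⟩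
    obtain ⟨k, hk⟩ := this.exists_card_eq
    rw [← v5, hk] at h4 ⊢
    exact Nat.pow_le_pow_right (n := 2) (by norm_num) (i := 3)
      ((Nat.pow_lt_pow_iff_right (a := 2) (by norm_num) (n := 2)).1 h4)
  refine ⟨h8, ?_⟩
  -- `V` lies in the group generated by the root groups
  have hVL : ∀ v ∈ V, v ∈ S'.L Set.univ := fun v hv => by
    obtain ⟨w, hw, e⟩ := STr.exists_out (P := V) (Z := ⊥) {1, v} (by
      have := Finset.card_le_two (a := (1 : B)) (b := v)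
      rw [card_bot]
      omega)
    have w1 : w • c ≠ c := fun k => e 1 (by simp) (by simpa using v2 c w hw k)
    have w2 : (w * v) • c ≠ c := fun k => e v (by simp) (by simpa using v2 c _ (mul_mem hw hv) k)
    obtain ⟨u, hu, eu⟩ := S'.tr c _ _ w1 w2
    have e1 : u * w * u⁻¹ = w * v := eq_of_smul_eq_aff v2 (hV.conj_mem w hw u) (mul_mem hw hv)
      (c := c) (by rw [mul_smul, mul_smul, S'.fix c _ (inv_mem hu), eu])
    have m : ∀ d, ∀ r ∈ S'.U d, r ∈ S'.L Set.univ := fun d r hr =>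
      Sp.UD_le_L (x := d) (Set.mem_univ d) (by rwa [Sp.UD_univ])
    have e2 : v = w⁻¹ * u * w⁻¹⁻¹ * u⁻¹ := by rw [inv_inv, mul_assoc w⁻¹, mul_assoc, e1]; group
    rw [e2]
    exact mul_mem (m _ _ (S'.conj w⁻¹ c u hu)) (m _ _ (inv_mem hu))
  let Vh : Subgroup G := S.L Δ ⊓ (V.comap π).map (St G Δ).subtype
  have mV : ∀ {g : G} (hg : g ∈ S.L Δ), g ∈ Vh ↔ π ⟨g, Sp.L_le_St hg⟩ ∈ V := fun {g} hg =>
    ⟨fun ⟨_, k, hk, e⟩ => by obtain rfl : k = ⟨g, Sp.L_le_St hg⟩ := Subtype.ext e; exact hk,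
      fun k => ⟨hg, _, k, rfl⟩⟩
  have fr : ∀ g ∈ Vh, ∀ a ∈ Δ, g • a = a → g ∈ W G Δ := fun g hg a ha e => by
    obtain ⟨d, rfl⟩ := h.con.exists_eq ha
    exact (h.eq_one (g := ⟨g, Sp.L_le_St hg.1⟩)).1
      (v2 d _ ((mV hg.1).1 hg) (h.con.smul_iff.2 e))
  have hZ : Vh ⊓ W G Δ ≤ Vh := inf_le_left
  have hc : ∀ z ∈ Vh ⊓ W G Δ, ∀ p ∈ Vh, Commute z p := fun z hz p hp =>
    (Sp.commute_L_W nt hp.1 hz.2).symm
  have h2 : ∀ p ∈ Vh, p * p ∈ Vh ⊓ W G Δ := fun p hp => ⟨mul_mem hp hp,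
    (h.eq_one (g := ⟨p, Sp.L_le_St hp.1⟩ * ⟨p, Sp.L_le_St hp.1⟩)).1
      (by rw [map_mul]; exact v4 _ ((mV hp.1).1 hp))⟩
  let P := STr.two Vh _ hZ hc h2
  have mP : ∀ {g : G}, g ∈ P ↔ g ∈ Vh ∧ El2 g := Iff.rfl
  have cj : ∀ g ∈ St G Δ, ∀ p ∈ P, g * p * g⁻¹ ∈ P := fun g hg p ⟨hp, k, hk⟩ => by
    refine ⟨(mV (Sp.conj_mem_L hg hp.1)).2 ?_, k, by rw [conj_pow, hk]; group⟩
    have := hV.conj_mem _ ((mV hp.1).1 hp) (π ⟨g, hg⟩)
    rwa [← map_inv, ← map_mul, ← map_mul] at this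
  have lift : ∀ v ∈ V, ∃ p : St G Δ, (p : G) ∈ P ∧ π p = v := fun v hv => by
    obtain ⟨g, hg, e⟩ := h.mem_L.1 (hVL v hv)
    obtain ⟨m, ⟨j, rfl⟩, hm⟩ := STr.exists_odd_pow (g : G)
    refine ⟨g ^ (2 * j + 1), ⟨pow_mem ((mV hg).2 (e ▸ hv)) _, hm⟩, ?_⟩
    rw [map_pow, e, pow_succ, pow_mul, sq, v4 v hv, one_pow, one_mul]
  have trP : ∀ a ∈ Δ, ∀ b ∈ Δ, ∃ p ∈ P, p • a = b := fun a ha b hb => by
    obtain ⟨a, rfl⟩ := h.con.exists_eq ha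
    obtain ⟨b, rfl⟩ := h.con.exists_eq hb
    obtain ⟨v, hv, e⟩ := v1 a b
    obtain ⟨p, hp, rfl⟩ := lift v hv
    exact ⟨p, hp, h.con.smul_iff.1 e⟩
  have big : 8 * Nat.card ↥(P ⊓ W G Δ) ≤ Nat.card P := by
    choose s hs hs' using lift
    have := Nat.card_le_card_of_injective (fun q : V × ↥(P ⊓ W G Δ) =>
      (⟨s q.1 q.1.2 * q.2, mul_mem (hs _ _) q.2.2.1⟩ : P)) fun q r e => by
        have e1 : (s q.1 q.1.2 : G) * q.2 = s r.1 r.1.2 * r.2 := congrArg Subtype.val e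
        have k : ∀ q : V × ↥(P ⊓ W G Δ), π (s q.1 q.1.2 * ⟨q.2, W_le_St q.2.2.2⟩) = q.1 :=
          fun q => by rw [map_mul, hs', h.eq_one.2 q.2.2.2, mul_one]
        have e2 : q.1 = r.1 := Subtype.ext (by
          rw [← k q, ← k r]; exact congrArg π (Subtype.ext e1))
        refine Prod.ext e2 (Subtype.ext ?_)
        rw [e2] at e1
        exact mul_left_cancel e1
    rw [Nat.card_prod, v5] at this
    exact (Nat.mul_le_mul_right _ h8).trans this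
  have hcP : ∀ z ∈ P ⊓ W G Δ, ∀ p ∈ P, Commute z p := fun z hz p hp => hc z ⟨hz.1.1, hz.2⟩ p hp.1
  obtain ⟨y, -, hy⟩ := nt.exists_ne (ι c)
  obtain ⟨n1, n2, n3⟩ := cov2 (P := P) (Z := P ⊓ W G Δ) (O := S.UD Δ (ι c))
    (fun g => let ⟨k, hk⟩ := g.2.2; ⟨k, Subtype.ext (by simpa using hk)⟩) inf_le_left hcP
    ((Sp.odd_U he hy).of_dvd_nat (card_dvd_of_le inf_le_left)) (fun u hu => cj u hu.2)
    (fun u hu z hz => Sp.commute_L_W nt (Sp.UD_le_L hx hu) hz.2)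
    (fun p hp => ⟨mul_mem hp hp, (h2 p hp.1).2⟩) big fun a ha b hb a1 b1 => by
      have st : ∀ p ∈ P, p ∈ St G Δ := fun p hp => Sp.L_le_St hp.1.1
      obtain ⟨u, hu, e⟩ := h.cl.exists_UD hx (KS.St.smul_mem (st a ha) hx)
        (KS.St.smul_mem (st b hb) hx) (fun k => a1 ⟨ha, fr a ha.1 _ hx k⟩)
        fun k => b1 ⟨hb, fr b hb.1 _ hx k⟩
      have m := mul_mem (cj u hu.2 a ha) (inv_mem hb)
      refine ⟨u, hu, m, fr _ m.1 _ (KS.St.smul_mem (st b hb) hx) ?_⟩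
      rw [mul_smul, inv_smul_smul, mul_smul, mul_smul, S.fix _ _ (inv_mem hu.1), e]
  have hN : ⁅P, S.UD Δ (ι c)⁆ ≤ P := le_sup_left.trans n3.le
  have trN : ∀ a ∈ Δ, ∀ b ∈ Δ, ∃ n ∈ ⁅P, S.UD Δ (ι c)⁆, n • a = b := fun a ha b hb => by
    obtain ⟨p, hp, e⟩ := trP a ha b hb
    obtain ⟨n, hn, z, hz, rfl⟩ := STr.sup_dec hN hcP (n3.ge hp)
    exact ⟨n, hn, by rwa [mul_smul, mem_W.1 hz.2 a ha] at e⟩
  refine ⟨⁅P, S.UD Δ (ι c)⁆, h.cl, h4.le, fun n hn => (hN hn).1.1, fun g hg n hn => ?_, n1, trN,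
    fun n hn a ha e => ?_⟩
  · obtain ⟨m, hm, e⟩ := trN _ hx _ (KS.St.smul_mem hg hx)
    have k : m⁻¹ * g ∈ St G Δ := mul_mem (inv_mem (Sp.L_le_St (hN hm).1.1)) hg
    have := mul_mem (mul_mem hm (STr.conj_comm (cj _ k) (fun u hu => Sp.conj_mem_UD k
      (by rw [mul_smul, ← e, inv_smul_smul]) hu) hn)) (inv_mem hm)
    convert this using 1
    group
  · exact mem_bot.1 (n2.le ⟨hn, hN hn, fr n (hN hn).1 a ha e⟩)

end Cfsg.Agent.HKS
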