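import Mathlib
import Cfsg.Agent.HKS.STr
import Cfsg.Agent.Perm.PermModule

/-! Piece RTr: lifting the Ree type -/

set_option autoImplicit false

namespace Cfsg.Agent.HKS

open Subgroup MulAction Cfsg.Agent.TT Cfsg.Agent.Perm.TT Cfsg.Agent.Cl.L2
open Cfsg.Agent.KS (St)
open scoped MatrixGroups Pointwise commutatorElement

namespace RTr

universe u

variable {K : Type u} {B : Type*} [Group K] [Group B] (φ : K →* B) (A : Subgroup B)

/-- Conjugation on the nontrivial elements of `A`. -/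
@[reducible] def act : MulAction ((normalizer (A : Set B)).comap φ) {c : B // c ∈ A ∧ c ≠ 1} where
  smul σ c := ⟨φ σ * c * (φ σ)⁻¹, (mem_normalizer_iff.1 σ.2 _).1 c.2.1, by
    simpa [mul_inv_eq_one] using c.2.2⟩
  one_smul c := Subtype.ext (show φ 1 * c * (φ 1)⁻¹ = c by simp)
  mul_smul σ τ c := Subtype.ext (show φ (σ * τ) * c * (φ (σ * τ))⁻¹ =
    φ σ * (φ τ * c * (φ τ)⁻¹) * (φ σ)⁻¹ by simp [mul_assoc])

variable {φ A}

theorem syl7 [Finite K] [Finite B] (hA : Nat.card A = 8)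
    (tr : ∀ a ∈ A, ∀ b ∈ A, a ≠ 1 → b ≠ 1 →
      ∃ σ : K, (∀ c ∈ A, φ σ * c * (φ σ)⁻¹ ∈ A) ∧ φ σ * a * (φ σ)⁻¹ = b) :
    ∃ O : Subgroup K, Odd (Nat.card O) ∧ (∀ u ∈ O, ∀ c ∈ A, φ u * c * (φ u)⁻¹ ∈ A) ∧
      ∀ a ∈ A, ∀ b ∈ A, a ≠ 1 → b ≠ 1 → ∃ u ∈ O, φ u * a * (φ u)⁻¹ = b := by
  let := act φ A
  have : Fact (Nat.Prime 7) := ⟨by norm_num⟩
  have : IsPretransitive ((normalizer (A : Set B)).comap φ) {c : B // c ∈ A ∧ c ≠ 1} :=
    ⟨fun a b => let ⟨σ, h1, h2⟩ := tr a a.2.1 b b.2.1 a.2.2 b.2.2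
      ⟨⟨σ, mem_normalizer_fintype h1⟩, Subtype.ext h2⟩⟩
  have h7 : Nat.card {c : B // c ∈ A ∧ c ≠ 1} = 7 ^ 1 := by
    have := Set.ncard_sdiff_singleton_of_mem (s := (A : Set B)) A.one_mem
    rw [← Nat.card_coe_set_eq, ← Nat.card_coe_set_eq, SetLike.coe_sort_coe, hA] at this
    exact this
  obtain ⟨O⟩ : Nonempty (Sylow 7 ((normalizer (A : Set B)).comap φ)) := inferInstance
  have ht := Perm.sylow_isPretransitive_of_card_eq_pow h7 O
  obtain ⟨n, hn⟩ := O.isPGroup'.exists_card_eq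
  refine ⟨O.toSubgroup.map (Subgroup.subtype _), ?_, ?_, fun a ha b hb a1 b1 => ?_⟩
  · rw [card_map_of_injective (subtype_injective _), hn]
    exact Odd.pow (by decide)
  · rintro _ ⟨u, -, rfl⟩ c hc
    exact (mem_normalizer_iff.1 u.2 _).1 hc
  · obtain ⟨u, hu⟩ := ht.exists_smul_eq ⟨a, ha, a1⟩ ⟨b, hb, b1⟩
    exact ⟨u, ⟨u, u.2, rfl⟩, congrArg Subtype.val hu⟩

theorem el2_mul {a b : K} (ha : ∀ k, Commute (a * a) k) (hb : ∀ k, Commute (b * b) k)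
    (hab : ∀ k, Commute (a * b * (a * b)) k) (a2 : El2 a) (b2 : El2 b) : El2 (a * b) := by
  obtain ⟨i, hi⟩ := a2
  obtain ⟨j, hj⟩ := b2
  have e1 : a * b * (a * b) = b * a * (b * a) := by
    have := (hab a).eq
    calc a * b * (a * b) = a⁻¹ * (a * (a * b * (a * b))) := by group
      _ = _ := by rw [← this]; group
  have e2 : (a * b) ^ 4 = (a * a) ^ 2 * (b * b) ^ 2 := by
    calc (a * b) ^ 4 = a * b * (a * b) * (a * b * (a * b)) := by simp only [pow_succ]; group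
      _ = a * b * (a * b) * (b * a * (b * a)) := by rw [← e1]
      _ = a * b * a * (b * b * (a * b * a)) := by group
      _ = a * (b * (a * a)) * b * a * (b * b) := by rw [(hb _).eq]; group
      _ = a * (a * a) * (b * b * a) * (b * b) := by rw [← (ha _).eq]; group
      _ = _ := by rw [(hb a).eq]; simp only [pow_succ]; group
  have h1 : ∀ {c : K} {i : ℕ}, c ^ 2 ^ i = 1 → ∀ j, ((c * c) ^ 2) ^ 2 ^ (i + j) = 1 :=
    fun {c i} h j => by
      rw [← pow_two, ← pow_mul, ← pow_mul, show 2 * (2 * 2 ^ (i + j)) = 2 ^ i * (4 * 2 ^ j) by ring,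
        pow_mul, h, one_pow]
  refine ⟨2 + (i + j), ?_⟩
  rw [pow_add, pow_mul, show 2 ^ 2 = 4 from rfl, e2,
    ((ha _).pow_left 2).mul_pow, h1 hi j, add_comm, h1 hj i, one_mul]

theorem comm_of_sq {H : Type*} [Group H] {N : Subgroup H} (h : ∀ n ∈ N, n * n = 1) {a b : H}
    (ha : a ∈ N) (hb : b ∈ N) : Commute a b := by
  have e := h _ (mul_mem ha hb)
  rw [Commute, SemiconjBy, ← inv_eq_of_mul_eq_one_right e, mul_inv_rev,
    inv_eq_of_mul_eq_one_right (h a ha), inv_eq_of_mul_eq_one_right (h b hb)]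

theorem core [Finite K] [Finite B] (cen : ∀ z, φ z = 1 → ∀ k, Commute z k) (hA : Nat.card A = 8)
    (le : ∀ a ∈ A, ∃ k, φ k = a) (sq : ∀ a ∈ A, a * a = 1)
    (tr : ∀ a ∈ A, ∀ b ∈ A, a ≠ 1 → b ≠ 1 →
      ∃ σ : K, (∀ c ∈ A, φ σ * c * (φ σ)⁻¹ ∈ A) ∧ φ σ * a * (φ σ)⁻¹ = b)
    (syl : ∀ P : Subgroup B, IsPGroup 2 P → Nat.card P ≤ 8)
    (hom : ∀ (C : Type u) [CommGroup C] (f : K →* C) (g : K), El2 g → f g = 1) :
    Odd (Nat.card φ.ker) ∧ ∃ P : Subgroup K, Nat.card P = 8 ∧ (∀ a ∈ P, φ a = 1 → a = 1) ∧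
      ∀ a, a ∈ P ↔ φ a ∈ A ∧ El2 a := by
  have c2 : ∀ a, φ a ∈ A → ∀ k, Commute (a * a) k := fun a ha =>
    cen _ (by rw [map_mul, sq _ ha])
  let P : Subgroup K :=
    { carrier := {a | φ a ∈ A ∧ El2 a}
      one_mem' := ⟨by simp, 0, by simp⟩
      mul_mem' := fun {a b} ha hb =>
        have k : φ (a * b) ∈ A := by rw [map_mul]; exact mul_mem ha.1 hb.1
        ⟨k, el2_mul (c2 a ha.1) (c2 b hb.1) (c2 _ k) ha.2 hb.2⟩
      inv_mem' := fun {a} ha => ⟨by rw [map_inv]; exact inv_mem ha.1,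
        ha.2.imp fun _ e => by rw [inv_pow, e, inv_one]⟩ }
  have hP : IsPGroup 2 P := fun a => a.2.2.imp fun _ e => Subtype.ext e
  have hm : P.map φ = A := le_antisymm (map_le_iff_le_comap.2 fun a ha => ha.1) fun a ha => by
    obtain ⟨g, rfl⟩ := le a ha
    obtain ⟨k, n, ⟨l, rfl⟩, e⟩ := Nat.exists_eq_two_pow_mul_odd (orderOf_pos g).ne'
    have e1 : φ (g ^ (2 * l + 1)) = φ g := by
      rw [map_pow, pow_succ, pow_mul, pow_two, sq _ ha, one_pow, one_mul]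
    exact ⟨g ^ (2 * l + 1), ⟨e1 ▸ ha, k, by rw [← pow_mul, mul_comm, ← e, pow_orderOf_eq_one]⟩, e1⟩
  have hc : Nat.card P = 8 * Nat.card ↥(P ⊓ φ.ker) := by
    rw [← hA, ← hm, ← relIndex_ker, mul_comm, inf_comm, ← inf_relIndex_right,
      ← card_mul_index ((φ.ker ⊓ P).subgroupOf P),
      Nat.card_congr (subgroupOfEquivOfLe inf_le_right).toEquiv]
    rfl
  obtain ⟨O, o1, o2, o3⟩ := syl7 hA tr
  obtain ⟨n1, -, n3⟩ := cov2 (P := P) (Z := P ⊓ φ.ker) (O := O) hP inf_le_left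
    (fun z hz p _ => cen z hz.2 p) o1 (fun u hu p hp => ⟨by
      rw [map_mul, map_mul, map_inv]; exact o2 u hu _ hp.1,
      hp.2.imp fun _ e => by rw [conj_pow, e]; simp⟩) (fun u _ z hz => (cen z hz.2 u).symm)
    (fun p hp => ⟨mul_mem hp hp, show φ (p * p) = 1 by rw [map_mul, sq _ hp.1]⟩) hc.ge
    fun a ha b hb a1 b1 => by
      obtain ⟨u, hu, e⟩ := o3 _ ha.1 _ hb.1 (fun k => a1 ⟨ha, k⟩) fun k => b1 ⟨hb, k⟩
      refine ⟨u, hu, P.mul_mem ⟨?_, ha.2.imp fun _ e => by rw [conj_pow, e]; simp⟩ (P.inv_mem hb),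
        show φ _ = 1 from ?_⟩
      · rw [map_mul, map_mul, map_inv, e]; exact hb.1
      · rw [map_mul, map_mul, map_mul, map_inv, e, map_inv, mul_inv_cancel]
  have ab : ∀ a ∈ P, ∀ b ∈ P, Commute a b := by
    have k : ∀ a ∈ ⁅P, O⁆, P ≤ centralizer {a} := fun a ha => n3.ge.trans
      (sup_le (fun b hb => mem_centralizer_singleton_iff.2 (comm_of_sq n1 hb ha))
        fun z hz => mem_centralizer_singleton_iff.2 (cen z hz.2 a))
    intro a ha b hb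
    exact mem_centralizer_singleton_iff.1 ((n3.ge.trans (sup_le (fun c hc =>
      mem_centralizer_singleton_iff.2 (mem_centralizer_singleton_iff.1 (k c hc hb)).symm)
      fun z hz => mem_centralizer_singleton_iff.2 (cen z hz.2 b))) ha)
  obtain ⟨T, hT⟩ := hP.exists_le_sylow
  have e : (T : Subgroup K) = P := le_antisymm (fun t ht => ⟨by
    have k := eq_of_le_of_card_ge (hm.ge.trans (map_mono hT)) (hA ▸ syl _ (T.isPGroup'.map φ))
    exact k ▸ mem_map_of_mem φ ht,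
    (T.isPGroup' ⟨t, ht⟩).imp fun _ e => congrArg Subtype.val e⟩) hT
  have hi : ¬ 2 ∣ P.index := e ▸ T.not_dvd_index
  have free : ∀ a ∈ P, φ a = 1 → a = 1 := fun a ha h1 => by
    let : CommGroup P := { (inferInstance : Group P) with
      mul_comm := fun a b => Subtype.ext (ab a a.2 b b.2) }
    have k := hom P (MonoidHom.transfer (MonoidHom.id P)) a ha.2
    rw [MonoidHom.transfer_eq_pow _ a fun k g _ => by
      rw [mul_assoc, ((cen a h1 g).pow_left k).eq, inv_mul_cancel_left]] at k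
    obtain ⟨n, hn⟩ := ha.2
    exact orderOf_eq_one_iff.1 (Nat.eq_one_of_dvd_coprimes
      (Nat.Coprime.pow_right n ((Nat.prime_two.coprime_iff_not_dvd.2 hi).symm))
      (orderOf_dvd_of_pow_eq_one (congrArg Subtype.val k)) (orderOf_dvd_of_pow_eq_one hn))
  refine ⟨Nat.not_even_iff_odd.1 fun h2 => ?_, P, ?_, free, fun _ => Iff.rfl⟩
  · obtain ⟨z, hz⟩ := exists_prime_orderOf_dvd_card' 2 h2.two_dvd
    have z1 : φ z = 1 := z.2
    rw [← Subgroup.orderOf_coe, free z ⟨z1 ▸ one_mem _, 1, by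
      rw [pow_one, ← hz, Subgroup.orderOf_coe, ← coe_pow, pow_orderOf_eq_one, coe_one]⟩ z1,
      orderOf_one] at hz
    exact absurd hz (by decide)
  · rw [hc, show P ⊓ φ.ker = ⊥ from eq_bot_iff.2 fun a ha => free a ha.1 ha.2, card_bot, mul_one]

end RTr

variable {G Ω : Type*} [Group G] [MulAction G Ω] [Finite G] [Finite Ω] {S : Sp G Ω}
  {Δ Δ' : Set Ω} {x y : Ω}

theorem Sp.Im.dr {B Γ : Type*} [Group B] [MulAction B Γ] {S' : Sp B Γ} {π : St G Δ →* B}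
    {ι : Γ → Ω} (h : S.Im Δ S' π ι) (he : Even (Nat.card Ω)) (h3 : 2 < Δ.ncard) {q : ℕ}
    {A : Subgroup B} (hr : S'.DR Set.univ q A) : ∃ A', S.DR Δ q A' := by
  have := h.con.finite
  have := h.con.finite_pts
  have nt : Δ.Nontrivial := Set.one_lt_ncard_iff_nontrivial.1 (by omega)
  have st : ∀ b : B, b ∈ St B (Set.univ : Set Γ) := fun b c => by simp
  have w1 : ∀ {b : B}, b ∈ W B (Set.univ : Set Γ) ↔ b = 1 := fun {b} =>
    ⟨fun k => h.con.faith b fun c => mem_W.1 k c trivial, fun k => k ▸ one_mem _⟩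
  have wb : W B (Set.univ : Set Γ) = ⊥ := Subgroup.ext fun _ => w1.trans mem_bot.symm
  let φ : S.L Δ →* B := π.comp (inclusion Sp.L_le_St)
  have f1 : ∀ {g : S.L Δ}, φ g = 1 ↔ (g : G) ∈ W G Δ := fun {g} => h.eq_one
  have fl : ∀ {b : B}, b ∈ S'.L Set.univ → ∃ k, φ k = b := fun hb =>
    let ⟨g, hg, e⟩ := h.mem_L.1 hb
    ⟨⟨g, hg⟩, e⟩
  have tr : ∀ a ∈ A, ∀ b ∈ A, a ≠ 1 → b ≠ 1 →
      ∃ σ : S.L Δ, (∀ c ∈ A, φ σ * c * (φ σ)⁻¹ ∈ A) ∧ φ σ * a * (φ σ)⁻¹ = b := fun a ha b hb a1 b1 => by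
    obtain ⟨σ, hσ, k⟩ := hr.tr a ha b hb a1 b1
    obtain ⟨τ, rfl⟩ := fl hσ
    exact ⟨τ, k⟩
  have syl : ∀ P : Subgroup B, IsPGroup 2 P → Nat.card P ≤ 8 := fun P hP => by
    simpa [wb] using (hr.syl P (fun b _ => st b) hP).1
  obtain ⟨ho, P, p1, p2, p3⟩ := RTr.core (φ := φ)
    (fun z hz k => Subtype.ext (Sp.commute_L_W nt k.2 (f1.1 hz)).symm.eq) hr.card
    (fun a ha => fl (hr.le ha)) hr.sq tr syl fun C _ f g hg => h.cl.hom_two he nt f hg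
  have cc : (Set.univ : Set Γ).ncard = Δ.ncard := by rw [Set.ncard_univ, h.con.card_pts]
  have inv : ∀ (s : St G Δ), (s : G) * s ∈ W G Δ → (s : G) ∉ W G Δ →
      π s * π s ∈ W B (Set.univ : Set Γ) ∧ π s ∉ W B (Set.univ : Set Γ) := fun s h1 h2 =>
    ⟨w1.2 (by rw [← map_mul]; exact h.eq_one.2 h1), fun k => h2 (h.eq_one.1 (w1.1 k))⟩
  have ne1 : ∀ a ∈ P, (a : G) ≠ 1 → φ a ≠ 1 := fun a ha a1 k => a1 (congrArg Subtype.val (p2 a ha k))
  have inj : ∀ a ∈ P, ∀ b ∈ P, φ a = φ b → a = b := fun a ha b hb e =>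
    mul_inv_eq_one.1 (p2 _ (mul_mem ha (inv_mem hb)) (by rw [map_mul, map_inv, e, mul_inv_cancel]))
  refine ⟨P.map (S.L Δ).subtype, h.cl, hr.q8, map_subtype_le _,
    (card_map_of_injective (subtype_injective _)).trans p1, ?_, ?_, ?_, fun T hT h2 => ⟨?_, ?_⟩,
    fun s hs h1 h2 => ?_, fun s hs h1 h2 k => ?_, ?_, cc ▸ hr.card8, fun e => cc ▸ hr.three e⟩
  · rintro _ ⟨a, ha, rfl⟩
    exact congrArg Subtype.val (p2 _ (mul_mem ha ha) (by rw [map_mul, hr.sq _ ((p3 a).1 ha).1]))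
  · rintro _ ⟨a, ha, rfl⟩ _ ⟨b, hb, rfl⟩ a1 b1
    obtain ⟨σ, s1, s2⟩ := tr _ ((p3 a).1 ha).1 _ ((p3 b).1 hb).1 (ne1 a ha a1) (ne1 b hb b1)
    have k : ∀ c ∈ P, σ * c * σ⁻¹ ∈ P := fun c hc => (p3 _).2 ⟨by
      rw [map_mul, map_mul, map_inv]; exact s1 _ ((p3 c).1 hc).1,
      ((p3 c).1 hc).2.imp fun _ e => by rw [conj_pow, e]; simp⟩
    refine ⟨σ, σ.2, ?_, congrArg Subtype.val (inj _ (k a ha) b hb
      (by rw [map_mul, map_mul, map_inv, s2]))⟩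
    rintro _ ⟨c, hc, rfl⟩
    exact ⟨_, k c hc, rfl⟩
  · rwa [show φ.ker = (S.L Δ ⊓ W G Δ).subgroupOf (S.L Δ) from Subgroup.ext fun g =>
      f1.trans ⟨fun k => ⟨g.2, k⟩, fun k => k.2⟩,
      Nat.card_congr (subgroupOfEquivOfLe inf_le_left).toEquiv] at ho
  · let ψ : T →* B := π.comp (inclusion hT)
    have k := syl ψ.range (h2.of_surjective _ ψ.rangeRestrict_surjective)
    rw [← card_mul_index ψ.ker, index_ker, mul_comm, show ψ.ker = (T ⊓ W G Δ).subgroupOf T from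
      Subgroup.ext fun g => h.eq_one.trans ⟨fun k => ⟨g.2, k⟩, fun k => k.2⟩,
      Nat.card_congr (subgroupOfEquivOfLe inf_le_left).toEquiv]
    exact Nat.mul_le_mul_right _ k
  · intro a ha b hb
    let ψ : T →* B := π.comp (inclusion hT)
    have k := w1.1 ((hr.syl ψ.range (fun b _ => st b)
      (h2.of_surjective _ ψ.rangeRestrict_surjective)).2 _ ⟨⟨a, ha⟩, rfl⟩ _ ⟨⟨b, hb⟩, rfl⟩)
    rw [← map_inv, ← map_inv, ← map_mul, ← map_mul, ← map_mul] at k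
    exact h.eq_one.1 k
  · obtain ⟨k1, k2⟩ := inv ⟨s, hs⟩ h1 h2
    rw [← h.image_fix ⟨s, hs⟩, Set.ncard_image_of_injective _ h.con.inj, ← hr.fix _ (st _) k1 k2,
      Set.univ_inter]
  · obtain ⟨k1, k2⟩ := inv ⟨s, hs⟩ h1 h2
    have k3 := hr.fix _ (st _) k1 k2
    have k4 := hr.nmem _ (st _) k1 k2
    have := hr.q8
    rw [Set.univ_inter] at k3 k4
    exact k4 ((h.mem_L_sub (Set.one_lt_ncard_iff_nontrivial.1 (by omega))).2
      ⟨⟨s, hs⟩, by rwa [h.image_fix], rfl⟩)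
  · rintro _ ⟨a, ha, rfl⟩ _ ⟨b, hb, rfl⟩ a1 b1 ab c hc e1 e2
    obtain ⟨d, rfl⟩ := h.con.exists_eq hc
    exact hr.four _ ((p3 a).1 ha).1 _ ((p3 b).1 hb).1 (ne1 a ha a1) (ne1 b hb b1)
      (fun k => ab (congrArg Subtype.val (inj a ha b hb k))) d trivial (h.con.smul_iff.2 e1)
      (h.con.smul_iff.2 e2)

end Cfsg.Agent.HKS
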