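import Mathlib
import Cfsg.Agent.HKS.Defs
import Cfsg.Agent.S2692
import Cfsg.Agent.Cl.QuadBasic
import Cfsg.Agent.Cl.U3
import Cfsg.Agent.Cl.U3Inv

/-! Piece UA: involutory automorphisms of `PSU₃(q)` -/

set_option autoImplicit false

namespace Cfsg.Agent.HKS

open Subgroup MulAction Cfsg.Agent.TT Cfsg.Agent.Perm.TT Cfsg.Agent.Cl.L2
open Cfsg.Agent.KS (St)
open scoped MatrixGroups Pointwise commutatorElement

namespace UA

open Cfsg.Agent.Cl Cfsg.Agent.Cl.Aut Matrix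

variable {F : Type*} [Field F] {τ : F →+* F} {q : ℕ}

/-- A large subspace over the fixed field contains an isotropic vector. -/
theorem iso (hq : UField τ q) (h2 : (2 : F) ≠ 0) (W : Submodule (uFix τ) (Fin 3 → F))
    (hW : q ^ 3 ≤ Nat.card W) : ∃ v ∈ W, v ≠ 0 ∧ uStd τ (Fin 3) v v = 0 := by
  have := hq.finite
  have hB := hq.isHerm_uStd (Fin 3)
  let b : (Fin 3 → F) →ₗ[uFix τ] (Fin 3 → F) →ₗ[uFix τ] uFix τ := LinearMap.mk₂ _
    (fun u w => ⟨uStd τ (Fin 3) u w + uStd τ (Fin 3) w u, by rw [mem_uFix, map_add, hB.symm, hB.symm, add_comm]⟩)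
    (fun u u' w => Subtype.ext (by simp; ring))
    (fun c u w => Subtype.ext (by
      have : τ c = c := c.2
      change uStd τ (Fin 3) ((c : F) • u) w + uStd τ (Fin 3) w ((c : F) • u) = c * (_ + _)
      simp [this, mul_add]))
    (fun u w w' => Subtype.ext (by simp; ring))
    (fun c u w => Subtype.ext (by
      have : τ c = c := c.2
      change uStd τ (Fin 3) u ((c : F) • w) + uStd τ (Fin 3) ((c : F) • w) u = c * (_ + _)
      simp [this, mul_add]))
  by_contra! h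
  have h1 := quad_finrank_le_two_of_anisotropic (LinearMap.BilinMap.toQuadraticMap b) (W := W) fun w hw e => by
    by_contra h0
    refine h w hw h0 (mul_left_cancel₀ h2 ?_)
    rw [two_mul, mul_zero]
    exact congrArg Subtype.val e
  rw [Module.natCard_eq_pow_finrank (K := uFix τ), hq.card_uFix] at hW
  have := (Nat.pow_le_pow_iff_right hq.two_le).1 hW
  omega

/-- A semilinear map whose square is a norm has an isotropic eigenvector. -/
theorem eig (hq : UField τ q) (h2 : (2 : F) ≠ 0) (σ : F →+* F) (hσ : ∀ a, τ a = a → σ a = a)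
    (T : (Fin 3 → F) →ₛₗ[σ] (Fin 3 → F)) {l : F} (l0 : l ≠ 0) (hT : ∀ v, T (T v) = (l * σ l) • v) :
    ∃ v, v ≠ 0 ∧ uStd τ (Fin 3) v v = 0 ∧ ∃ μ : F, T v = μ • v := by
  have := hq.finite
  let W : F → Submodule (uFix τ) (Fin 3 → F) := fun μ =>
    { carrier := {v | T v = μ • v}
      add_mem' := fun {a b} ha hb => by
        change T _ = _
        rw [map_add, ha, hb, smul_add]
      zero_mem' := by simp
      smul_mem' := fun c v hv => by
        change T ((c : F) • v) = μ • (c : F) • v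
        rw [map_smulₛₗ, hσ _ c.2, hv, smul_comm] }
  have s0 : σ l ≠ 0 := by simpa using l0
  have s2 : σ 2 = 2 := map_ofNat σ 2
  have hs : Function.Surjective fun x : W l × W (-l) => (x.1 : Fin 3 → F) + x.2 := fun v => by
    refine ⟨(⟨(2 : F)⁻¹ • (v + l⁻¹ • T v), ?_⟩, ⟨(2 : F)⁻¹ • (v - l⁻¹ • T v), ?_⟩), ?_⟩
    · change T _ = _
      rw [map_smulₛₗ, map_add, map_smulₛₗ, hT, map_inv₀, map_inv₀, s2]
      match_scalars <;> field_simp
    · change T _ = _
      rw [map_smulₛₗ, map_sub, map_smulₛₗ, hT, map_inv₀, map_inv₀, s2]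
      match_scalars <;> field_simp
    · simp only
      match_scalars <;> field_simp <;> ring
  have hc := Nat.card_le_card_of_surjective _ hs
  rw [Nat.card_prod, Nat.card_pi, Finset.prod_const, hq.card, Finset.card_univ, Fintype.card_fin] at hc
  obtain ⟨μ, hμ⟩ : ∃ μ, q ^ 3 ≤ Nat.card (W μ) := by
    by_contra! h
    have := Nat.mul_lt_mul'' (h l) (h (-l))
    rw [← pow_mul, show 2 * 3 = 3 + 3 from rfl, pow_add] at hc
    omega
  obtain ⟨v, hv, v0, hv0⟩ := iso hq h2 _ hμ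
  exact ⟨v, v0, hv0, μ, hv⟩

variable (τ q) in
/-- The transvections with centre `v`. -/
def trv {v : Fin 3 → F} (hv : uStd τ (Fin 3) v v = 0) : Subgroup (SU 3 F q) where
  carrier := {s | ∃ a : F, ∀ x, (suGL 3 F q s : Matrix (Fin 3) (Fin 3) F) *ᵥ x = x + (a * uStd τ (Fin 3) x v) • v}
  one_mem' := ⟨0, fun x => by simp⟩
  mul_mem' := by
    rintro s t ⟨a, ha⟩ ⟨b, hb⟩
    refine ⟨b + a, fun x => ?_⟩
    rw [map_mul, Units.val_mul, ← mulVec_mulVec, hb, ha, map_add, map_smul, LinearMap.add_apply,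
      LinearMap.smul_apply, hv, smul_zero, add_zero, add_mul, add_smul, add_assoc]
  inv_mem' := by
    rintro s ⟨a, ha⟩
    refine ⟨-a, fun x => ?_⟩
    have h1 := ha ((suGL 3 F q s⁻¹ : Matrix (Fin 3) (Fin 3) F) *ᵥ x)
    rw [mulVec_mulVec, ← Units.val_mul, ← map_mul, mul_inv_cancel, map_one, Units.val_one, one_mulVec] at h1
    have h2 := congrArg (fun y => uStd τ (Fin 3) y v) h1
    simp only [map_add, map_smul, LinearMap.add_apply, LinearMap.smul_apply, hv, smul_zero, add_zero] at h2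
    rw [← h2] at h1
    rw [neg_mul, neg_smul, ← sub_eq_add_neg, eq_sub_iff_add_eq, ← h1]

theorem trv_p {p : ℕ} [CharP F p] {v : Fin 3 → F} (hv : uStd τ (Fin 3) v v = 0) : IsPGroup p (trv τ q hv) := by
  rintro ⟨s, a, ha⟩
  have key : ∀ n : ℕ, ∀ x, (suGL 3 F q (s ^ n) : Matrix (Fin 3) (Fin 3) F) *ᵥ x =
      x + (n * a * uStd τ (Fin 3) x v) • v := fun n => by
    induction n with
    | zero => simp
    | succ n ih =>
      intro x
      rw [pow_succ', map_mul, Units.val_mul, ← mulVec_mulVec, ih, ha, map_add, map_smul, LinearMap.add_apply,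
        LinearMap.smul_apply, hv, smul_zero, add_zero, add_assoc, ← add_smul]
      congr 2
      push_cast
      ring
  refine ⟨1, Subtype.ext (suGL_injective (Units.ext (Matrix.toLin'.injective (LinearMap.ext fun x => ?_))))⟩
  rw [pow_one, Subgroup.coe_pow, Matrix.toLin'_apply, key]
  simp

theorem trv_ne (hq : UField τ q) {v : Fin 3 → F} (v0 : v ≠ 0) (hv : uStd τ (Fin 3) v v = 0) :
    (trv τ q hv).map (QuotientGroup.mk' (center (SU 3 F q))) ≠ ⊥ := fun h => by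
  have hB := hq.isHerm_uStd (Fin 3)
  obtain ⟨θ, θ0, hθ⟩ := hq.invol.exists_trace_zero
  let s := (hq.suEquiv 3).symm ⟨_, hB.uRefl_mem_USG hv (c := θ) (by rw [hθ, add_neg_cancel])⟩
  have hs : ∀ x, (suGL 3 F q s : Matrix (Fin 3) (Fin 3) F) *ᵥ x = x + (θ * uStd τ (Fin 3) x v) • v := fun x =>
    (hq.suEquiv_symm_mulVec _ x).trans (uRefl_apply_of_isotropic hv θ x)
  have h1 : QuotientGroup.mk' _ s = 1 := mem_bot.1 (h ▸ mem_map_of_mem _ (⟨θ, hs⟩ : s ∈ trv τ q hv))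
  obtain ⟨a, ha⟩ := (hq.mem_center_SU_iff (by norm_num)).1 ((QuotientGroup.eq_one_iff s).1 h1)
  rw [coe_suGL, ha] at hs
  simp only [smul_mulVec, one_mulVec] at hs
  have h2 := hs v
  rw [hv, mul_zero, zero_smul, add_zero, ← sub_eq_zero, ← one_smul F v, smul_smul, one_smul, ← one_smul F v,
    smul_smul, mul_one, ← sub_smul, smul_eq_zero, mul_one, sub_eq_zero] at h2
  obtain rfl := h2.resolve_right v0
  refine v0 (hB.nondeg v fun y => ?_)
  have h3 := hs y
  rw [one_smul, left_eq_add, smul_eq_zero, mul_eq_zero] at h3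
  rw [← hB.symm, (h3.resolve_right v0).resolve_left θ0, map_zero]

end UA

variable {G Ω : Type*} [Group G] [MulAction G Ω] [Finite G] [Finite Ω] {S : Sp G Ω}
  {Δ Δ' : Set Ω} {x y : Ω}

open Cfsg.Agent.Cl Cfsg.Agent.Cl.Aut Matrix in
theorem ua_psu {F : Type*} [Field F] [Fintype F] {p f q : ℕ} [Fact p.Prime] (hq : q = p ^ f)
    (hf : 1 ≤ f) (hF : Fintype.card F = q ^ 2) (hp : p ≠ 2) (β : MulAut (Cfsg.PSU 3 F q))
    (h2 : β * β = 1) : ∃ X : Subgroup (Cfsg.PSU 3 F q), X ≠ ⊥ ∧ IsPGroup p X ∧ ∀ u ∈ X, β u ∈ X := by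
  obtain ⟨τ, hτ⟩ := exists_uField hF
  have := hτ.charP hq
  have hodd : Odd q := hq ▸ ((Fact.out : p.Prime).odd_of_ne_two hp).pow
  obtain ⟨g, σ, rfl⟩ := (fdU hτ le_rfl).mem_range_Psi.1 (psiU_surjective hτ le_rfl
    (fun h => by rw [h.2] at hodd; exact absurd hodd (by decide)) β)
  have hσ : σ * σ = 1 := (fdU hτ le_rfl).aut_inj (k := 1) (by
    rw [← FD.aut_mul, h2, ← FD.fld_eq, map_one])
  have σσ : ∀ a, σ (σ a) = a := fun a => congrArg (fun ρ : RingAut F => ρ a) hσ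
  obtain ⟨c, hc⟩ := ((fdU hτ le_rfl).pow_eq_one_iff g σ (m := 2) (by rw [pow_two, hσ])).1 (by rw [pow_two, h2])
  set A : Matrix (Fin 3) (Fin 3) F := ((g : GL (Fin 3) F) : Matrix (Fin 3) (Fin 3) F) with hA
  have hc' : A * A.map σ = (c : F) • 1 := by
    rw [← coe_scal]
    exact congrArg (fun γ : GammaL (Fin 3) F => (γ.left : Matrix (Fin 3) (Fin 3) F)) ((pow_two _).symm.trans hc)
  have cm : ∀ (M : Matrix (Fin 3) (Fin 3) F) (u : Fin 3 → F), M.map σ *ᵥ (σ ∘ u) = σ ∘ (M *ᵥ u) := fun M u =>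
    (u_comp_mulVec (σ := (σ : F →+* F)) _ _).symm
  let T : (Fin 3 → F) →ₛₗ[(σ : F →+* F)] (Fin 3 → F) :=
    { toFun := fun v => A *ᵥ (σ ∘ v)
      map_add' := fun u v => by rw [← mulVec_add]; congr 1; ext i; simp
      map_smul' := fun a v => by rw [← mulVec_smul]; congr 1; ext i; simp }
  have hT : ∀ v, T (T v) = (c : F) • v := fun v => by
    change A *ᵥ (σ ∘ (A *ᵥ (σ ∘ v))) = _
    rw [← cm, mulVec_mulVec, hc', smul_mulVec, one_mulVec]
    congr 1
    exact funext fun i => σσ _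
  have hh : ∀ x y, uStd τ (Fin 3) (T x) (T y) = σ (uStd τ (Fin 3) x y) := fun x y => by
    have := g.2 (σ ∘ x) (σ ∘ y)
    rw [hτ.hermForm_eq, hτ.hermForm_eq] at this
    refine this.trans ?_
    simp [uStd_apply, UField.comm hτ]
  have σc : σ c = c := by
    have h1 := congrArg T ((congrArg T (hT (Pi.single 0 1))).symm.trans (hT (T _)))
    rw [map_smulₛₗ, map_smulₛₗ, map_smulₛₗ, hT] at h1
    have h3 := congrFun h1 0
    simp only [Pi.smul_apply, Pi.single_eq_same, smul_eq_mul, RingHom.coe_coe, σσ] at h3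
    exact (mul_right_cancel₀ (by simp) h3).symm
  have hd : A.det * σ A.det = (c : F) ^ 3 := by
    have := congrArg det hc'
    rwa [det_mul, det_smul, det_one, mul_one, Fintype.card_fin, ← RingEquiv.mapMatrix_apply, ← RingEquiv.map_det] at this
  have d0 : A.det ≠ 0 := by
    rintro h
    rw [h, zero_mul] at hd
    exact pow_ne_zero 3 c.ne_zero hd.symm
  have hfix : ∀ a, τ a = a → (σ : F →+* F) a = a := fun a ha => by
    by_cases h1 : ∃ a, (σ : F →+* F) a ≠ a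
    · obtain ⟨q', hq'⟩ := UInvol.exists_uField (σ := (σ : F →+* F)) ⟨σσ, h1⟩
      rw [hq'.pow, (pow_left_inj₀ q'.zero_le q.zero_le two_ne_zero).1 (hq'.card.symm.trans hτ.card), ← hτ.pow, ha]
    · exact not_not.1 fun h => h1 ⟨a, h⟩
  obtain ⟨v, v0, hv, μ, hμ⟩ := UA.eig hτ (hτ.two_ne_zero hodd) σ hfix T (div_ne_zero d0 c.ne_zero) fun v => by
    rw [hT, map_div₀, div_mul_div_comm, RingHom.coe_coe, hd, σc, pow_succ, pow_two, mul_div_cancel_left₀ _ (by simp)]
  refine ⟨_, UA.trv_ne hτ v0 hv, (UA.trv_p hv).map _, ?_⟩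
  rintro _ ⟨s, ⟨a, ha⟩, rfl⟩
  obtain ⟨s', hs'⟩ := exists_conj_of_mem_normG ((fdU hτ le_rfl).norm σ g g.2) s
  have e : (suGL 3 F q s' : Matrix (Fin 3) (Fin 3) F) = A * (suGL 3 F q s : Matrix (Fin 3) (Fin 3) F).map σ *
      (((g : GL (Fin 3) F)⁻¹ : GL (Fin 3) F) : Matrix (Fin 3) (Fin 3) F) := congrArg Units.val hs'
  refine ⟨s', ⟨σ a * τ μ * μ, fun y => ?_⟩, (((fdU hτ le_rfl).eq_aut_iff g σ _).1 rfl s s' e).symm⟩
  obtain ⟨x, rfl⟩ : ∃ x, T x = y := ⟨T ((c : F)⁻¹ • y), by rw [hT, smul_inv_smul₀ c.ne_zero]⟩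
  have e1 : (suGL 3 F q s' : Matrix (Fin 3) (Fin 3) F) *ᵥ T x = T ((suGL 3 F q s : Matrix (Fin 3) (Fin 3) F) *ᵥ x) := by
    change _ *ᵥ (A *ᵥ _) = A *ᵥ _
    rw [e, mulVec_mulVec, hA, Units.inv_mul_cancel_right, ← mulVec_mulVec, cm]
  have e2 := hh x v
  rw [hμ, map_smulₛₗ, smul_eq_mul] at e2
  rw [e1, ha, map_add, map_smulₛₗ, hμ, smul_smul, map_mul, RingHom.coe_coe, ← e2]
  congr 2
  ring

end Cfsg.Agent.HKS
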