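import Mathlib
import Cfsg.Agent.HKS.Basic
import Cfsg.Agent.HKS.UA
import Cfsg.Agent.Cl.U3
import Cfsg.Agent.Cl.UOrder
import Cfsg.Agent.S2360

/-! Piece UMod: the unitary model -/

set_option autoImplicit false
set_option linter.unusedSectionVars false

namespace Cfsg.Agent.HKS

open Subgroup MulAction Cfsg.Agent.TT Cfsg.Agent.Perm.TT Cfsg.Agent.Cl.L2
open Cfsg.Agent.KS (St)
open scoped MatrixGroups Pointwise commutatorElement

variable {G Ω : Type*} [Group G] [MulAction G Ω] [Finite G] [Finite Ω] {S : Sp G Ω}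
  {Δ Δ' : Set Ω} {x y : Ω}

namespace UMod

open Cfsg.Agent.Cl

theorem isConj {F : Type*} [Field F] [Fintype F] {q : ℕ} (hK : Fintype.card F = q ^ 2)
    (hq : Odd q) {s t : PSU 3 F q} (hs : orderOf s = 2) (ht : orderOf t = 2) : IsConj s t := by
  obtain ⟨σ, hσ⟩ := exists_uField hK
  have hc : Nat.card (center (SU 3 F q)) ∣ 3 := by
    rw [hσ.card_center_SU (by norm_num)]; exact Nat.gcd_dvd_left _ _
  have key : ∀ s : PSU 3 F q, orderOf s = 2 →
      ∃ x : SU 3 F q, x ≠ 1 ∧ x * x = 1 ∧ QuotientGroup.mk' _ x = s := fun s hs => by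
    obtain ⟨x, rfl⟩ := QuotientGroup.mk'_surjective _ s
    have h1 : QuotientGroup.mk' (center _) x * QuotientGroup.mk' _ x = 1 := by
      rw [← pow_two, ← hs, pow_orderOf_eq_one]
    have h2 : QuotientGroup.mk' (center _) (x ^ 3) = QuotientGroup.mk' _ x := by
      rw [map_pow, pow_three', h1, one_mul]
    refine ⟨x ^ 3, fun e => ?_, ?_, h2⟩
    · rw [← h2, e, map_one, orderOf_one] at hs; omega
    · rw [← (Commute.refl x).mul_pow, ← orderOf_dvd_iff_pow_eq_one]
      exact ((center _).orderOf_dvd_natCard ((QuotientGroup.eq_one_iff (x * x)).1 h1)).trans hc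
  obtain ⟨x, x1, x2, rfl⟩ := key s hs
  obtain ⟨y, y1, y2, rfl⟩ := key t ht
  exact (QuotientGroup.mk' _).map_isConj (isConj_iff.2 ((S2360.result hq hK x x1 x2).1 y y1 y2))

variable {F : Type} [Field F] {σ : F →+* F} {hσ : UInvol σ} {q : ℕ}

section model

variable {K : Type*} [Group K] (D : U3Data hσ K)

theorem lam : uLam σ (-1) = -1 := Units.ext (by simp [coe_uLam])

theorem tor (h : (2 : F) ≠ 0) {a : UHeis hσ} : UHeis.torus hσ (uLam σ (-1)) a = a ↔ a.b = 0 := by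
  rw [lam, UHeis.ext_iff]
  simp [neg_eq_iff_add_eq_zero, ← two_mul, h]

theorem comm_u (h : (2 : F) ≠ 0) {a : UHeis hσ} : Commute (D.u a) (D.h (-1)) ↔ a.b = 0 := by
  rw [Commute, SemiconjBy, D.h_mul_u, mul_left_inj, D.u_injective.eq_iff, eq_comm, tor h]

theorem comm_w : Commute D.w (D.h (-1)) := by
  rw [Commute, SemiconjBy, D.w_mul_h]
  congr 2
  exact Units.ext (by simp)

theorem ord_z (h : (2 : F) ≠ 0) : orderOf (D.h (-1)) = 2 := by
  refine orderOf_eq_prime (by rw [← map_pow]; simp) fun e => ?_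
  obtain ⟨a, ha⟩ := UHeis.exists_b hσ 1
  exact one_ne_zero (ha.symm.trans ((comm_u D h).1 (e ▸ Commute.one_right _)))

theorem ord_w : orderOf D.w = 2 :=
  orderOf_eq_prime (by rw [pow_two, D.w_sq]) fun e => D.w_notMem_B (e ▸ one_mem _)

theorem z_mem {H : Subgroup K} (h1 : ∀ a : UHeis hσ, a.b = 0 → D.u a ∈ H)
    (h2 : ∀ a : UHeis hσ, a.b = 0 → D.w * D.u a * D.w ∈ H) : D.h (-1) ∈ H := by
  obtain ⟨c, c0, hc⟩ := hσ.exists_trace_zero
  let a := UHeis.cen hσ c (by rw [hc, add_neg_cancel])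
  have h3 := h2 a rfl
  rw [D.rel a c0, mul_mem_cancel_right (h1 _ (by simp [a])), mul_assoc,
    mul_mem_cancel_left (h1 _ (by simp [a]))] at h3
  have h4 := mul_mem h3 h3
  rw [← mul_assoc, D.w_h, ← map_mul] at h4
  convert h4 using 2
  exact Units.ext (by simp [a, hc, c0])

theorem w_ne (h : (2 : F) ≠ 0) {p : Option (UHeis hσ)} (e : D.act (D.h (-1)) p = p) : D.act D.w p ≠ p := by
  cases p with
  | none => simp [D.act_w_none]
  | some a =>
    by_cases a1 : a = 1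
    · simp [a1, D.act_w_one]
    rw [D.act_h_some, Option.some_inj, tor h] at e
    rw [D.act_w_some a1, Ne, Option.some_inj]
    intro k
    have c0 := mt UHeis.eq_one_iff.2 a1
    have h1 : a.c * a.c = 1 := by
      nth_rw 1 [← k]
      exact inv_mul_cancel₀ c0
    have h2 := UHeis.trace_c_of_b e
    rcases mul_self_eq_one_iff.1 h1 with t | t <;> rw [t] at h2
    · exact h (by rw [map_one] at h2; linear_combination h2)
    · exact h (by rw [map_neg, map_one] at h2; linear_combination -h2)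

theorem ncard_fix (hq : UField σ q) (h : (2 : F) ≠ 0) : {p | D.act (D.h (-1)) p = p}.ncard = q + 1 := by
  have := hq.finite
  have : {p | D.act (D.h (-1)) p = p} = insert none (some '' (center (UHeis hσ) : Set (UHeis hσ))) := by
    ext p
    cases p <;> simp [D.act_h_none, D.act_h_some, tor h, UHeis.mem_center_iff]
  rw [this, Set.ncard_insert_of_notMem (by simp), Set.ncard_image_of_injective _ (Option.some_injective _),
    ← Nat.card_coe_set_eq, SetLike.coe_sort_coe, UHeis.card_center hq]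

end model

/-- The action of the group generated by the root groups is the action on the isotropic points. -/
structure Md (S : Sp G Ω) (D : U3Data hσ (S.L Set.univ)) (β : Option (UHeis hσ) → Ω) : Prop where
  bij : Function.Bijective β
  act : ∀ (k : S.L Set.univ) p, (k : G) • β p = β (D.act k p)
  U : ∀ k : S.L Set.univ, (k : G) ∈ S.U (β none) ↔ k ∈ D.u.range

theorem U_le (x : Ω) : S.U x ≤ S.L Set.univ := Sp.UD_univ.ge.trans (Sp.UD_le_L trivial)

theorem cmap {K : Subgroup G} {a b : K} (h : Commute a b) : Commute (a : G) b := h.map K.subtype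

theorem eq_of_mem {u : G} (h1 : u ∈ S.U x) (h2 : u ∈ S.U y) (h : u ≠ 1) : y = x :=
  by_contra fun c => h (S.free x y c u h1 (S.fix y u h2))

theorem exists_md (hq : UField σ q) (hn : Nat.card Ω = q ^ 3 + 1) (D : U3Data hσ (S.L Set.univ)) :
    ∃ β, Md S D β := by
  have := hq.finite
  obtain ⟨p, k, hp, hc, -, hk⟩ := hq.exists_prime_pow
  have := Fact.mk hp
  have h2 := Nat.pow_le_pow_left hq.two_le 3
  obtain ⟨x0, y0, h0⟩ := Finite.one_lt_card_iff_nontrivial.1 (by omega : 1 < Nat.card Ω)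
  have hU : ∀ x, Nat.card ((S.U x).subgroupOf (S.L Set.univ)) = q ^ 3 := fun x => by
    obtain ⟨y, hy⟩ : ∃ y, y ≠ x := (em (x0 = x)).elim (fun e => ⟨y0, e ▸ h0.symm⟩) fun e => ⟨x0, e⟩
    have := S.card_U hy
    rw [Nat.card_congr (subgroupOfEquivOfLe (U_le x)).toEquiv]
    omega
  obtain ⟨g, hg⟩ := D.exists_conj_le_range_u (p := p) (P := (S.U x0).subgroupOf _)
    (IsPGroup.of_card (n := k * 3) (by rw [hU, hk, pow_mul]))
  have e : (S.U ((g : G) • x0)).subgroupOf _ = D.u.range := eq_of_le_of_card_ge (fun u hu => by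
    have := hg (g⁻¹ * u * g) ((Sp.conj_iff (g := (g : G))).1 (by simpa [mul_assoc] using mem_subgroupOf.1 hu))
    simpa [mul_assoc] using this) (by rw [hU, D.card_range_u hq])
  generalize (g : G) • x0 = x at e
  have hB : ∀ k : S.L Set.univ, (k : G) • x = x ↔ k ∈ D.B := fun k => by
    obtain ⟨⟨u, hu⟩, u1⟩ := ne_bot_iff_exists_ne_one.1 D.range_u_ne_bot
    replace u1 : u ≠ 1 := fun c => u1 (Subtype.ext c)
    refine ⟨fun h => D.mem_B_of_conj_mem hu u1 (D.range_u_le_B (e.le (Sp.conj_fix h (e.ge hu)))), fun h => ?_⟩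
    exact eq_of_mem (e.ge (D.conj_mem_range_u h hu)) (S.conj k x u (e.ge hu)) fun c =>
      u1 (Subtype.ext (conj_eq_one_iff.1 c))
  have hE : ∀ a b : S.L Set.univ, (a : G) • x = (b : G) • x ↔ D.act a none = D.act b none := fun a b => by
    rw [← inv_smul_eq_iff, smul_smul, ← coe_inv, ← coe_mul, hB, D.mem_B, D.act_mul, D.act_inv_eq_iff, eq_comm]
  choose r hr using D.exists_act_none
  refine ⟨fun p => (r p : G) • x, (Nat.bijective_iff_injective_and_card _).2 ⟨fun a b h => ?_, ?_⟩, fun k p => ?_,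
    fun k => ?_⟩
  · rwa [hE, hr, hr] at h
  · rw [hn, Finite.card_option, UHeis.card hq]
  · rw [smul_smul, ← coe_mul, hE, D.act_mul, hr, hr]
  · rw [(hB _).2 (hr none), ← e, mem_subgroupOf]

variable {D : U3Data hσ (S.L Set.univ)} {β : Option (UHeis hσ) → Ω} (h : Md S D β)
include h

theorem Md.fix {k : S.L Set.univ} {p : Option (UHeis hσ)} : (k : G) • β p = β p ↔ D.act k p = p := by
  rw [h.act, h.bij.1.eq_iff]

theorem Md.u_mem (a : UHeis hσ) : (D.u a : G) ∈ S.U (β none) := (h.U _).2 ⟨a, rfl⟩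

theorem Md.ex {u : G} (hu : u ∈ S.U (β none)) : ∃ a, u = D.u a :=
  let ⟨a, e⟩ := (h.U ⟨u, U_le _ hu⟩).1 hu; ⟨a, (congrArg Subtype.val e).symm⟩

theorem Md.tr (x : Ω) : ∃ g : S.L Set.univ, (g : G) • β none = x := by
  obtain ⟨p, rfl⟩ := h.bij.2 x
  obtain ⟨g, rfl⟩ := D.exists_act_none p
  exact ⟨g, h.act _ _⟩

theorem Md.z_mem (h2 : (2 : F) ≠ 0) : (D.h (-1) : G) ∈ S.L (fixedBy Ω (D.h (-1) : G)) := by
  have f0 : (D.h (-1) : G) • β none = β none := h.fix.2 (D.act_h_none _)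
  have f1 : (D.h (-1) : G) • β (some 1) = β (some 1) := h.fix.2 (by rw [D.act_h_some, map_one])
  have n0 : β (some 1) ≠ β none := h.bij.1.ne (by simp)
  have k : ∀ a : UHeis hσ, a.b = 0 → (D.u a : G) ∈ S.L (fixedBy Ω (D.h (-1) : G)) := fun a ha => by
    have c : Commute (D.u a : G) (D.h (-1) : G) := cmap ((comm_u D h2).2 ha)
    have m := h.u_mem a
    generalize (D.h (-1) : G) = z at f0 f1 c
    generalize (D.u a : G) = u at c m
    exact Sp.UD_le_L (Δ := fixedBy Ω z) (mem_fixedBy.2 f0) ((Sp.mem_UD_fix n0 f0 f1).2 ⟨m, c⟩)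
  refine UMod.z_mem D (H := (S.L _).subgroupOf _) k fun a ha => ?_
  have := Sp.conj_mem_L (mem_St_fix (cmap (comm_w D))) (k a ha)
  rwa [← coe_inv, D.w_inv] at this

theorem Md.cen (h2 : (2 : F) ≠ 0) {u : G} (hu : u ∈ S.U (β none)) :
    Commute u (D.h (-1) : G) ↔ ∀ v ∈ S.U (β none), Commute u v := by
  obtain ⟨a, rfl⟩ := h.ex hu
  refine Iff.trans ⟨fun c => Subtype.ext c.eq, cmap⟩ ((comm_u D h2 (a := a)).trans ?_)
  rw [← UHeis.mem_center_iff, mem_center_iff]
  refine ⟨fun c v hv => ?_, fun c b => D.u_injective (Subtype.ext ?_)⟩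
  · obtain ⟨b, rfl⟩ := h.ex hv
    exact cmap (Commute.map (show Commute a b from (c b).symm) D.u)
  · simpa using (c _ (h.u_mem b)).eq.symm

theorem Md.std (h2 : (2 : F) ≠ 0) (hx : (D.h (-1) : G) • x = x) :
    ∃ g : G, Commute g (D.h (-1) : G) ∧ g • β none = x := by
  obtain ⟨p, rfl⟩ := h.bij.2 x
  cases p with
  | none => exact ⟨1, Commute.one_left _, one_smul _ _⟩
  | some a =>
    rw [h.fix, D.act_h_some, Option.some_inj, tor h2] at hx
    exact ⟨(D.u a * D.w :), cmap (((comm_u D h2).2 hx).mul_left (comm_w D)), by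
      rw [h.act, D.act_u_w_none]⟩

end UMod

open UMod Cfsg.Agent.Cl in
theorem Sp.du_of_iso (h2 : Two G Ω) (he : Even (Nat.card Ω)) {F : Type} [Field F] [Fintype F]
    {q : ℕ} (hF : Fintype.card F = q ^ 2) (hn : Nat.card Ω = q ^ 3 + 1)
    (e : S.L Set.univ ≃* Cfsg.PSU 3 F q) : S.DU Set.univ q := by
  obtain ⟨σ, hq⟩ := exists_uField hF
  obtain ⟨D0, -⟩ := hq.exists_u3Data_PSU
  obtain ⟨β, h⟩ := exists_md hq hn (D0.mapEquiv e.symm)
  generalize D0.mapEquiv e.symm = D at h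
  have ho : Odd q := by
    rw [hn, Nat.even_add_one, Nat.not_even_iff_odd] at he
    exact (Nat.odd_pow_iff (by norm_num)).1 he
  obtain ⟨p, k, hp, hc, hk, hpk⟩ := hq.exists_prime_pow
  have := Fact.mk hp
  have p2 : p ≠ 2 := by
    rintro rfl
    exact Nat.not_even_iff_odd.2 ho (hpk ▸ (Nat.even_pow.2 ⟨even_two, by omega⟩))
  have t0 : (2 : F) ≠ 0 := fun c => p2 ((Nat.prime_dvd_prime_iff_eq hp Nat.prime_two).1
    ((CharP.cast_eq_zero_iff F p 2).1 c))
  have hW : ∀ g ∈ W G (Set.univ : Set Ω), g = 1 := fun g hg => h2.faith g fun c => mem_W.1 hg c trivial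
  have cj : ∀ z : S.L Set.univ, orderOf z = 2 → ∃ g : S.L Set.univ, g * D.h (-1) * g⁻¹ = z := fun z hz => by
    have := e.symm.toMonoidHom.map_isConj (isConj hF ho ((e.orderOf_eq _).trans (ord_z D t0))
      ((e.orderOf_eq _).trans hz))
    exact isConj_iff.1 (by simpa using this)
  have cj' : ∀ z ∈ S.L Set.univ, orderOf z = 2 → ∃ g : G, g * D.h (-1) * g⁻¹ = z := fun z hz o =>
    let ⟨g, k⟩ := cj ⟨z, hz⟩ ((orderOf_mk _ _).trans o); ⟨g, congrArg Subtype.val k⟩
  refine ⟨Sp.cl_univ, ?_, by rw [Set.ncard_univ, hn], ?_, fun x _ => ?_, fun z hz o => ?_, fun z hz o => ?_,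
    fun z hz o x _ hx u hu => ?_, ?_, fun g _ hg => ?_⟩
  · have := hq.two_le
    obtain ⟨m, rfl⟩ := ho
    omega
  · rw [(eq_bot_iff.2 fun g hg => hW g hg.2 : S.L Set.univ ⊓ W G Set.univ = ⊥), card_bot]
    exact odd_one
  · obtain ⟨g, rfl⟩ := h.tr x
    obtain ⟨a, b, c⟩ := UHeis.exists_not_commute hq.invol
    rw [Sp.UD_univ]
    exact ⟨_, S.conj _ _ _ (h.u_mem a), _, S.conj _ _ _ (h.u_mem b), fun d =>
      c (D.u_injective (Subtype.ext (by simpa using (Basic.cm.1 d).eq)))⟩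
  · obtain ⟨g, rfl⟩ := cj' z hz o
    rw [Set.univ_inter, fix_conj, Set.ncard_smul_set, ← ncard_fix D hq t0, ← Set.ncard_image_of_injective _ h.bij.1]
    congr 1
    ext c
    obtain ⟨c, rfl⟩ := h.bij.2 c
    rw [h.bij.1.mem_set_image, mem_fixedBy, h.fix]
    rfl
  · obtain ⟨g, rfl⟩ := cj' z hz o
    rw [Set.univ_inter, fix_conj, Sp.conj_mem_L_smul]
    exact h.z_mem t0
  · obtain ⟨g, rfl⟩ := cj' z hz o
    obtain ⟨x, rfl⟩ := (MulAction.toPerm g).surjective x
    rw [toPerm_apply, Basic.sm, smul_left_cancel_iff] at hx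
    obtain ⟨l, l1, rfl⟩ := h.std t0 hx
    have : g * D.h (-1) * g⁻¹ = g * l * D.h (-1) * (g * l)⁻¹ := by rw [mul_assoc g l, l1.eq]; group
    obtain ⟨u, rfl⟩ := Basic.cs (g * l) u
    rw [Sp.UD_univ, toPerm_apply, smul_smul] at hu ⊢
    rw [Sp.conj_iff] at hu
    rw [this, Basic.cm, h.cen t0 hu, Basic.all (g * l) (p := fun v => v ∈ S.U ((g * l) • β none) → _)]
    simp only [Sp.conj_iff, Basic.cm, PLift.forall]
  · obtain ⟨g, k⟩ := cj D.w (ord_w D)
    replace k : (g : G) * D.h (-1) * (g : G)⁻¹ = D.w := congrArg Subtype.val k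
    refine ⟨_, (D.h (-1)).2, g, g.2, (orderOf_coe _).trans (ord_z D t0), ?_, fun x _ hx => ?_⟩ <;> rw [k]
    · exact cmap (comm_w D).symm
    · obtain ⟨c, rfl⟩ := h.bij.2 x
      exact mt h.fix.1 (w_ne D t0 (h.fix.1 hx))
  · have : (S.L (Set.univ : Set Ω)).Normal := ⟨fun l hl g => Sp.conj_mem_L (fun _ => Iff.rfl) hl⟩
    obtain ⟨X, X1, X2, X3⟩ := ua_psu hpk hk hF p2 (MulAut.congr e (MulAut.conjNormal g)) (by
      rw [← map_mul, ← map_mul, hW _ hg, map_one, map_one])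
    obtain ⟨l, hl⟩ := D.exists_conj_le_range_u (X2.map e.symm.toMonoidHom)
    have k : ∀ u ∈ X, (e.symm u : G) ∈ S.U ((l : G)⁻¹ • β none) := fun u hu => by
      simpa [mul_assoc] using S.conj (l : G)⁻¹ _ _ ((h.U _).2 (hl _ ⟨u, hu, rfl⟩))
    obtain ⟨⟨u, hu⟩, u1⟩ := ne_bot_iff_exists_ne_one.1 X1
    refine ⟨_, trivial, eq_of_mem ?_ (S.conj g _ _ (k u hu)) fun c => u1 (Subtype.ext ?_)⟩
    · simpa using k _ (X3 u hu)
    · simpa using c

end Cfsg.Agent.HKS
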