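import Mathlib
import Cfsg.Agent.HKS.Tr
import Cfsg.Agent.HKS.UMod
import Cfsg.Agent.S2089
import Cfsg.Agent.Ch.Multiplier

/-! Piece UTr: lifting the unitary type -/

set_option autoImplicit false
set_option linter.unusedSectionVars false

namespace Cfsg.Agent.HKS

open Subgroup MulAction Cfsg.Agent.TT Cfsg.Agent.Perm.TT Cfsg.Agent.Cl.L2
open Cfsg.Agent.KS (St)
open scoped MatrixGroups Pointwise commutatorElement

variable {G Ω : Type*} [Group G] [MulAction G Ω] [Finite G] [Finite Ω] {S : Sp G Ω}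
  {Δ Δ' : Set Ω} {x y : Ω}

namespace UTr

theorem sq {H : Type*} [Group H] {z : H} (hz : orderOf z = 2) : z * z = 1 := by
  rw [← pow_two, ← hz, pow_orderOf_eq_one]

theorem pow_odd {H : Type*} [Group H] {z : H} (hz : z * z = 1) {m : ℕ} (hm : Odd m) :
    z ^ m = z := by
  obtain ⟨k, rfl⟩ := hm
  rw [pow_succ, pow_mul, pow_two, hz, one_pow, one_mul]

theorem pow_card {Z : Subgroup G} {w : G} (hw : w ∈ Z) : w ^ Nat.card Z = 1 :=
  congrArg Subtype.val (pow_card_eq_one' (x := (⟨w, hw⟩ : Z)))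

theorem eq_one {Z : Subgroup G} (ho : Odd (Nat.card Z)) {w : G} (hw : w ∈ Z) (h2 : w * w = 1) :
    w = 1 := (pow_odd h2 ho).symm.trans (pow_card hw)

variable {B Γ : Type*} [Group B] [MulAction B Γ] {S' : Sp B Γ} {π : St G Δ →* B} {ι : Γ → Ω}

theorem odd (h : S.Im Δ S' π ι) (he : Even (Nat.card Ω)) (h2 : Δ.Nontrivial) {Q : Type*}
    [Group Q] {n : ℕ} (hn : Odd n) (hQ : HasCyclicSchurMultiplier Q n) (e : S'.L Set.univ ≃* Q) :
    Odd (Nat.card ↥(S.L Δ ⊓ W G Δ)) := by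
  let ξ₀ : S.L Δ →* S'.L Set.univ :=
    (π.comp (inclusion Sp.L_le_St)).codRestrict _ fun g => h.mem_L.2 ⟨_, g.2, rfl⟩
  have h0 : Function.Surjective ξ₀ := fun b => by
    obtain ⟨g, hg, e⟩ := h.mem_L.1 b.2
    exact ⟨⟨g, hg⟩, Subtype.ext e⟩
  have h1 : ∀ g, g ∈ (e.toMonoidHom.comp ξ₀).ker ↔ (g : G) ∈ W G Δ := fun g => by
    rw [MonoidHom.mem_ker, MonoidHom.comp_apply, MulEquiv.coe_toMonoidHom, MulEquiv.map_eq_one_iff,
      Subtype.ext_iff]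
    exact h.eq_one
  have h3 := hQ.card_inf_dvd (e.toMonoidHom.comp ξ₀) (e.surjective.comp h0) fun g hg =>
    mem_center_iff.2 fun l => Subtype.ext (Sp.commute_L_W h2 l.2 ((h1 g).1 hg)).eq
  rw [Nat.card_congr Multiplicative.toAdd, Nat.card_zmod] at h3
  by_contra hc
  obtain ⟨⟨z, z1, z2⟩, hz⟩ := exists_prime_orderOf_dvd_card' (G := ↥(S.L Δ ⊓ W G Δ)) 2
    (Nat.not_odd_iff_even.1 hc).two_dvd
  replace hz : orderOf z = 2 := (orderOf_coe _).trans hz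
  have h4 : (⟨z, z1⟩ : S.L Δ) ∈ commutator (S.L Δ) := by
    rw [← Abelianization.ker_of]
    exact h.cl.hom_two he h2 Abelianization.of ⟨1, by
      rw [pow_one, pow_two]; exact Subtype.ext (sq hz)⟩
  have h5 := orderOf_dvd_natCard (⟨⟨z, z1⟩, (h1 _).2 z2, h4⟩ :
    ↥((e.toMonoidHom.comp ξ₀).ker ⊓ commutator (S.L Δ)))
  rw [← orderOf_coe, ← orderOf_coe, hz] at h5
  exact hn.not_two_dvd_nat (h5.trans h3)

theorem inj (h : S.Im Δ S' π ι) (h2 : Δ.Nontrivial) {u v : St G Δ} (hu : (u : G) ∈ S.U x)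
    (hv : (v : G) ∈ S.U x) (e : π u = π v) : u = v := by
  obtain ⟨y, hy, ne⟩ := h2.exists_ne x
  obtain ⟨c, rfl⟩ := h.con.exists_eq hy
  exact Subtype.ext (Sp.ext_U hu hv ne (by rw [← h.con.smul, ← h.con.smul, e]))

theorem ord (h : S.Im Δ S' π ι) (ho : Odd (Nat.card ↥(S.L Δ ⊓ W G Δ))) {z : G} (hz : z ∈ S.L Δ)
    (h2 : orderOf z = 2) : orderOf (π ⟨z, Sp.L_le_St hz⟩) = 2 :=
  orderOf_eq_prime (by rw [pow_two, ← map_mul, ← map_one π]; exact congrArg π (Subtype.ext (sq h2)))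
    fun e => by simp [eq_one ho ⟨hz, h.eq_one.1 e⟩ (sq h2)] at h2

theorem mem_UD' (h : S.Im Δ S' π ι) {c : Γ} {u : G} (hu : u ∈ S.UD Δ (ι c)) :
    π ⟨u, hu.2⟩ ∈ S'.UD Set.univ c := by
  have := h.con.finite
  have := h.con.finite_pts
  rw [Sp.UD_univ]
  exact h.mem_U.2 ⟨_, hu, rfl⟩

theorem lift (h : S.Im Δ S' π ι) (ho : Odd (Nat.card ↥(S.L Δ ⊓ W G Δ))) {b : B}
    (hb : b ∈ S'.L Set.univ) (h2 : orderOf b = 2) :
    ∃ z : St G Δ, (z : G) ∈ S.L Δ ∧ orderOf (z : G) = 2 ∧ π z = b := by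
  obtain ⟨g, hg, rfl⟩ := h.mem_L.1 hb
  have h1 : π (g ^ Nat.card ↥(S.L Δ ⊓ W G Δ)) = π g := by rw [map_pow, pow_odd (sq h2) ho]
  refine ⟨_, pow_mem hg _, orderOf_eq_prime ?_ fun e => ?_, h1⟩
  · rw [coe_pow, ← pow_mul, mul_comm, pow_mul]
    exact pow_card ⟨pow_mem hg 2, (h.eq_one (g := g ^ 2)).1 (by rw [map_pow, pow_two, sq h2])⟩
  · rw [show g ^ Nat.card ↥(S.L Δ ⊓ W G Δ) = 1 from Subtype.ext e, map_one] at h1
    simp [← h1] at h2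

theorem comm0 {Z : Subgroup G} (ho : Odd (Nat.card Z)) {a b : G} (b2 : b * b = 1)
    (h1 : a * b * a⁻¹ * b⁻¹ ∈ Z) (h3 : Commute b (a * b * a⁻¹ * b⁻¹)) : Commute a b := by
  have h4 : (a * b * a⁻¹) * (a * b * a⁻¹) = 1 := by rw [conj_mul, b2]; group
  have h5 : a * b * a⁻¹ = a * b * a⁻¹ * b⁻¹ * b := by group
  generalize hk : a * b * a⁻¹ * b⁻¹ = k at h1 h3 h5
  rw [h5, mul_assoc, ← mul_assoc b, h3.eq, mul_assoc, b2, mul_one] at h4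
  rw [eq_one ho h1 h4] at hk
  exact commutatorElement_eq_one_iff_commute.1 hk

theorem comm1 (h : S.Im Δ S' π ι) (h2 : Δ.Nontrivial) (ho : Odd (Nat.card ↥(S.L Δ ⊓ W G Δ)))
    {a b : St G Δ} (ha : (a : G) ∈ S.L Δ) (hb : (b : G) ∈ S.L Δ) (b2 : (b : G) * b = 1)
    (e : Commute (π a) (π b)) : Commute (a : G) b :=
  have h1 : (a : G) * b * (a : G)⁻¹ * (b : G)⁻¹ ∈ W G Δ :=
    (h.eq_one (g := a * b * a⁻¹ * b⁻¹)).1 (by simp only [map_mul, map_inv]; rw [e.eq]; group)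
  comm0 ho b2 (mem_inf.2 ⟨mul_mem (mul_mem (mul_mem ha hb) (inv_mem ha)) (inv_mem hb), h1⟩)
    (Sp.commute_L_W h2 hb h1)

end UTr

open UTr

theorem Sp.Im.du {B Γ : Type*} [Group B] [MulAction B Γ] {S' : Sp B Γ} {π : St G Δ →* B}
    {ι : Γ → Ω} (h : S.Im Δ S' π ι) (he : Even (Nat.card Ω)) (h3 : 2 < Δ.ncard) (hu : S'.U0) :
    ∃ q, S.DU Δ q := by
  obtain ⟨F, _, _, q, hF, hn, ⟨e⟩⟩ := hu
  have := h.con.finite
  have := h.con.finite_pts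
  have h2 : Δ.Nontrivial := Set.one_lt_ncard_iff_nontrivial.1 (by omega)
  have D := Sp.du_of_iso (h.two h3) (h.con.card_pts ▸ h.cl.even he h2) hF hn e
  have hq := D.three
  have ho := odd h he h2 (Odd.of_dvd_nat (by decide : Odd 3) (Nat.gcd_dvd_left 3 (q + 1)))
    (S2089.result 3 q hF le_rfl (by omega) (by simp)) e
  have hfix : ∀ z (hz : z ∈ S.L Δ), orderOf z = 2 →
      (fixedBy Γ (π ⟨z, Sp.L_le_St hz⟩)).ncard = q + 1 := fun z hz z2 => by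
    simpa using D.fix _ (h.mem_L.2 ⟨⟨z, Sp.L_le_St hz⟩, hz, rfl⟩) (ord h ho hz z2)
  refine ⟨q, h.cl, hq, h.con.card_pts ▸ hn, ho, fun x hx => ?_, fun z hz z2 => ?_,
    fun z hz z2 => ?_, fun z hz z2 x hx zx u hu => ?_, ?_, fun g hg g2 => ?_⟩
  · obtain ⟨c, rfl⟩ := h.con.exists_eq hx
    obtain ⟨u, hu, v, hv, nc⟩ := D.nc c trivial
    rw [Sp.UD_univ] at hu hv
    obtain ⟨u, hu', rfl⟩ := h.mem_U.1 hu
    obtain ⟨v, hv', rfl⟩ := h.mem_U.1 hv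
    exact ⟨u, hu', v, hv', fun k => nc (Commute.map (show Commute u v from Subtype.ext k.eq) π)⟩
  · rw [← h.image_fix ⟨z, Sp.L_le_St hz⟩, Set.ncard_image_of_injective _ h.con.inj, hfix z hz z2]
  · have h4 : (fixedBy Γ (π ⟨z, Sp.L_le_St hz⟩)).Nontrivial :=
      Set.one_lt_ncard_iff_nontrivial.1 (by rw [hfix z hz z2]; omega)
    have h5 := D.mem _ (h.mem_L.2 ⟨⟨z, Sp.L_le_St hz⟩, hz, rfl⟩) (ord h ho hz z2)
    rw [Set.univ_inter] at h5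
    obtain ⟨g, hg, e1⟩ := (h.mem_L_sub h4).1 h5
    have h6 := h4.image h.con.inj
    rw [h.image_fix] at hg h6
    have h7 := h.cl.L_mono h6 Set.inter_subset_left hg
    have h8 : (g : G)⁻¹ * z ∈ S.L Δ ⊓ W G Δ := mem_inf.2 ⟨mul_mem (inv_mem h7) hz,
      (h.eq_one (g := g⁻¹ * ⟨z, Sp.L_le_St hz⟩)).1 (by rw [map_mul, map_inv, e1, inv_mul_cancel])⟩
    have h9 := (Sp.commute_L_W h2 h7 h8.2).mul_pow (Nat.card ↥(S.L Δ ⊓ W G Δ))
    rw [mul_inv_cancel_left, pow_card h8, mul_one, pow_odd (sq z2) ho] at h9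
    have := pow_mem hg (Nat.card ↥(S.L Δ ⊓ W G Δ))
    rwa [← h9] at this
  · obtain ⟨c, rfl⟩ := h.con.exists_eq hx
    have h4 := D.cen _ (h.mem_L.2 ⟨⟨z, Sp.L_le_St hz⟩, hz, rfl⟩) (ord h ho hz z2) c trivial
      (h.con.smul_iff.2 zx) _ (mem_UD' h hu)
    constructor
    · intro k v hv
      have := h4.1 (Commute.map (show Commute (⟨u, hu.2⟩ : St G Δ) ⟨z, Sp.L_le_St hz⟩ from
        Subtype.ext k.eq) π) _ (mem_UD' h hv)
      exact congrArg Subtype.val (inj h h2 (u := ⟨u, hu.2⟩ * ⟨v, hv.2⟩) (v := ⟨v, hv.2⟩ * ⟨u, hu.2⟩)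
        (mul_mem hu.1 hv.1) (mul_mem hv.1 hu.1) (by rw [map_mul, map_mul, this.eq]))
    · intro k
      have := h4.2 fun v hv => by
        rw [Sp.UD_univ] at hv
        obtain ⟨v, hv', rfl⟩ := h.mem_U.1 hv
        exact Commute.map (show Commute (⟨u, hu.2⟩ : St G Δ) v from Subtype.ext (k v hv').eq) π
      exact (mul_inv_eq_iff_eq_mul.1 (congrArg Subtype.val (inj h h2
        (u := ⟨z, Sp.L_le_St hz⟩ * ⟨u, hu.2⟩ * ⟨z, Sp.L_le_St hz⟩⁻¹) (v := ⟨u, hu.2⟩)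
        (Sp.conj_fix zx hu.1) hu.1 (by
          rw [map_mul, map_mul, map_inv, ← this.eq, mul_inv_cancel_right])))).symm
  · obtain ⟨z, hz0, ρ, hρ0, z2, hc, hf⟩ := D.pair
    obtain ⟨z, hz, z2', rfl⟩ := lift h ho hz0 z2
    obtain ⟨ρ, hρ, rfl⟩ := h.mem_L.1 hρ0
    rw [← map_inv, ← map_mul, ← map_mul] at hc hf
    refine ⟨z, hz, ρ, hρ, z2', comm1 h h2 ho (b := ρ * z * ρ⁻¹) hz
      (mul_mem (mul_mem hρ hz) (inv_mem hρ)) ?_ hc, fun x hx zx k => ?_⟩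
    · change (ρ : G) * z * (ρ : G)⁻¹ * (ρ * z * (ρ : G)⁻¹) = 1
      rw [conj_mul, sq z2']; group
    · obtain ⟨c, rfl⟩ := h.con.exists_eq hx
      exact hf c trivial (h.con.smul_iff.2 zx) (h.con.smul_iff.2 k)
  · obtain ⟨c, -, k⟩ := D.ua (π ⟨g, hg⟩) (fun _ => Iff.rfl) (by
      rw [← map_mul, (h.eq_one (g := ⟨g, hg⟩ * ⟨g, hg⟩)).2 g2]; exact one_mem _)
    exact ⟨ι c, h.con.mem c, h.con.smul_iff.1 k⟩

end Cfsg.Agent.HKS
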